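import Cfsg.Agent.Lib.Frobenius.Complement
import Cfsg.Agent.Lib.PGroup.Power

/-!
Structure of groups acting fixed-point-freely.

Main results (namespace `Cfsg.Agent.Frobenius`):
* `SmallCyclic.eq_of_involution` : at most one involution
* `SmallCyclic.isCyclic_of_pgroup_odd`, `SmallCyclic.isCyclic_sylow`, `SmallCyclic.isZGroup_of_odd`
* `SmallCyclic.center_ne_bot`
* `exists_inverting_involution` : even order acting group: unique involution, kernel inverted
-/

namespace Cfsg.Agent.Frobenius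

open scoped commutatorElement

theorem inv_mem_zpowers_eq {A : Type*} [Group A] {a b : A} (h : a ∈ Subgroup.zpowers b)
    (hb : orderOf b = 2) (ha : a ≠ 1) : a = b := by
  obtain ⟨i, rfl⟩ := Subgroup.mem_zpowers_iff.1 h
  rw [← zpow_mod_orderOf, hb] at ha ⊢
  rcases Int.emod_two_eq_zero_or_one i with h' | h' <;> rw [Nat.cast_ofNat, h'] at ha ⊢
  · exact absurd (zpow_zero b) ha
  · exact zpow_one b

namespace SmallCyclic

variable {A : Type*} [Group A] [Finite A]

/-- There is at most one involution. -/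
theorem eq_of_involution (h : SmallCyclic A) {s t : A} (hs : orderOf s = 2) (ht : orderOf t = 2) :
    s = t := by
  have hne : ∀ u : A, orderOf u = 2 → u ≠ 1 := fun u hu e => by simp [e] at hu
  have hss : s * s = 1 := by rw [← sq, ← hs, pow_orderOf_eq_one]
  have htt : t * t = 1 := by rw [← sq, ← ht, pow_orderOf_eq_one]
  have hcomm : ∀ u z : A, orderOf u = 2 → orderOf z = 2 → Commute u z → u = z := fun u z hu hz hc =>
    inv_mem_zpowers_eq (h.mem_zpowers_of_commute Nat.prime_two hu hz hc) hz (hne u hu)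
  by_contra hst
  have hd1 : s * t ≠ 1 := fun e => hst (by
    calc s = s * (t * t) := by rw [htt, mul_one]
      _ = s * t * t := (mul_assoc _ _ _).symm
      _ = t := by rw [e, one_mul])
  obtain ⟨q, hq, hqd⟩ :=
    Nat.exists_prime_and_dvd (n := orderOf (s * t)) (fun e => hd1 (orderOf_eq_one_iff.1 e))
  have := Fact.mk hq
  set y := (s * t) ^ (orderOf (s * t) / q) with hy
  have hyo : orderOf y = q := orderOf_pow_orderOf_div (orderOf_pos _).ne' hqd
  have hinv : ∀ u : A, u * (s * t) * u⁻¹ = (s * t)⁻¹ → u * y * u⁻¹ = y⁻¹ := fun u hu => by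
    rw [hy, ← conj_pow, hu, inv_pow]
  have his : s * y * s⁻¹ = y⁻¹ := hinv s (by
    rw [mul_inv_rev, inv_eq_of_mul_eq_one_right hss, inv_eq_of_mul_eq_one_right htt,
      ← mul_assoc, hss, one_mul])
  have hit : t * y * t⁻¹ = y⁻¹ := hinv t (by
    rw [mul_inv_rev, inv_eq_of_mul_eq_one_right hss, inv_eq_of_mul_eq_one_right htt,
      mul_assoc, mul_assoc, htt, mul_one])
  have hmem : ∀ u : A, u * y * u⁻¹ = y⁻¹ → u * y * u⁻¹ ∈ Subgroup.zpowers y := fun u hu => by
    rw [hu]; exact inv_mem (Subgroup.mem_zpowers y)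
  have hcs := h.commute_of_prime_order (x := s) (by rw [hs]; exact Nat.prime_two)
    (by rw [hyo]; exact hq) (hmem s his)
  have hct := h.commute_of_prime_order (x := t) (by rw [ht]; exact Nat.prime_two)
    (by rw [hyo]; exact hq) (hmem t hit)
  have hy2 : y * y = 1 := by
    rw [hcs.eq, mul_inv_cancel_right] at his
    exact mul_eq_one_iff_eq_inv.2 his
  have hy2' : orderOf y = 2 :=
    orderOf_eq_prime (by rw [sq]; exact hy2) (fun e => hq.ne_one (by rw [← hyo, e, orderOf_one]))
  exact hst ((hcomm s y hs hy2' hcs).trans (hcomm t y ht hy2' hct).symm)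

/-- For odd `p` all `p`-subgroups are cyclic. -/
theorem isCyclic_of_pgroup_odd (h : SmallCyclic A) {p : ℕ} [hp : Fact p.Prime] (hp2 : p ≠ 2)
    {P : Subgroup A} (hP : IsPGroup p P) : IsCyclic P := by
  suffices key : ∀ (n : ℕ) (P : Subgroup A), IsPGroup p P → Nat.card P = n → IsCyclic P from
    key _ P hP rfl
  clear hP P
  intro n
  induction n using Nat.strong_induction_on with
  | _ n ih =>
  intro P hP hn
  obtain ⟨k, hk⟩ := hP.exists_card_eq
  rcases k with _ | _ | k
  · rw [pow_zero] at hk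
    rw [Subgroup.card_eq_one.1 hk]
    infer_instance
  · rw [zero_add, pow_one] at hk
    exact isCyclic_of_prime_card hk
  -- a normal subgroup of index `p`
  obtain ⟨M, hMc⟩ := Sylow.exists_subgroup_card_pow_prime (G := P) (n := k + 1) p
    (hk ▸ pow_dvd_pow p (by omega))
  have hMi : M.index = p := by
    have := M.card_mul_index
    rw [hMc, hk, pow_succ p (k + 1)] at this
    exact Nat.eq_of_mul_eq_mul_left (pow_pos hp.out.pos _) this
  have hMn : M.Normal := by
    refine Subgroup.normal_of_index_eq_minFac_card ?_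
    rw [hMi, hk, Nat.pow_minFac (by omega), hp.out.minFac_eq]
  have hlt : ∀ K : Subgroup P, K ≠ ⊤ → IsCyclic K := by
    intro K hK
    have e := K.equivMapOfInjective P.subtype P.subtype_injective
    have : IsCyclic (K.map P.subtype) := by
      refine ih _ ?_ _ (hP.to_le (Subgroup.map_subtype_le K)) rfl
      rw [← Nat.card_congr e.toEquiv, ← hn]
      exact lt_of_le_of_ne (Subgroup.card_le_card_group K)
        (fun e' => hK (Subgroup.card_eq_iff_eq_top K |>.1 e'))
    exact isCyclic_of_surjective e.symm e.symm.surjective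
  have hMtop : M ≠ ⊤ := fun e => hp.out.ne_one (by rw [← hMi, e, Subgroup.index_top])
  obtain ⟨a, ha⟩ := (Subgroup.isCyclic_iff_exists_zpowers_eq_top M).1 (hlt M hMtop)
  have haM : a ∈ M := ha ▸ Subgroup.mem_zpowers a
  have hao : orderOf a = p ^ (k + 1) := by rw [← Nat.card_zpowers, ha, hMc]
  -- every element of order `p` lies in `M`
  set z := a ^ (p ^ k) with hz
  have hzo : orderOf z = p := by
    rw [hz, orderOf_pow_of_dvd (pow_ne_zero _ hp.out.ne_zero) (by rw [hao]; exact pow_dvd_pow p (by omega)),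
      hao, pow_succ, Nat.mul_div_cancel_left _ (pow_pos hp.out.pos _)]
  have huniq : ∀ w : P, orderOf w = p → w ∈ M := fun w hw => by
    obtain ⟨i, hi⟩ := Subgroup.mem_zpowers_iff.1 (h.mem_zpowers_of_orderOf_eq hP w.2 z.2
      (by rwa [Subgroup.orderOf_coe]) (by rwa [Subgroup.orderOf_coe]))
    rw [show w = z ^ i from Subtype.ext (by simpa using hi.symm)]
    exact M.zpow_mem (M.pow_mem haM _) i
  obtain ⟨x, hx⟩ : ∃ x : P, x ∉ M := by
    by_contra hall
    push Not at hall
    exact hMtop (eq_top_iff.2 fun w _ => hall w)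
  have hxp : x ^ p ∈ M := by rw [← hMi]; exact M.pow_index_mem x
  obtain ⟨i, hi⟩ := Subgroup.mem_zpowers_iff.1 (show x ^ p ∈ Subgroup.zpowers a by rw [ha]; exact hxp)
  by_cases hpi : (p : ℤ) ∣ i
  swap
  · -- `x ^ p` generates `M`, so `x` generates the whole group
    refine isCyclic_of_orderOf_eq_card x ?_
    have h1 : orderOf (x ^ p) = p ^ (k + 1) := by
      rw [← hi, ← Nat.card_zpowers]
      suffices Subgroup.zpowers (a ^ i) = Subgroup.zpowers a by
        rw [this, Nat.card_zpowers, hao]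
      refine le_antisymm (Subgroup.zpowers_le.2 ⟨i, rfl⟩) (Subgroup.zpowers_le.2 ?_)
      have hcop : IsCoprime i ((p : ℤ) ^ (k + 1)) :=
        (((Nat.prime_iff_prime_int.1 hp.out).coprime_iff_not_dvd.2 hpi).symm).pow_right
      obtain ⟨u, v, huv⟩ := hcop
      refine ⟨u, ?_⟩
      show (a ^ i) ^ u = a
      have hav : a ^ (v * (p : ℤ) ^ (k + 1)) = 1 := by
        rw [mul_comm, zpow_mul, ← Nat.cast_pow, zpow_natCast, ← hao, pow_orderOf_eq_one, one_zpow]
      calc (a ^ i) ^ u = a ^ (u * i) * a ^ (v * (p : ℤ) ^ (k + 1)) := by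
            rw [hav, mul_one, ← zpow_mul, mul_comm]
        _ = a := by rw [← zpow_add, huv, zpow_one]
    have hpd : p ∣ orderOf x := by
      obtain ⟨j, hj⟩ := IsPGroup.iff_orderOf.1 hP x
      rw [hj]
      refine dvd_pow_self p ?_
      rintro rfl
      exact hx (by rw [show x = 1 from orderOf_eq_one_iff.1 (by simpa using hj)]; exact M.one_mem)
    have h2 := orderOf_pow_of_dvd hp.out.ne_zero hpd
    rw [h1] at h2
    rw [hk, pow_succ, h2, Nat.div_mul_cancel hpd]
  obtain ⟨j, rfl⟩ := hpi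
  set N := Subgroup.zpowers (a ^ p)
  have hNM : N ≤ M := Subgroup.zpowers_le.2 (M.pow_mem haM _)
  have hconj : ∀ w : P, w * a ^ p * w⁻¹ ∈ N := fun w => by
    obtain ⟨r, hr⟩ := Subgroup.mem_zpowers_iff.1
      (show w * a * w⁻¹ ∈ Subgroup.zpowers a by rw [ha]; exact hMn.conj_mem a haM w)
    refine ⟨r, ?_⟩
    show (a ^ p) ^ r = _
    rw [← conj_pow, ← hr, ← zpow_natCast, ← zpow_natCast, ← zpow_mul, ← zpow_mul, mul_comm]
  have hNn : N.Normal := ⟨fun w hw g => by
    obtain ⟨r, rfl⟩ := Subgroup.mem_zpowers_iff.1 hw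
    rw [← conj_zpow]
    exact N.zpow_mem (hconj g) r⟩
  have hxpN : x ^ p ∈ N := ⟨j, by
    show (a ^ p) ^ j = x ^ p
    rw [← hi, zpow_mul, zpow_natCast]⟩
  have hK : N ⊔ Subgroup.zpowers x ≠ ⊤ := by
    intro e
    have ha' : a ∈ N ⊔ Subgroup.zpowers x := by rw [e]; trivial
    obtain ⟨w, hw, u, hu, hwu⟩ := Subgroup.mem_sup_of_normal_left.1 ha'
    obtain ⟨r, rfl⟩ := Subgroup.mem_zpowers_iff.1 hu
    have hxr : x ^ r ∈ M := by
      have h2 := M.mul_mem (M.inv_mem (hNM hw)) haM
      rwa [← hwu, inv_mul_cancel_left] at h2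
    have hpr : (p : ℤ) ∣ r := by
      by_contra hpr
      obtain ⟨u', v', huv⟩ := ((Nat.prime_iff_prime_int.1 hp.out).coprime_iff_not_dvd.2 hpr).symm
      apply hx
      rw [show x = (x ^ r) ^ u' * (x ^ p) ^ v' by
        rw [← zpow_natCast, ← zpow_mul, ← zpow_mul, ← zpow_add, mul_comm r, mul_comm (p : ℤ), huv,
          zpow_one]]
      exact M.mul_mem (M.zpow_mem hxr _) (M.zpow_mem hxp _)
    obtain ⟨r', rfl⟩ := hpr
    have haN : a ∈ N := by
      rw [← hwu, zpow_mul, zpow_natCast]
      exact N.mul_mem hw (N.zpow_mem hxpN _)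
    have : M ≤ N := ha ▸ Subgroup.zpowers_le.2 haN
    have h3 := Subgroup.card_le_of_le this
    rw [hMc, Nat.card_zpowers, orderOf_pow_of_dvd hp.out.ne_zero (hao ▸ dvd_pow_self p (by omega)),
      hao] at h3
    exact absurd h3 (not_le.2 (Nat.div_lt_self (pow_pos hp.out.pos _) hp.out.one_lt))
  have hcx : Commute x (a ^ p) := by
    let _ := (hlt _ hK).commGroup
    exact congrArg Subtype.val (mul_comm
      (⟨x, le_sup_right (a := N) (Subgroup.mem_zpowers x)⟩ : ↥(N ⊔ Subgroup.zpowers x))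
      ⟨a ^ p, le_sup_left (a := N) (Subgroup.mem_zpowers _)⟩)
  -- commutators with `x` are central of order dividing `p`
  set w := a ^ (-j) with hw
  have hwM : w ∈ M := M.zpow_mem haM _
  have hcomM : ∀ u ∈ M, Commute w u := fun u hu => by
    obtain ⟨r, rfl⟩ := Subgroup.mem_zpowers_iff.1 (show u ∈ Subgroup.zpowers a by rwa [ha])
    exact (Commute.refl a).zpow_zpow _ _
  set c := ⁅w, x⁆ with hc
  have hcM : c ∈ M := by
    rw [hc, commutatorElement_def, mul_assoc, mul_assoc]
    refine M.mul_mem hwM ?_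
    rw [← mul_assoc]
    exact hMn.conj_mem _ (M.inv_mem hwM) x
  have hwp : Commute x (w ^ p) := by
    rw [hw, ← zpow_natCast, ← zpow_mul, mul_comm, zpow_mul, zpow_natCast]
    exact hcx.zpow_right _
  have hcp : c ^ p = 1 := by
    rw [hc, ← PGroup.commutator_pow_left (hcomM c hcM) p, commutatorElement_eq_one_iff_commute]
    exact hwp.symm
  have hcc : Commute x c := by
    rcases eq_or_ne c 1 with e | hc1
    · rw [e]; exact Commute.one_right x
    have hco : orderOf c = p := orderOf_eq_prime hcp hc1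
    have hnt : Nontrivial P := ⟨⟨x, 1, fun e => hx (e ▸ M.one_mem)⟩⟩
    have := hP.center_nontrivial
    obtain ⟨e, he, he0⟩ := (hP.to_subgroup (Subgroup.center P)).exists_card_eq.imp
      fun e he => (⟨he, by
        rintro rfl
        exact absurd he (by rw [pow_zero]; exact Finite.one_lt_card.ne')⟩ :
          Nat.card (Subgroup.center P) = p ^ e ∧ e ≠ 0)
    obtain ⟨u, hu⟩ := exists_prime_orderOf_dvd_card' (G := Subgroup.center P) p
      (he ▸ dvd_pow_self p he0)
    obtain ⟨r, hr⟩ := Subgroup.mem_zpowers_iff.1 (h.mem_zpowers_of_orderOf_eq hP c.2 (u : P).2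
      (by rwa [Subgroup.orderOf_coe]) (by rw [Subgroup.orderOf_coe, Subgroup.orderOf_coe, hu]))
    rw [show c = (u : P) ^ r from Subtype.ext (by simpa using hr.symm)]
    exact (Subgroup.mem_center_iff.1 ((Subgroup.center P).zpow_mem u.2 r) x : _)
  exfalso
  have hy : (x * w) ^ p = 1 := by
    rw [PGroup.mul_pow_prime_eq hp.out hp2 hcc (hcomM c hcM) hcp, ← hi, hw, ← zpow_natCast,
      ← zpow_mul, ← zpow_add, show (p : ℤ) * j + -j * p = 0 by ring, zpow_zero]
  have hy1 : x * w ≠ 1 := fun e => hx (by rw [mul_eq_one_iff_eq_inv.1 e]; exact M.inv_mem hwM)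
  exact hx ((M.mul_mem_cancel_right hwM).1 (huniq _ (orderOf_eq_prime hy hy1)))

theorem isCyclic_sylow (h : SmallCyclic A) {p : ℕ} [Fact p.Prime] (hp2 : p ≠ 2) (P : Sylow p A) :
    IsCyclic P :=
  h.isCyclic_of_pgroup_odd hp2 P.isPGroup'

theorem isZGroup_of_odd (h : SmallCyclic A) (hodd : ¬ 2 ∣ Nat.card A) : IsZGroup A := by
  rw [isZGroup_iff]
  intro p hp P
  have := Fact.mk hp
  by_cases hp2 : p = 2
  · subst hp2
    have h1 : Nat.card P = 1 := by
      rw [P.card_eq_multiplicity, Nat.factorization_eq_zero_of_not_dvd hodd, pow_zero]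
    rw [Subgroup.card_eq_one.1 h1]
    infer_instance
  · exact h.isCyclic_sylow hp2 P

/-- The centre is non-trivial. -/
theorem center_ne_bot (h : SmallCyclic A) [Nontrivial A] : Subgroup.center A ≠ ⊥ := by
  by_cases hev : 2 ∣ Nat.card A
  · obtain ⟨s, hs⟩ := exists_prime_orderOf_dvd_card' (G := A) 2 hev
    intro hbot
    have hmem : s ∈ Subgroup.center A := Subgroup.mem_center_iff.2 fun g => by
      have hgo : orderOf (g * s * g⁻¹) = 2 := by rw [← MulAut.conj_apply, MulEquiv.orderOf_eq, hs]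
      exact mul_inv_eq_iff_eq_mul.1 (h.eq_of_involution hgo hs)
    rw [hbot, Subgroup.mem_bot] at hmem
    simp [hmem] at hs
  have := h.isZGroup_of_odd hev
  have hcyc := IsZGroup.isCyclic_commutator A
  have hcop := IsZGroup.coprime_commutator_index (G := A)
  have hidx : (commutator A).index ≠ 1 :=
    fun e => (IsZGroup.commutator_lt (G := A)).ne (Subgroup.index_eq_one.1 e)
  obtain ⟨p, hp, hpd⟩ := Nat.exists_prime_and_dvd hidx
  have := Fact.mk hp
  obtain ⟨x, hx⟩ := exists_prime_orderOf_dvd_card' (G := A) p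
    (hpd.trans (Subgroup.index_dvd_card _))
  have hpC : ∀ c ∈ commutator A, c ^ p = 1 → c = 1 := by
    intro c hc hcp
    have h1 : orderOf c ∣ Nat.gcd (Nat.card (commutator A)) (commutator A).index :=
      Nat.dvd_gcd (Subgroup.orderOf_dvd_natCard _ hc) ((orderOf_dvd_of_pow_eq_one hcp).trans hpd)
    rw [hcop.gcd_eq_one, Nat.dvd_one] at h1
    exact orderOf_eq_one_iff.1 h1
  let _ := hcyc.commGroup
  -- `x` centralises the commutator subgroup
  let D : commutator A →* commutator A :=
    { toFun := fun c => ⟨x * c * x⁻¹ * (c : A)⁻¹,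
        (commutator A).mul_mem ((Subgroup.commutator_normal ⊤ ⊤).conj_mem _ c.2 x) (inv_mem c.2)⟩
      map_one' := Subtype.ext (by simp)
      map_mul' := fun c d => Subtype.ext (by
        show x * ((c : A) * d) * x⁻¹ * ((c : A) * d)⁻¹ =
          x * c * x⁻¹ * (c : A)⁻¹ * (x * d * x⁻¹ * (d : A)⁻¹)
        have hm : x * d * x⁻¹ * (d : A)⁻¹ ∈ commutator A :=
          (commutator A).mul_mem ((Subgroup.commutator_normal ⊤ ⊤).conj_mem _ d.2 x) (inv_mem d.2)
        have e : (c : A)⁻¹ * (x * d * x⁻¹ * (d : A)⁻¹) =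
            x * d * x⁻¹ * (d : A)⁻¹ * (c : A)⁻¹ :=
          congrArg Subtype.val (mul_comm c⁻¹ (⟨_, hm⟩ : commutator A))
        calc x * ((c : A) * d) * x⁻¹ * ((c : A) * d)⁻¹
            = x * c * x⁻¹ * (x * d * x⁻¹ * (d : A)⁻¹ * (c : A)⁻¹) := by group
          _ = _ := by rw [← e]; group) }
  have hinter : ∀ c, D c ∈ D.ker → D c = 1 := by
    intro c hc
    have he : x * (D c : A) * x⁻¹ = D c := mul_inv_eq_one.1 (congrArg Subtype.val hc)
    have hpow : ∀ n : ℕ, x ^ n * (c : A) * (x ^ n)⁻¹ = (D c : A) ^ n * c := by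
      intro n
      induction n with
      | zero => simp
      | succ n ihn =>
        calc x ^ (n + 1) * (c : A) * (x ^ (n + 1))⁻¹ = x * (x ^ n * c * (x ^ n)⁻¹) * x⁻¹ := by
              rw [pow_succ', mul_inv_rev]; group
          _ = (x * (D c : A) ^ n * x⁻¹) * (x * c * x⁻¹) := by rw [ihn]; group
          _ = (D c : A) ^ n * ((D c : A) * c) := by
              rw [← conj_pow, he]
              congr 1
              show _ = x * (c : A) * x⁻¹ * (c : A)⁻¹ * c
              group
          _ = _ := by rw [pow_succ, mul_assoc]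
    have h1 := hpow p
    rw [← hx, pow_orderOf_eq_one, hx, one_mul, inv_one, mul_one] at h1
    exact Subtype.ext (hpC _ (D c).2 (by simpa using h1.symm))
  have hDtriv : ∀ c, D c = 1 := by
    by_contra hne
    push Not at hne
    obtain ⟨c, hc⟩ := hne
    obtain ⟨q, hq, hqd⟩ :=
      Nat.exists_prime_and_dvd (fun e => hc (orderOf_eq_one_iff.1 e) : orderOf (D c) ≠ 1)
    have := Fact.mk hq
    have hy := orderOf_pow_orderOf_div (orderOf_pos (D c)).ne' hqd
    rw [← map_pow] at hy
    set y := D (c ^ (orderOf (D c) / q)) with hydef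
    have hxy : Commute x (y : A) := by
      refine h.commute_of_prime_order (by rw [hx]; exact hp) (by rw [Subgroup.orderOf_coe, hy]; exact hq) ?_
      -- a subgroup of a cyclic normal subgroup is normal
      obtain ⟨g, hg⟩ := hcyc.exists_generator (α := commutator A)
      obtain ⟨r, hr⟩ := Subgroup.mem_zpowers_iff.1
        (hg ⟨x * g * x⁻¹, (Subgroup.commutator_normal ⊤ ⊤).conj_mem _ g.2 x⟩)
      obtain ⟨s, hs⟩ := Subgroup.mem_zpowers_iff.1 (hg y)
      have hr' : (g : A) ^ r = x * g * x⁻¹ := by simpa using congrArg Subtype.val hr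
      refine ⟨r, ?_⟩
      show (y : A) ^ r = _
      rw [← hs, Subgroup.coe_zpow, ← conj_zpow, ← hr', ← zpow_mul, ← zpow_mul, mul_comm]
    have hy1 : y = 1 := by
      refine hinter _ (MonoidHom.mem_ker.2 (Subtype.ext ?_))
      show x * (y : A) * x⁻¹ * (y : A)⁻¹ = 1
      rw [hxy.eq]
      group
    rw [hy1, orderOf_one] at hy
    exact hq.ne_one hy.symm
  have hcent : ∀ c ∈ commutator A, Commute x c := fun c hc =>
    mul_inv_eq_iff_eq_mul.1 (mul_inv_eq_one.1 (congrArg Subtype.val (hDtriv ⟨c, hc⟩)))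
  -- hence `x` is central
  intro hbot
  have hxc : x ∈ Subgroup.center A := by
    refine Subgroup.mem_center_iff.2 fun g => mul_inv_eq_iff_eq_mul.1 ?_
    set d := g * x * g⁻¹ * x⁻¹
    have hd : d ∈ commutator A :=
      Subgroup.commutator_mem_commutator (Subgroup.mem_top g) (Subgroup.mem_top x)
    have e : d * x = g * x * g⁻¹ := by simp [d]
    have hdp : d ^ p = 1 := by
      have h1 : (d * x) ^ p = 1 := by rw [e, conj_pow, ← hx, pow_orderOf_eq_one]; group
      rwa [(hcent d hd).symm.mul_pow, ← hx, pow_orderOf_eq_one, mul_one, hx] at h1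
    rw [← e, hpC d hd hdp, one_mul]
  rw [hbot, Subgroup.mem_bot] at hxc
  rw [hxc, orderOf_one] at hx
  exact hp.ne_one hx.symm

end SmallCyclic

/-- A fixed-point-free group of even order has one involution, inverting the (abelian) kernel. -/
theorem exists_inverting_involution {G : Type*} [Group G] [Finite G] {A K : Subgroup G}
    (hK : K ≠ ⊥) (hA : A ≤ Subgroup.normalizer (K : Set G)) (h : FPF A K)
    (hev : 2 ∣ Nat.card A) :
    (∃ s ∈ A, orderOf s = 2 ∧ (∀ t ∈ A, orderOf t = 2 → t = s) ∧ ∀ k ∈ K, s * k * s⁻¹ = k⁻¹) ∧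
      IsMulCommutative K := by
  obtain ⟨s, hs⟩ := exists_prime_orderOf_dvd_card' (G := A) 2 hev
  have hs1 : (s : G) ≠ 1 := fun e => by
    rw [show s = 1 from Subtype.ext e, orderOf_one] at hs
    exact absurd hs (by norm_num)
  let φ : K →* K := (K.normalizerMonoidHom ⟨s, hA s.2⟩).toMonoidHom
  have hφ : MonoidHom.FixedPointFree φ := fun k hk =>
    Subtype.ext (h s s.2 hs1 k k.2 (mul_inv_eq_iff_eq_mul.1 (congrArg Subtype.val hk)))
  have h2 : Function.Involutive φ := fun k => by
    apply Subtype.ext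
    show (s : G) * ((s : G) * k * (s : G)⁻¹) * (s : G)⁻¹ = k
    have hss : (s : G) * s = 1 := by
      rw [← sq, ← hs, ← Subgroup.coe_pow, pow_orderOf_eq_one]
      rfl
    calc (s : G) * ((s : G) * k * (s : G)⁻¹) * (s : G)⁻¹ = ((s : G) * s) * k * ((s : G) * s)⁻¹ := by
          group
      _ = k := by rw [hss]; group
  refine ⟨⟨s, s.2, by rwa [Subgroup.orderOf_coe], fun t ht hto => ?_, fun k hk => ?_⟩,
    ⟨⟨fun a b => MonoidHom.FixedPointFree.commute_all_of_involutive hφ h2 a b⟩⟩⟩
  · exact congrArg Subtype.val ((smallCyclic_of_fpf hK hA h).eq_of_involution (s := ⟨t, ht⟩) (t := s)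
      (by rwa [← Subgroup.orderOf_coe]) hs)
  · exact congrArg Subtype.val (congrFun (hφ.coe_eq_inv_of_involutive h2) ⟨k, hk⟩)

end Cfsg.Agent.Frobenius
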