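/-
Solvability of groups all whose subgroups of order a product of two primes are cyclic, read off
from the elements of prime order at least five.

Main results (namespace `Cfsg.Agent.Frobenius.SmallCyclic`):
* `mem_zpowers_of_solvable`: in a solvable such group the subgroup of prime order `q ≥ 5` is unique
* `isSolvable_of_unique`: conversely, uniqueness of all these subgroups forces solvability
* `isSolvable_iff_unique`
-/
import Cfsg.Agent.Lib.Frobenius.Structure
import Cfsg.Agent.Lib.PGroup.UniqueOrderP
import Cfsg.Agent.Lib.PGroup.Critical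
import Cfsg.Agent.Lib.RankTwo.Auto
import Cfsg.Agent.Lib.Cores.Fitting
import Cfsg.Agent.Lib.Cores.Subnormal
import Cfsg.Agent.Lib.BurnsideBasis.Basic
import Cfsg.Agent.S0044
import Cfsg.Agent.S0144

set_option autoImplicit false
set_option linter.style.haveILetI false

namespace Cfsg.Agent.Frobenius

open Subgroup

/-- A quotient of a group generated by two elements, commutative of exponent two, has at most four elements. -/
theorem card_le_four {Q : Type*} [Group Q] [Finite Q] (hc : ∀ u v : Q, u * v = v * u)
    (h2 : ∀ u : Q, u ^ 2 = 1) {a b : Q} (hab : closure ({a, b} : Set Q) = ⊤) : Nat.card Q ≤ 4 := by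
  have key : ∀ u : Q, ∃ i j : ℕ, u = a ^ i * b ^ j := by
    intro u
    have hu : u ∈ closure ({a, b} : Set Q) := hab ▸ mem_top u
    induction hu using closure_induction with
    | mem x hx =>
      rcases hx with rfl | rfl
      · exact ⟨1, 0, by simp⟩
      · exact ⟨0, 1, by simp⟩
    | one => exact ⟨0, 0, by simp⟩
    | mul x y _ _ hx hy =>
      obtain ⟨i, j, rfl⟩ := hx
      obtain ⟨k, l, rfl⟩ := hy
      exact ⟨i + k, j + l, by rw [pow_add, pow_add, mul_assoc (a ^ i), ← mul_assoc (b ^ j),
        hc (b ^ j), mul_assoc (a ^ k), ← mul_assoc (a ^ i)]⟩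
    | inv x _ hx =>
      have : x⁻¹ = x := inv_eq_of_mul_eq_one_right (by rw [← sq, h2])
      rw [this]; exact hx
  have hs : Function.Surjective (fun x : Fin 2 × Fin 2 => a ^ (x.1 : ℕ) * b ^ (x.2 : ℕ)) := fun u => by
    obtain ⟨i, j, rfl⟩ := key u
    refine ⟨(⟨i % 2, Nat.mod_lt _ two_pos⟩, ⟨j % 2, Nat.mod_lt _ two_pos⟩), ?_⟩
    dsimp only
    rw [← pow_eq_pow_mod i (h2 a), ← pow_eq_pow_mod j (h2 b)]
  simpa using Nat.card_le_card_of_surjective _ hs

/-- A permutation of prime order at least five of at most four points is trivial. -/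
theorem perm_eq_one {α : Type*} [Finite α] {σ : Equiv.Perm α} (hα : Nat.card α ≤ 4) {q : ℕ}
    (hq : q.Prime) (hq5 : 5 ≤ q) (hσ : σ ^ q = 1) : σ = 1 := by
  rcases (Nat.dvd_prime hq).mp (orderOf_dvd_of_pow_eq_one hσ) with h | h
  · exact orderOf_eq_one_iff.mp h
  · exfalso
    have hd : q ∣ (Nat.card α).factorial := by
      rw [← Nat.card_perm, ← h]; exact orderOf_dvd_natCard σ
    have := (Nat.Prime.dvd_factorial hq).mp hd
    omega

namespace SmallCyclic

universe u

variable {A : Type*} [Group A] [Finite A]

theorem two_generated (h : SmallCyclic A) {T : Subgroup A} (hT : IsPGroup 2 T) :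
    ∃ a b : T, closure ({a, b} : Set T) = ⊤ := by
  haveI := Fact.mk Nat.prime_two
  have huniq : ∀ x y : T, orderOf x = 2 → y ^ 2 = 1 → y ∈ zpowers x := by
    intro x y hx hy
    by_cases hy1 : y = 1
    · subst hy1; exact one_mem _
    have he := h.eq_of_involution (s := (y : A)) (t := (x : A))
      (by rw [orderOf_coe]; exact orderOf_eq_prime hy hy1) (by rw [orderOf_coe]; exact hx)
    rw [Subtype.ext he]; exact mem_zpowers x
  rcases PGroup.unique_order_p_cases hT huniq with hc | ⟨-, n, ⟨e⟩⟩
  · obtain ⟨a, ha⟩ := (isCyclic_iff_exists_zpowers_eq_top (α := T)).mp hc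
    exact ⟨a, a, top_le_iff.mp (ha ▸ zpowers_le.mpr (subset_closure (by simp)))⟩
  · refine ⟨e.symm (.a 1), e.symm (.xa 0), top_le_iff.mp fun t _ => ?_⟩
    have key : e t ∈ closure ({QuaternionGroup.a 1, QuaternionGroup.xa 0} : Set (QuaternionGroup (2 ^ n))) := by
      haveI : NeZero (2 ^ n) := ⟨pow_ne_zero _ two_ne_zero⟩
      cases e t with
      | a i =>
        rw [← ZMod.natCast_zmod_val i, ← QuaternionGroup.a_one_pow]
        exact pow_mem (subset_closure (by simp)) _
      | xa i =>
        have : QuaternionGroup.xa (n := 2 ^ n) i = QuaternionGroup.xa 0 * QuaternionGroup.a i := by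
          rw [QuaternionGroup.xa_mul_a, zero_add]
        rw [this, ← ZMod.natCast_zmod_val i, ← QuaternionGroup.a_one_pow]
        exact mul_mem (subset_closure (by simp)) (pow_mem (subset_closure (by simp)) _)
    have := mem_map_of_mem e.symm.toMonoidHom key
    rw [MonoidHom.map_closure] at this
    simpa [Set.image_pair] using this

/-- An element of prime order at least five centralizes every `r`-subgroup it normalizes, `r` other. -/
theorem commute_of_normalizes (h : SmallCyclic A) {q r : ℕ} [Fact r.Prime] (hq : q.Prime)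
    (hq5 : 5 ≤ q) (hrq : r ≠ q) {x : A} (hx : orderOf x = q) {T : Subgroup A} (hT : IsPGroup r T)
    (hxT : x ∈ normalizer (T : Set A)) : ∀ t ∈ T, x * t = t * x := by
  haveI := Fact.mk hq
  let α : MulAut T := (T.normalizerMonoidHom) ⟨x, hxT⟩
  have happ : ∀ t : T, ((α t : T) : A) = x * t * x⁻¹ := fun t => rfl
  have hxq : (⟨x, hxT⟩ : normalizer (T : Set A)) ^ q = 1 :=
    Subtype.ext (by rw [coe_pow, coe_one, ← hx, pow_orderOf_eq_one])
  have hαq : α ^ q = 1 := by rw [← map_pow, hxq, map_one]
  suffices hα : α = 1 by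
    intro t ht
    have h1 := happ ⟨t, ht⟩
    rw [hα] at h1
    exact (mul_inv_eq_iff_eq_mul.mp h1.symm)
  by_cases hr2 : r = 2
  · subst hr2
    refine RankTwo.aut_eq_one_of_frattini hT (fun e => hrq e.symm) hαq ?_
    obtain ⟨a, b, hab⟩ := h.two_generated hT
    set F := frattini T with hF
    have hcard : Nat.card (T ⧸ F) ≤ 4 := by
      refine card_le_four (BurnsideBasis.quotient_mul_comm hT) ?_ (a := (a : T ⧸ F)) (b := (b : T ⧸ F)) ?_
      · intro u
        induction u using QuotientGroup.induction_on with
        | _ g => rw [← QuotientGroup.mk_pow, QuotientGroup.eq_one_iff]; exact PGroup.pow_mem_frattini hT g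
      · have := congrArg (Subgroup.map (QuotientGroup.mk' F)) hab
        rw [MonoidHom.map_closure, Subgroup.map_top_of_surjective _ (QuotientGroup.mk'_surjective F),
          Set.image_pair] at this
        exact this
    have hmap : ∀ β : MulAut T, F.map β.toMonoidHom = F := fun β =>
      Subgroup.characteristic_iff_map_eq.mp inferInstance β
    let σ : Equiv.Perm (T ⧸ F) := (QuotientGroup.congr F F α (hmap α)).toEquiv
    have hσ : ∀ (k : ℕ) (g : T), (σ ^ k) (g : T ⧸ F) = (((α ^ k) g : T) : T ⧸ F) := by
      intro k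
      induction k with
      | zero => intro g; simp
      | succ k ih =>
        intro g
        rw [pow_succ', pow_succ', Equiv.Perm.mul_apply, ih, MulAut.mul_apply]
        rfl
    have hσ1 : σ = 1 := perm_eq_one hcard hq hq5 (by
      ext u
      induction u using QuotientGroup.induction_on with
      | _ g => rw [hσ, hαq]; simp)
    intro g
    have h1 := hσ 1 g
    rw [hσ1, pow_one, pow_one, Equiv.Perm.one_apply] at h1
    exact QuotientGroup.eq.mp h1
  · refine PGroup.aut_eq_one_of_fix_omega hr2 hT ?_ ?_
    · exact Nat.Coprime.coprime_dvd_left (orderOf_dvd_of_pow_eq_one hαq)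
        ((Nat.coprime_primes hq Fact.out).mpr hrq.symm)
    · intro t ht
      by_cases ht1 : t = 1
      · rw [ht1, map_one]
      have hto : orderOf (t : A) = r := by
        rw [orderOf_coe]; exact orderOf_eq_prime ht ht1
      have hto' : orderOf (x * (t : A) * x⁻¹) = r := by
        rw [← MulAut.conj_apply, MulEquiv.orderOf_eq]; exact hto
      have hmem : x * (t : A) * x⁻¹ ∈ zpowers (t : A) :=
        h.mem_zpowers_of_orderOf_eq hT ((mem_normalizer_iff.mp hxT _).mp t.2) t.2 hto' hto
      have hc := h.commute_of_prime_order (x := x) (y := (t : A)) (hx ▸ hq) (hto ▸ Fact.out) hmem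
      exact Subtype.ext (by rw [happ, hc.eq, mul_inv_cancel_right])

theorem mem_zpowers_of_solvable (h : SmallCyclic A) [Group.IsSolvable A] {q : ℕ} (hq : q.Prime)
    (hq5 : 5 ≤ q) {x y : A} (hx : orderOf x = q) (hy : orderOf y = q) : x ∈ zpowers y := by
  haveI := Fact.mk hq
  set T := Cfsg.pCore q A with hT
  have hTn : T.Normal := Cores.pCore_normal q A
  have hTp : IsPGroup q T := Cores.isPGroup_pCore q A
  suffices key : ∀ z : A, orderOf z = q → z ∈ T from
    h.mem_zpowers_of_orderOf_eq hTp (key x hx) (key y hy) hx hy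
  intro z hz
  have hzp : IsPGroup q (zpowers z) :=
    IsPGroup.of_card (n := 1) (by rw [Nat.card_zpowers, hz, pow_one])
  have hS : IsPGroup q (zpowers z ⊔ T : Subgroup A) := hzp.to_sup_of_normal_right hTp
  have hScyc := h.isCyclic_of_pgroup_odd (p := q) (by omega) hS
  have hcent : z ∈ centralizer (Cfsg.fittingSubgroup A : Set A) := by
    rw [Cores.fittingSubgroup_eq_iSup_pCore]
    suffices hle : (⨆ r : Nat.Primes, Cfsg.pCore (r : ℕ) A) ≤ centralizer ({z} : Set A) from
      mem_centralizer_iff.mpr fun t ht => (mem_centralizer_singleton_iff.mp (hle ht))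
    refine iSup_le fun r' => ?_
    obtain ⟨r, hr⟩ := r'
    intro t ht
    refine mem_centralizer_singleton_iff.mpr ?_
    haveI := Fact.mk hr
    haveI := Cores.pCore_normal r A
    by_cases hrq : r = q
    · subst hrq
      obtain ⟨g, hg⟩ := hScyc.exists_generator
      obtain ⟨i, hi⟩ := mem_zpowers_iff.mp (hg ⟨z, mem_sup_left (mem_zpowers z)⟩)
      obtain ⟨j, hj⟩ := mem_zpowers_iff.mp (hg ⟨t, mem_sup_right ht⟩)
      have := congrArg Subtype.val ((Commute.refl g).zpow_zpow j i).eq
      rw [hi, hj] at this
      exact this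
    · exact (h.commute_of_normalizes hq hq5 hrq hz (Cores.isPGroup_pCore r A)
        (by rw [normalizer_eq_top]; exact mem_top z) t ht).symm
  have hzF := Cfsg.Agent.S0044.result hcent
  have h1 : zpowers z ≤ Cfsg.fittingSubgroup A := zpowers_le.mpr hzF
  exact Cores.le_pCore_of_isSubnormal (Cores.isSubnormal_of_le_fittingSubgroup h1) hzp (mem_zpowers z)

/-- If every element of prime order at least five is central, the group is solvable. -/
theorem isSolvable_of_central : ∀ (n : ℕ) {A : Type u} [Group A] [Finite A], Nat.card A ≤ n →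
    SmallCyclic A → (∀ x : A, (orderOf x).Prime → 5 ≤ orderOf x → x ∈ center A) →
    Group.IsSolvable A := by
  intro n
  induction n with
  | zero =>
    intro A _ _ hc
    have := Nat.card_pos (α := A)
    omega
  | succ n ih =>
    intro A _ _ hc h hcen
    by_cases hd : ∃ q, q.Prime ∧ 5 ≤ q ∧ q ∣ Nat.card A
    · obtain ⟨q, hq, hq5, hqd⟩ := hd
      haveI := Fact.mk hq
      obtain ⟨Q⟩ := (inferInstance : Nonempty (Sylow q A))
      have hQc : IsCyclic Q := h.isCyclic_sylow (by omega) Q
      have hle : normalizer (Q : Set A) ≤ centralizer (Q : Set A) := by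
        intro g hg
        -- the q-part and the q'-part of g
        obtain ⟨k, hk⟩ : ∃ k, k = (orderOf g).factorization q := ⟨_, rfl⟩
        let α : MulAut (Q : Subgroup A) := (Q : Subgroup A).normalizerMonoidHom ⟨g, hg⟩
        have hco : Nat.Coprime (orderOf (α ^ q ^ k)) q := by
          refine Nat.Coprime.coprime_dvd_left ?_
            (Nat.coprime_ordCompl hq (orderOf_pos g).ne').symm
          refine orderOf_dvd_of_pow_eq_one ?_
          rw [← pow_mul, hk, Nat.ordProj_mul_ordCompl_eq_self, ← map_pow]
          have : (⟨g, hg⟩ : normalizer (Q : Set A)) ^ orderOf g = 1 :=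
            Subtype.ext (by rw [coe_pow, coe_one, pow_orderOf_eq_one])
          rw [this, map_one]
        have hαpow : ∀ (m : ℕ) (t : (Q : Subgroup A)), (((α ^ m) t : (Q : Subgroup A)) : A) =
            g ^ m * t * (g ^ m)⁻¹ := fun m t => by
          rw [← map_pow]; rfl
        have hα : α ^ q ^ k = 1 := PGroup.aut_eq_one_of_fix_omega (by omega) Q.2 hco fun t ht => by
          by_cases ht1 : t = 1
          · rw [ht1, map_one]
          have hto : orderOf (t : A) = q := by rw [orderOf_coe]; exact orderOf_eq_prime ht ht1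
          have := mem_center_iff.mp (hcen t (by rw [hto]; exact hq) (by rw [hto]; exact hq5)) (g ^ q ^ k)
          exact Subtype.ext (by rw [hαpow, this, mul_inv_cancel_right])
        -- g ^ (q'-part) is a q-element normalizing Q, hence in Q
        set m := orderOf g / q ^ k with hm
        have hgm : g ^ m ∈ (Q : Subgroup A) := by
          have hgp : IsPGroup q (zpowers (g ^ m)) := by
            refine IsPGroup.of_card (n := k) ?_
            rw [Nat.card_zpowers, orderOf_pow_of_dvd, hm]
            · exact Nat.div_div_self (hk ▸ Nat.ordProj_dvd _ _) (orderOf_pos g).ne'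
            · exact (Nat.ordCompl_pos q (orderOf_pos g).ne' |>.trans_le (by rw [hm, hk])).ne'
            · exact Nat.div_dvd_of_dvd (hk ▸ Nat.ordProj_dvd _ _)
          have hsup : IsPGroup q ((Q : Subgroup A) ⊔ zpowers (g ^ m) : Subgroup A) :=
            Q.2.to_sup_of_normal_left' hgp (zpowers_le.mpr (pow_mem hg m))
          rw [← Q.3 hsup le_sup_left]
          exact mem_sup_right (mem_zpowers _)
        have hcom : ∀ t : A, t ∈ (Q : Subgroup A) → Commute (g ^ q ^ k) t ∧ Commute (g ^ m) t := by
          intro t ht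
          constructor
          · have h1 := hαpow (q ^ k) ⟨t, ht⟩
            rw [hα] at h1
            exact mul_inv_eq_iff_eq_mul.mp h1.symm
          · obtain ⟨u, hu⟩ := hQc.exists_generator
            obtain ⟨i, hi⟩ := mem_zpowers_iff.mp (hu ⟨_, hgm⟩)
            obtain ⟨j, hj⟩ := mem_zpowers_iff.mp (hu ⟨t, ht⟩)
            have := congrArg Subtype.val ((Commute.refl u).zpow_zpow i j).eq
            rw [hi, hj] at this
            exact this
        refine mem_centralizer_iff.mpr fun t ht => ?_
        have hcd : (q ^ k).Coprime m := by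
          rw [hm, hk]; exact (Nat.coprime_ordCompl hq (orderOf_pos g).ne').pow_left _
        obtain ⟨u, v, huv⟩ : ∃ u v : ℤ, (q ^ k : ℕ) * u + (m : ℤ) * v = 1 :=
          ⟨_, _, ((Nat.gcd_eq_gcd_ab (q ^ k) m).symm.trans (by rw [hcd.gcd_eq_one]; rfl))⟩
        have hg' : g = (g ^ (q ^ k)) ^ u * (g ^ m) ^ v := by
          rw [← zpow_natCast g, ← zpow_natCast g m, ← zpow_mul, ← zpow_mul, ← zpow_add, huv, zpow_one]
        rw [hg']
        exact (((hcom t ht).1.zpow_left u).mul_left ((hcom t ht).2.zpow_left v)).eq.symm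
      let N := (MonoidHom.transferSylow Q hle).ker
      have hNc : IsComplement' N (Q : Subgroup A) := MonoidHom.ker_transferSylow_isComplement' Q hle
      have hN : Group.IsSolvable N := by
        refine ih ?_ (h.of_injective N.subtype_injective) fun x hx hx5 => ?_
        · have h1 := hNc.card_mul_card
          have h2 : 2 ≤ Nat.card (Q : Subgroup A) :=
            le_trans hq.two_le (Nat.le_of_dvd Nat.card_pos (Q.dvd_card_of_dvd_card hqd))
          have h3 : 0 < Nat.card N := Nat.card_pos
          nlinarith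
        · have := hcen (x : A) (by rwa [orderOf_coe]) (by rwa [orderOf_coe])
          exact mem_center_iff.mpr fun z => Subtype.ext (mem_center_iff.mp this z)
      haveI := hN
      haveI := Q.2.isNilpotent
      exact Group.isSolvable_of_ker_le_range N.subtype (MonoidHom.transferSylow Q hle)
        (by rw [range_subtype])
    · refine Cfsg.Agent.S0144.result 2 3 ((Nat.card A).factorization 2)
        ((Nat.card A).factorization 3) Nat.prime_two Nat.prime_three ?_
      refine Nat.eq_of_factorization_eq Nat.card_pos.ne'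
        (mul_ne_zero (pow_ne_zero _ two_ne_zero) (pow_ne_zero _ three_ne_zero)) fun p => ?_
      rw [Nat.factorization_mul (pow_ne_zero _ two_ne_zero) (pow_ne_zero _ three_ne_zero),
        Nat.Prime.factorization_pow Nat.prime_two, Nat.Prime.factorization_pow Nat.prime_three,
        Finsupp.add_apply, Finsupp.single_apply, Finsupp.single_apply]
      by_cases h2 : 2 = p
      · subst h2; simp
      by_cases h3 : 3 = p
      · subst h3; simp
      rw [if_neg h2, if_neg h3, add_zero, Nat.factorization_eq_zero_iff]
      by_contra hne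
      simp only [not_or, not_not] at hne
      obtain ⟨hp, hpd, -⟩ := hne
      have hp4 : p ≠ 4 := fun e => absurd (e ▸ hp) (by norm_num)
      have := hp.two_le
      exact hd ⟨p, hp, by omega, hpd⟩

theorem isSolvable_of_unique (h : SmallCyclic A)
    (hu : ∀ x y : A, (orderOf x).Prime → 5 ≤ orderOf x → orderOf y = orderOf x → x ∈ zpowers y) :
    Group.IsSolvable A := by
  let S : Set A := {x | (orderOf x).Prime ∧ 5 ≤ orderOf x}
  let C := centralizer S
  have hCn : C.Normal := ⟨fun c hc g => mem_centralizer_iff.mpr fun s hs => by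
    have hs' : g⁻¹ * s * g ∈ S := by
      show (orderOf (g⁻¹ * s * g)).Prime ∧ 5 ≤ orderOf (g⁻¹ * s * g)
      rw [show g⁻¹ * s * g = MulAut.conj g⁻¹ s by simp,
        MulEquiv.orderOf_eq (MulAut.conj g⁻¹) s]
      exact hs
    have := mem_centralizer_iff.mp hc _ hs'
    calc s * (g * c * g⁻¹) = g * (g⁻¹ * s * g * c) * g⁻¹ := by group
      _ = g * (c * (g⁻¹ * s * g)) * g⁻¹ := by rw [this]
      _ = g * c * g⁻¹ * s := by group⟩
  haveI := hCn
  have hsol : Group.IsSolvable C := by
    refine isSolvable_of_central _ le_rfl (h.of_injective C.subtype_injective) fun x hx hx5 => ?_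
    refine mem_center_iff.mpr fun z => Subtype.ext ?_
    exact (mem_centralizer_iff.mp z.2 (x : A) ⟨by rwa [orderOf_coe], by rwa [orderOf_coe]⟩).symm
  have hpow : ∀ (g x : A), x ∈ S → ∃ i : ℤ, g * x * g⁻¹ = x ^ i := by
    intro g x hx
    obtain ⟨i, hi⟩ := mem_zpowers_iff.mp (hu (g * x * g⁻¹) x
      (by rw [← MulAut.conj_apply, MulEquiv.orderOf_eq]; exact hx.1)
      (by rw [← MulAut.conj_apply, MulEquiv.orderOf_eq]; exact hx.2)
      (by rw [← MulAut.conj_apply, MulEquiv.orderOf_eq]))
    exact ⟨i, hi.symm⟩
  have hcomm : ∀ a b : A, ((a : A ⧸ C)) * b = b * a := by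
    intro a b
    rw [← QuotientGroup.mk_mul, ← QuotientGroup.mk_mul, QuotientGroup.eq, mem_centralizer_iff]
    intro x hx
    obtain ⟨i, hi⟩ := hpow a x hx
    obtain ⟨j, hj⟩ := hpow b x hx
    have hab : a * b * x * (a * b)⁻¹ = x ^ (i * j) := by
      rw [zpow_mul, ← hi, conj_zpow, ← hj]; group
    have hba : b * a * x * (b * a)⁻¹ = x ^ (i * j) := by
      rw [mul_comm i j, zpow_mul, ← hj, conj_zpow, ← hi]; group
    have he : a * b * x * (a * b)⁻¹ = b * a * x * (b * a)⁻¹ := hab.trans hba.symm
    calc x * ((a * b)⁻¹ * (b * a))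
        = (a * b)⁻¹ * (a * b * x * (a * b)⁻¹) * (b * a) := by group
      _ = (a * b)⁻¹ * (b * a * x * (b * a)⁻¹) * (b * a) := by rw [he]
      _ = (a * b)⁻¹ * (b * a) * x := by group
  haveI : Group.IsSolvable (A ⧸ C) := Group.isSolvable_of_comm fun u v =>
    QuotientGroup.induction_on u fun a => QuotientGroup.induction_on v fun b => hcomm a b
  exact Group.isSolvable_of_ker_le_range C.subtype (QuotientGroup.mk' C) (by simp)

theorem isSolvable_iff_unique (h : SmallCyclic A) : Group.IsSolvable A ↔
    ∀ x y : A, (orderOf x).Prime → 5 ≤ orderOf x → orderOf y = orderOf x → x ∈ zpowers y :=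
  ⟨fun _ _ _ hx hx5 hy => h.mem_zpowers_of_solvable hx hx5 rfl hy, h.isSolvable_of_unique⟩

/-- Solvability read off from the number of elements of each prime order at least five. -/
theorem isSolvable_iff_count (h : SmallCyclic A) : Group.IsSolvable A ↔
    ∀ q : ℕ, q.Prime → 5 ≤ q → Nat.card {x : A // orderOf x = q} ≤ q - 1 := by
  classical
  have hz : ∀ (q : ℕ) (y : A), q.Prime → orderOf y = q →
      Nat.card {x : zpowers y // orderOf x = q} = q - 1 := by
    intro q y hq hy
    haveI := Fintype.ofFinite (zpowers y)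
    rw [Nat.card_eq_fintype_card, Fintype.card_subtype,
      IsCyclic.card_orderOf_eq_totient (by rw [← Nat.card_eq_fintype_card, Nat.card_zpowers, hy]),
      Nat.totient_prime hq]
  rw [h.isSolvable_iff_unique]
  constructor
  · intro hu q hq hq5
    rcases isEmpty_or_nonempty {x : A // orderOf x = q} with he | ⟨⟨y, hy⟩⟩
    · rw [Nat.card_of_isEmpty]; exact Nat.zero_le _
    rw [← hz q y hq hy]
    refine Nat.card_le_card_of_injective (fun x => (⟨⟨x.1, ?_⟩, ?_⟩ : {u : zpowers y // orderOf u = q}))
      fun a b e => Subtype.ext (congrArg (fun u : {u : zpowers y // orderOf u = q} => ((u.1 : zpowers y) : A)) e)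
    · exact hu x.1 y (by rw [x.2]; exact hq) (by rw [x.2]; exact hq5) (by rw [x.2, hy])
    · rw [Subgroup.orderOf_mk, x.2]
  · intro hcnt x y hx hx5 hyx
    by_contra hxy
    have h1 := hcnt _ hx hx5
    have hlt : Nat.card {u : zpowers y // orderOf u = orderOf x} < Nat.card {u : A // orderOf u = orderOf x} := by
      let f : {u : zpowers y // orderOf u = orderOf x} → {u : A // orderOf u = orderOf x} :=
        fun u => ⟨u.1, by rw [Subgroup.orderOf_coe]; exact u.2⟩
      refine lt_of_le_of_ne (Nat.card_le_card_of_injective f fun a b e =>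
        Subtype.ext (Subtype.ext (congrArg (fun w => w.val) e))) fun heq => hxy ?_
      obtain ⟨u, hu⟩ := ((Nat.bijective_iff_injective_and_card f).mpr ⟨fun a b e =>
        Subtype.ext (Subtype.ext (congrArg (fun w => w.val) e)), heq⟩).2 ⟨x, rfl⟩
      have hu' : ((u.1 : zpowers y) : A) = x := congrArg Subtype.val hu
      rw [← hu']; exact u.1.2
    rw [hz _ y hx hyx] at hlt
    omega

end SmallCyclic

end Cfsg.Agent.Frobenius
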