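/-
Automorphism groups of solvable groups all whose subgroups of order a product of two primes are cyclic.

Main results (namespace `Cfsg.Agent.Frobenius`):
* `isSolvable_pi`: a finite product of solvable groups is solvable
* `isSolvable_mulAut_of_two_generated`: automorphisms of a two-generated 2-group
* `SmallCyclic.isSolvable_mulAut`
* `sl25_not_solvable`: `SL(2,5)` is not solvable
-/
import Cfsg.Agent.Lib.Frobenius.SolvableCriterion
import Cfsg.Agent.Lib.SLGen.Cycle
import Cfsg.Agent.S0836
import Cfsg.Agent.Lib.FPF.Basic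

set_option autoImplicit false
set_option linter.style.haveILetI false

namespace Cfsg.Agent.Frobenius

open Subgroup

/-- A finite product of solvable groups is solvable. -/
theorem isSolvable_pi {ι : Type*} [Finite ι] {A : ι → Type*} [∀ i, Group (A i)]
    (h : ∀ i, Group.IsSolvable (A i)) : Group.IsSolvable (∀ i, A i) := by
  classical
  have := Fintype.ofFinite ι
  choose n hn using fun i => (Group.isSolvable_def (A i)).mp (h i)
  refine (Group.isSolvable_def _).mpr ⟨∑ i, n i, eq_bot_iff.mpr fun x hx => mem_bot.mpr (funext fun i => ?_)⟩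
  have h1 := map_derivedSeries_le_derivedSeries (Pi.evalMonoidHom A i) (∑ i, n i) ⟨x, hx, rfl⟩
  have h2 := derivedSeries_antitone (A i)
    (Finset.single_le_sum (fun j _ => Nat.zero_le (n j)) (Finset.mem_univ i)) h1
  rw [hn i] at h2
  exact mem_bot.mp h2

/-- Permutations of at most four points form a solvable group. -/
theorem isSolvable_perm_of_card_le {α : Type*} [Finite α] (hα : Nat.card α ≤ 4) :
    Group.IsSolvable (Equiv.Perm α) := by
  have hne : (Nat.card (Equiv.Perm α)) ≠ 0 := Nat.card_pos.ne'
  refine Cfsg.Agent.S0144.result 2 3 ((Nat.card (Equiv.Perm α)).factorization 2)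
    ((Nat.card (Equiv.Perm α)).factorization 3) Nat.prime_two Nat.prime_three ?_
  rw [Nat.card_perm]
  generalize Nat.card α = n at hα
  have h24 : n.factorial = 1 ∨ n.factorial = 2 ∨ n.factorial = 6 ∨ n.factorial = 24 := by
    interval_cases n <;> simp [Nat.factorial]
  refine Nat.eq_of_factorization_eq n.factorial_ne_zero
    (mul_ne_zero (pow_ne_zero _ two_ne_zero) (pow_ne_zero _ three_ne_zero)) fun p => ?_
  rw [Nat.factorization_mul (pow_ne_zero _ two_ne_zero) (pow_ne_zero _ three_ne_zero),
    Nat.Prime.factorization_pow Nat.prime_two, Nat.Prime.factorization_pow Nat.prime_three,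
    Finsupp.add_apply, Finsupp.single_apply, Finsupp.single_apply]
  by_cases h2 : 2 = p
  · subst h2; simp
  by_cases h3 : 3 = p
  · subst h3; simp
  rw [if_neg h2, if_neg h3, add_zero, Nat.factorization_eq_zero_iff]
  by_contra hne'
  simp only [not_or, not_not] at hne'
  obtain ⟨hp, hpd, -⟩ := hne'
  have := (Nat.Prime.dvd_factorial hp).mp hpd
  have hp4 : p ≠ 4 := fun e => absurd (e ▸ hp) (by norm_num)
  have := hp.two_le
  omega

/-- Automorphisms of a two-generated 2-group form a solvable group. -/
theorem isSolvable_mulAut_of_two_generated {T : Type*} [Group T] [Finite T] (hT : IsPGroup 2 T)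
    {a b : T} (hab : closure ({a, b} : Set T) = ⊤) : Group.IsSolvable (MulAut T) := by
  haveI := Fact.mk Nat.prime_two
  set F := frattini T with hF
  have hcard : Nat.card (T ⧸ F) ≤ 4 := by
    refine card_le_four (BurnsideBasis.quotient_mul_comm hT) ?_ (a := (a : T ⧸ F)) (b := (b : T ⧸ F)) ?_
    · intro u
      induction u using QuotientGroup.induction_on with
      | _ g => rw [← QuotientGroup.mk_pow, QuotientGroup.eq_one_iff]; exact PGroup.pow_mem_frattini hT g
    · have := congrArg (Subgroup.map (QuotientGroup.mk' F)) hab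
      rw [MonoidHom.map_closure, Subgroup.map_top_of_surjective _ (QuotientGroup.mk'_surjective F),
        Set.image_pair] at this
      exact this
  have hmap : ∀ β : MulAut T, F.map β.toMonoidHom = F := fun β =>
    Subgroup.characteristic_iff_map_eq.mp inferInstance β
  let f : MulAut T →* Equiv.Perm (T ⧸ F) :=
    { toFun := fun β => (QuotientGroup.congr F F β (hmap β)).toEquiv
      map_one' := by
        ext u
        induction u using QuotientGroup.induction_on with
        | _ g => rfl
      map_mul' := fun β γ => by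
        ext u
        induction u using QuotientGroup.induction_on with
        | _ g => rfl }
  haveI := isSolvable_perm_of_card_le hcard
  have hker : IsPGroup 2 f.ker := by
    intro β
    have hne := (orderOf_pos (β : MulAut T)).ne'
    have huniq : ∀ {q : ℕ}, q.Prime → q ∣ orderOf (β : MulAut T) → q = 2 := by
      intro q hq hd
      by_contra hq2
      haveI := Fact.mk hq
      set γ := (β : MulAut T) ^ (orderOf (β : MulAut T) / q) with hγ
      have ho : orderOf γ = q := orderOf_pow_orderOf_div hne hd
      have h1 : γ = 1 := RankTwo.aut_eq_one_of_frattini hT hq2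
        (by rw [← ho, pow_orderOf_eq_one]) (fun g => by
          have hγk : γ ∈ f.ker := f.ker.pow_mem β.2 _
          have h2 := congrArg (fun σ : Equiv.Perm (T ⧸ F) => σ (g : T ⧸ F)) (MonoidHom.mem_ker.mp hγk)
          exact QuotientGroup.eq.mp h2.symm)
      rw [h1, orderOf_one] at ho
      exact hq.ne_one ho.symm
    have hord := Nat.eq_prime_pow_of_unique_prime_dvd hne huniq
    exact ⟨_, Subtype.ext (show (β : MulAut T) ^ (2 ^ (orderOf (β : MulAut T)).primeFactorsList.length) = 1 by
      rw [← hord, pow_orderOf_eq_one])⟩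
  haveI := hker.isNilpotent
  exact Group.isSolvable_of_ker_le_range f.ker.subtype f (by rw [range_subtype])

namespace SmallCyclic

variable {A : Type*} [Group A] [Finite A]

/-- The automorphism group of a solvable `SmallCyclic` group is solvable. -/
theorem isSolvable_mulAut (h : SmallCyclic A) [Group.IsSolvable A] : Group.IsSolvable (MulAut A) := by
  classical
  let ι := {r : ℕ // r ∈ (Nat.card A).primeFactors}
  let res : ∀ i : ι, MulAut A →* MulAut (Cfsg.pCore (i : ℕ) A) := fun i =>
    FPF.resAct (MonoidHom.id (MulAut A)) (Cfsg.pCore (i : ℕ) A)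
      (fun β x hx => Subgroup.characteristic_iff_map_le.mp (Cores.pCore_characteristic (i : ℕ) A) β ⟨x, hx, rfl⟩)
  haveI : Group.IsSolvable (∀ i : ι, MulAut (Cfsg.pCore (i : ℕ) A)) := by
    refine isSolvable_pi fun i => ?_
    have hr : (i : ℕ).Prime := Nat.prime_of_mem_primeFactors i.2
    haveI := Fact.mk hr
    have hp := Cores.isPGroup_pCore (i : ℕ) A
    by_cases h2 : (i : ℕ) = 2
    · obtain ⟨a, b, hab⟩ := h.two_generated (T := Cfsg.pCore (i : ℕ) A) (by rw [h2] at hp ⊢; exact hp)
      exact isSolvable_mulAut_of_two_generated (by simp only [h2] at hp ⊢; exact hp) hab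
    · haveI := h.isCyclic_of_pgroup_odd h2 hp
      let e := IsCyclic.mulAutMulEquiv (Cfsg.pCore (i : ℕ) A)
      exact Group.isSolvable_of_comm fun x y => e.injective (by rw [map_mul, map_mul, mul_comm])
  have hFc : ∀ β : MulAut A, β ∈ (MonoidHom.pi res).ker →
      ∀ t ∈ Cfsg.fittingSubgroup A, β t = t := by
    intro β hβ t ht
    have hle : Cfsg.fittingSubgroup A ≤ FPF.fixBy (MonoidHom.id (MulAut A)) β := by
      rw [Cores.fittingSubgroup_eq_iSup_pCore]
      refine iSup_le fun r => ?_
      by_cases hr : (r : ℕ) ∈ (Nat.card A).primeFactors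
      · intro u hu
        have h1 := congrArg (fun f => (f ⟨(r : ℕ), hr⟩) ⟨u, hu⟩) (MonoidHom.mem_ker.mp hβ)
        exact congrArg Subtype.val h1
      · rw [show Cfsg.pCore (r : ℕ) A = ⊥ from ?_]; · exact bot_le
        haveI := Fact.mk r.2
        rcases (Cores.isPGroup_pCore (r : ℕ) A).exists_card_eq with ⟨k, hk⟩
        rcases k with _ | k
        · exact eq_bot_of_card_eq _ (by rw [hk, pow_zero])
        · exact absurd (Nat.mem_primeFactors.mpr ⟨r.2,
            ((dvd_pow_self _ k.succ_ne_zero).trans hk.symm.dvd).trans (card_subgroup_dvd_card _),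
            Nat.card_pos.ne'⟩) hr
    exact hle ht
  have hd : ∀ β : MulAut A, β ∈ (MonoidHom.pi res).ker → ∀ x : A,
      x⁻¹ * β x ∈ Cfsg.fittingSubgroup A ∧ ∀ t ∈ Cfsg.fittingSubgroup A, Commute (x⁻¹ * β x) t := by
    intro β hβ x
    have hc : x⁻¹ * β x ∈ centralizer (Cfsg.fittingSubgroup A : Set A) := by
      refine mem_centralizer_iff.mpr fun t ht => ?_
      haveI := Cores.fittingSubgroup_normal A
      have h1 : x * t * x⁻¹ ∈ Cfsg.fittingSubgroup A :=
        Subgroup.Normal.conj_mem inferInstance t ht x
      have h2 := hFc β hβ _ h1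
      rw [map_mul, map_mul, map_inv, hFc β hβ t ht] at h2
      calc t * (x⁻¹ * β x) = x⁻¹ * (x * t * x⁻¹) * β x := by group
        _ = x⁻¹ * (β x * t * (β x)⁻¹) * β x := by rw [h2]
        _ = x⁻¹ * β x * t := by group
    exact ⟨Cfsg.Agent.S0044.result hc, fun t ht => (mem_centralizer_iff.mp hc t ht).symm⟩
  have hker : Group.IsSolvable (MonoidHom.pi res).ker := Group.isSolvable_of_comm fun β γ => by
    apply Subtype.ext
    ext x
    obtain ⟨ha, hac⟩ := hd β β.2 x
    obtain ⟨hb, -⟩ := hd γ γ.2 x
    have e1 : (γ : MulAut A) x = x * (x⁻¹ * (γ : MulAut A) x) := by group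
    have e2 : (β : MulAut A) x = x * (x⁻¹ * (β : MulAut A) x) := by group
    show (β : MulAut A) ((γ : MulAut A) x) = (γ : MulAut A) ((β : MulAut A) x)
    rw [e1, e2, map_mul, map_mul (γ : MulAut A), hFc β β.2 _ hb, hFc γ γ.2 _ ha]
    generalize x⁻¹ * (γ : MulAut A) x = b at hb e1 ⊢
    generalize hA : x⁻¹ * (β : MulAut A) x = a at ha hac e2 ⊢
    rw [e1, e2, mul_assoc, mul_assoc, (hac b hb).eq]
  haveI := hker
  exact Group.isSolvable_of_ker_le_range (MonoidHom.pi res).ker.subtype (MonoidHom.pi res)
    (by rw [range_subtype])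

end SmallCyclic

/-- `SL(2,5)` is not solvable. -/
theorem sl25_not_solvable : ¬ Group.IsSolvable (Matrix.SpecialLinearGroup (Fin 2) (ZMod 5)) := by
  haveI := Fact.mk (show Nat.Prime 5 by norm_num)
  intro h
  have hperf : commutator (Matrix.SpecialLinearGroup (Fin 2) (ZMod 5)) = ⊤ := by
    refine eq_top_iff.mpr fun g _ => ?_
    refine SLGen.mem_of_all_transvections _ (fun i j hij c => ?_) g
    rw [commutator_eq_closure]
    refine subset_closure (Cfsg.Agent.S0836.result 2 (Or.inr ⟨rfl, 2, ?_, ?_⟩) i j hij c _ ?_)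
    · decide +revert
    · decide +revert
    · first | rfl | simp
  obtain ⟨n, hn⟩ := (Group.isSolvable_def _).mp h
  have hall : ∀ k, derivedSeries (Matrix.SpecialLinearGroup (Fin 2) (ZMod 5)) k = ⊤ := by
    intro k
    induction k with
    | zero => rfl
    | succ k ih => rw [derivedSeries_succ, ih, ← _root_.commutator_def, hperf]
  rw [hall n] at hn
  haveI : Nontrivial (Matrix.SpecialLinearGroup (Fin 2) (ZMod 5)) :=
    ⟨⟨Matrix.SpecialLinearGroup.transvection (show (0 : Fin 2) ≠ 1 by decide) 1, 1, fun e => by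
      have := congrArg (fun M : Matrix.SpecialLinearGroup (Fin 2) (ZMod 5) => M.1 0 1) e
      simp [Matrix.SpecialLinearGroup.transvection, Matrix.transvection, Matrix.single] at this⟩⟩
  exact absurd hn top_ne_bot

end Cfsg.Agent.Frobenius
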