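import Cfsg.Agent.EqLemmas

/-!
Small representation-theoretic tools needed for Frobenius' kernel theorem.

Main results (namespace `Cfsg.Agent.Frobenius`):
* `indRep`, `char_indRep` : induced representation on `G ⧸ H → W` and its character
* `char_add_of_isCompl`, `exists_rep_of_virtual_norm_one`
* `apply_eq_one_of_char_pow` : character equal to the degree on all powers means trivial action
* `exists_irreducible_apply_ne_one` : irreducible representations separate elements
-/

namespace Cfsg.Agent.Frobenius

open Module
open scoped BigOperators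

universe u

section Ind

variable {k G W : Type*} [Field k] [Group G] [AddCommGroup W] [Module k W] {H : Subgroup G}

/-- The cocycle of the action on left cosets. -/
noncomputable def indCocycle (H : Subgroup G) (g : G) (q : G ⧸ H) : H :=
  ⟨q.out⁻¹ * g * (g⁻¹ • q).out, by
    rw [mul_assoc, ← QuotientGroup.eq]
    change (q.out : G ⧸ H) = g • ((g⁻¹ • q).out : G ⧸ H)
    rw [QuotientGroup.out_eq', QuotientGroup.out_eq', smul_inv_smul]⟩

theorem indCocycle_coe (g : G) (q : G ⧸ H) :
    (indCocycle H g q : G) = q.out⁻¹ * g * (g⁻¹ • q).out := rfl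

/-- The representation induced from `σ`, realised on functions on left cosets. -/
noncomputable def indRep (σ : Representation k H W) : Representation k G (G ⧸ H → W) where
  toFun g :=
    { toFun := fun f q => σ (indCocycle H g q) (f (g⁻¹ • q))
      map_add' := fun f f' => by ext q; simp
      map_smul' := fun c f => by ext q; simp }
  map_one' := by
    refine LinearMap.ext fun f => funext fun q => ?_
    show σ (indCocycle H 1 q) (f ((1 : G)⁻¹ • q)) = f q
    have h1 : indCocycle H 1 q = 1 := Subtype.ext (by simp [indCocycle_coe])
    rw [h1, inv_one, one_smul, map_one]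
    rfl
  map_mul' g g' := by
    refine LinearMap.ext fun f => funext fun q => ?_
    show σ (indCocycle H (g * g') q) (f ((g * g')⁻¹ • q)) =
      σ (indCocycle H g q) (σ (indCocycle H g' (g⁻¹ • q)) (f (g'⁻¹ • g⁻¹ • q)))
    have h1 : indCocycle H (g * g') q = indCocycle H g q * indCocycle H g' (g⁻¹ • q) := by
      apply Subtype.ext
      rw [Subgroup.coe_mul, indCocycle_coe, indCocycle_coe, indCocycle_coe, mul_inv_rev, mul_smul]
      group
    rw [h1, map_mul, mul_inv_rev, mul_smul]
    rfl

theorem indRep_apply (σ : Representation k H W) (g : G) (f : G ⧸ H → W) (q : G ⧸ H) :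
    indRep σ g f q = σ (indCocycle H g q) (f (g⁻¹ • q)) := rfl

open scoped Classical in
/-- The character of an induced representation. -/
theorem char_indRep [FiniteDimensional k W] [Fintype (G ⧸ H)] (σ : Representation k H W) (g : G) :
    (indRep σ).character g =
      ∑ q : G ⧸ H, if g⁻¹ • q = q then σ.character (indCocycle H g q) else 0 := by
  have hdec : indRep σ g = ∑ q : G ⧸ H,
      (LinearMap.single k (fun _ : G ⧸ H => W) q) ∘ₗ
        (σ (indCocycle H g q) ∘ₗ LinearMap.proj (g⁻¹ • q)) := by
    refine LinearMap.ext fun f => funext fun q => ?_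
    rw [indRep_apply, LinearMap.sum_apply, Finset.sum_apply, Finset.sum_eq_single q]
    · simp
    · intro b _ hb
      simp [Pi.single_eq_of_ne (Ne.symm hb)]
    · simp
  rw [Representation.character, hdec, map_sum]
  refine Finset.sum_congr rfl fun q _ => ?_
  rw [LinearMap.trace_comp_comm', LinearMap.comp_assoc]
  split_ifs with h
  · rw [h, LinearMap.proj_comp_single_same]
    rfl
  · rw [LinearMap.proj_comp_single_ne _ _ _ _ h, LinearMap.comp_zero, map_zero]

end Ind

section Add

variable {k G V : Type*} [Field k] [Group G] [AddCommGroup V] [Module k V] [FiniteDimensional k V]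
  {ρ : Representation k G V}

theorem char_add_of_isCompl (p q : Subrepresentation ρ)
    (h : IsCompl p.toSubmodule q.toSubmodule) (g : G) :
    ρ.character g = p.toRepresentation.character g + q.toRepresentation.character g := by
  let e := p.toSubmodule.prodEquivOfIsCompl q.toSubmodule h
  have hc : e.conj (LinearMap.prodMap (p.toRepresentation g) (q.toRepresentation g)) = ρ g := by
    refine LinearMap.ext fun v => ?_
    obtain ⟨x, rfl⟩ := e.surjective v
    rw [LinearEquiv.conj_apply_apply, LinearEquiv.symm_apply_apply]
    simp [e, Subrepresentation.toRepresentation]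
  rw [Representation.character, ← hc, LinearMap.trace_conj', LinearMap.trace_prodMap']
  rfl

theorem exists_isCompl_subrep [Finite G] [CharZero k] (p : Subrepresentation ρ) :
    ∃ q : Subrepresentation ρ, IsCompl p.toSubmodule q.toSubmodule := by
  have : NeZero (Nat.card G : k) := ⟨Nat.cast_ne_zero.2 Nat.card_pos.ne'⟩
  obtain ⟨q, hd, hs⟩ := exists_isCompl p
  exact ⟨q, disjoint_iff.2 (congrArg Subrepresentation.toSubmodule hd.eq_bot),
    codisjoint_iff.2 (congrArg Subrepresentation.toSubmodule hs.eq_top)⟩

end Add

section Norm

variable {G : Type*} [Group G] [Fintype G]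

theorem sum_char_mul_char {V W : Type*} [AddCommGroup V] [Module ℂ V] [FiniteDimensional ℂ V]
    [AddCommGroup W] [Module ℂ W] [FiniteDimensional ℂ W]
    (ρ : Representation ℂ G V) (σ : Representation ℂ G W) :
    ∑ g : G, σ.character g * ρ.character g⁻¹ =
      (Nat.card G : ℂ) * (finrank ℂ (Representation.IntertwiningMap ρ σ) : ℂ) := by
  have : Invertible (Nat.card G : ℂ) := invertibleOfNonzero (by simp)
  rw [← Representation.card_inv_mul_sum_char_mul_char_eq_finrank, ← mul_assoc,
    mul_inv_cancel₀ (by simp), one_mul]

theorem finiteDimensional_intertwining {V W : Type*} [AddCommGroup V] [Module ℂ V]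
    [FiniteDimensional ℂ V] [AddCommGroup W] [Module ℂ W] [FiniteDimensional ℂ W]
    (ρ : Representation ℂ G V) (σ : Representation ℂ G W) :
    FiniteDimensional ℂ (Representation.IntertwiningMap ρ σ) :=
  Module.Finite.equiv (Representation.invariantsEquivIntertwiningMap ρ σ)

/-- A difference of two characters of norm one and positive degree is a character. -/
theorem exists_rep_of_virtual_norm_one (n : ℕ) :
    ∀ {V W : Type u} [AddCommGroup V] [Module ℂ V] [FiniteDimensional ℂ V]
      [AddCommGroup W] [Module ℂ W] [FiniteDimensional ℂ W]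
      (ρ : Representation ℂ G V) (σ : Representation ℂ G W), finrank ℂ W = n →
      finrank ℂ W < finrank ℂ V →
      (∑ g : G, (ρ.character g - σ.character g) * (ρ.character g⁻¹ - σ.character g⁻¹)) =
        (Nat.card G : ℂ) →
      ∃ (U : Type u) (_ : AddCommGroup U) (_ : Module ℂ U) (_ : FiniteDimensional ℂ U)
        (τ : Representation ℂ G U), ∀ g, τ.character g = ρ.character g - σ.character g := by
  induction n using Nat.strong_induction_on with
  | _ n ih =>
  intro V W _ _ _ _ _ _ ρ σ hn hlt hnorm
  have := finiteDimensional_intertwining ρ ρ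
  have := finiteDimensional_intertwining σ σ
  have := finiteDimensional_intertwining ρ σ
  by_cases hf : ∀ f : Representation.IntertwiningMap ρ σ, f = 0
  · -- no common constituent, so one of the two representations is zero
    have h1 : finrank ℂ (Representation.IntertwiningMap ρ σ) = 0 := by
      have : Subsingleton (Representation.IntertwiningMap ρ σ) :=
        ⟨fun a b => (hf a).trans (hf b).symm⟩
      exact finrank_zero_of_subsingleton
    have e1 := sum_char_mul_char ρ σ
    rw [h1, Nat.cast_zero, mul_zero] at e1
    have e2 : ∑ g : G, ρ.character g * σ.character g⁻¹ = 0 := by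
      rw [← e1]
      exact Fintype.sum_equiv (Equiv.inv G) _ _ (fun g => by simp [mul_comm])
    simp only [sub_mul, mul_sub, Finset.sum_sub_distrib] at hnorm
    rw [sum_char_mul_char ρ ρ, sum_char_mul_char σ σ, e1, e2, sub_zero, zero_sub, sub_neg_eq_add,
      ← mul_add, mul_eq_left₀ (by simp), ← Nat.cast_add, Nat.cast_eq_one] at hnorm
    have hV : 0 < finrank ℂ (Representation.IntertwiningMap ρ ρ) := by
      refine Module.finrank_pos_iff_exists_ne_zero.2 ⟨Representation.IntertwiningMap.id ρ, fun h => ?_⟩
      have hV0 : 0 < finrank ℂ V := by omega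
      obtain ⟨v, hv⟩ := Module.finrank_pos_iff_exists_ne_zero.1 hV0
      exact hv (DFunLike.congr_fun h v)
    have hW : finrank ℂ (Representation.IntertwiningMap σ σ) = 0 := by omega
    have hW0 : finrank ℂ W = 0 := by
      by_contra hW1
      obtain ⟨w, hw⟩ := Module.finrank_pos_iff_exists_ne_zero.1 (Nat.pos_of_ne_zero hW1)
      have hsub := Module.finrank_zero_iff.1 hW
      exact hw (DFunLike.congr_fun
        (Subsingleton.elim (Representation.IntertwiningMap.id σ) 0) w)
    refine ⟨V, inferInstance, inferInstance, inferInstance, ρ, fun g => ?_⟩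
    have : Subsingleton W := Module.finrank_zero_iff.1 hW0
    have hz : σ g = 0 := LinearMap.ext fun w => Subsingleton.elim _ _
    simp [Representation.character, hz]
  · push Not at hf
    obtain ⟨f, hf⟩ := hf
    let K : Subrepresentation ρ := ⟨LinearMap.ker f.toLinearMap, fun g v hv => by
      rw [LinearMap.mem_ker] at hv ⊢
      rw [Representation.IntertwiningMap.toLinearMap_apply, f.isIntertwining,
        ← Representation.IntertwiningMap.toLinearMap_apply, hv, map_zero]⟩
    let R : Subrepresentation σ := ⟨LinearMap.range f.toLinearMap, fun g v hv => by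
      obtain ⟨w, rfl⟩ := hv
      exact ⟨ρ g w, f.isIntertwining _ _ g w⟩⟩
    obtain ⟨C, hC⟩ := exists_isCompl_subrep K
    obtain ⟨D, hD⟩ := exists_isCompl_subrep R
    let e : C.toSubmodule ≃ₗ[ℂ] R.toSubmodule :=
      (Submodule.quotientEquivOfIsCompl K.toSubmodule C.toSubmodule hC).symm ≪≫ₗ
        f.toLinearMap.quotKerEquivRange
    have he : ∀ x, (e x : W) = f.toLinearMap x := fun x => by
      simp [e, K, R]
    have hchar : ∀ g, C.toRepresentation.character g = R.toRepresentation.character g := fun g => by
      have : e.conj (C.toRepresentation g) = R.toRepresentation g := by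
        refine LinearMap.ext fun y => ?_
        obtain ⟨x, rfl⟩ := e.surjective y
        rw [LinearEquiv.conj_apply_apply, LinearEquiv.symm_apply_apply]
        apply Subtype.ext
        rw [he]
        show f.toLinearMap (ρ g x) = σ g (e x)
        rw [he]
        exact f.isIntertwining _ _ g x
      rw [Representation.character, Representation.character, ← this, LinearMap.trace_conj']
    have hVW : ∀ g, ρ.character g - σ.character g =
        K.toRepresentation.character g - D.toRepresentation.character g := fun g => by
      rw [char_add_of_isCompl K C hC, char_add_of_isCompl R D hD, hchar]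
      ring
    have hR : 0 < finrank ℂ R.toSubmodule := by
      rw [pos_iff_ne_zero, Ne, Submodule.finrank_eq_zero, LinearMap.range_eq_bot]
      exact fun h => hf (Representation.IntertwiningMap.ext h)
    have hdimV := Submodule.finrank_add_eq_of_isCompl hC
    have hdimW := Submodule.finrank_add_eq_of_isCompl hD
    have hCR := e.finrank_eq
    obtain ⟨U, i1, i2, i3, τ, hτ⟩ := ih (finrank ℂ D.toSubmodule) (by omega)
      K.toRepresentation D.toRepresentation rfl (by omega) (by simpa only [← hVW] using hnorm)
    exact ⟨U, i1, i2, i3, τ, fun g => by rw [hτ, hVW]⟩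

/-- If the character takes its degree as value on every power of `g`, then `g` acts trivially. -/
theorem apply_eq_one_of_char_pow {V : Type*} [AddCommGroup V] [Module ℂ V] [FiniteDimensional ℂ V]
    (ρ : Representation ℂ G V) (g : G)
    (h : ∀ x ∈ Subgroup.zpowers g, ρ.character x = finrank ℂ V) : ρ g = 1 := by
  classical
  let ρ' : Representation ℂ (Subgroup.zpowers g) V := ρ.comp (Subgroup.zpowers g).subtype
  have hinv : Invertible (Nat.card (Subgroup.zpowers g) : ℂ) := invertibleOfNonzero (by simp)
  have key := Representation.card_inv_mul_sum_char_eq_finrank ρ'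
  have hsum : ∑ x : Subgroup.zpowers g, ρ'.character x =
      (Nat.card (Subgroup.zpowers g) : ℂ) * (finrank ℂ V : ℂ) := by
    have hx : ∀ x, ρ'.character x = (finrank ℂ V : ℂ) := fun x => h x x.2
    simp only [hx, Finset.sum_const, Finset.card_univ, nsmul_eq_mul, Fintype.card_eq_nat_card]
  rw [hsum, ← mul_assoc, inv_mul_cancel₀ (by simp), one_mul, Nat.cast_inj] at key
  have htop := Submodule.eq_top_of_finrank_eq key.symm
  refine LinearMap.ext fun v => ?_
  have hv : v ∈ ρ'.invariants := by rw [htop]; trivial
  exact hv ⟨g, Subgroup.mem_zpowers g⟩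

/-- Irreducible representations separate the elements of a finite group. -/
theorem exists_irreducible_apply_ne_one {G : Type u} [Group G] [Finite G] {h : G} (hh : h ≠ 1) :
    ∃ (V : Type u) (_ : AddCommGroup V) (_ : Module ℂ V) (_ : FiniteDimensional ℂ V)
      (φ : Representation ℂ G V), Representation.IsIrreducible φ ∧ φ h ≠ 1 := by
  suffices key : ∀ (n : ℕ) (V : Type u) [AddCommGroup V] [Module ℂ V] [FiniteDimensional ℂ V]
      (φ : Representation ℂ G V), finrank ℂ V = n → φ h ≠ 1 →
      ∃ (V : Type u) (_ : AddCommGroup V) (_ : Module ℂ V) (_ : FiniteDimensional ℂ V)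
        (φ : Representation ℂ G V), Representation.IsIrreducible φ ∧ φ h ≠ 1 by
    let reg : Representation ℂ G (G → ℂ) :=
      { toFun := fun g => LinearMap.funLeft ℂ ℂ (fun x => g⁻¹ * x)
        map_one' := by ext f x; simp
        map_mul' := fun a b => by ext f x; simp [mul_assoc] }
    refine key _ (G → ℂ) reg rfl fun h1 => hh ?_
    classical
    have := congrFun (LinearMap.congr_fun h1 (Pi.single 1 1)) h
    simp [reg] at this
    exact by_contra fun hne => one_ne_zero (α := ℂ) (by simpa [hne] using this)
  intro n
  induction n using Nat.strong_induction_on with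
  | _ n ih =>
  intro V _ _ _ φ hn hφ
  by_cases hirr : Representation.IsIrreducible φ
  · exact ⟨V, inferInstance, inferInstance, inferInstance, φ, hirr, hφ⟩
  have : Nontrivial V := by
    by_contra hV
    rw [not_nontrivial_iff_subsingleton] at hV
    exact hφ (LinearMap.ext fun v => Subsingleton.elim _ _)
  have : Nontrivial (Subrepresentation φ) := ⟨⟨⊥, ⊤, fun he => by
    obtain ⟨v, hv⟩ := exists_ne (0 : V)
    have h2 : (⊥ : Submodule ℂ V) = ⊤ := congrArg Subrepresentation.toSubmodule he
    exact hv (by rw [← Submodule.mem_bot (R := ℂ), h2]; trivial)⟩⟩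
  have hex : ∃ p : Subrepresentation φ, p ≠ ⊥ ∧ p ≠ ⊤ := by
    by_contra hno
    push Not at hno
    exact hirr ⟨fun p => or_iff_not_imp_left.2 (hno p)⟩
  obtain ⟨p, hp0, hp1⟩ := hex
  obtain ⟨q, hpq⟩ := exists_isCompl_subrep p
  have hdim := Submodule.finrank_add_eq_of_isCompl hpq
  have hp0' : 0 < finrank ℂ p.toSubmodule := by
    rw [pos_iff_ne_zero, Ne, Submodule.finrank_eq_zero]
    exact fun he => hp0 (Subrepresentation.toSubmodule_injective he)
  have hq0' : 0 < finrank ℂ q.toSubmodule := by
    rw [pos_iff_ne_zero, Ne, Submodule.finrank_eq_zero]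
    intro he
    have := hpq.sup_eq_top
    rw [he, sup_bot_eq] at this
    exact hp1 (Subrepresentation.toSubmodule_injective this)
  by_cases hp : p.toRepresentation h = 1
  · refine ih _ (by omega) q.toSubmodule q.toRepresentation rfl fun hq => hφ ?_
    refine LinearMap.ext fun v => ?_
    obtain ⟨a, ha, b, hb, rfl⟩ :=
      Submodule.mem_sup.1 (show v ∈ p.toSubmodule ⊔ q.toSubmodule by rw [hpq.sup_eq_top]; trivial)
    have e1 : φ h a = a := congrArg Subtype.val (LinearMap.congr_fun hp ⟨a, ha⟩)
    have e2 : φ h b = b := congrArg Subtype.val (LinearMap.congr_fun hq ⟨b, hb⟩)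
    simp [e1, e2]
  · exact ih _ (by omega) p.toSubmodule p.toRepresentation rfl hp

end Norm

end Cfsg.Agent.Frobenius
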