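import Cfsg.Agent.Lib.Frobenius.Kernel

/-!
Groups acting fixed-point-freely; structure of Frobenius complements.

Main results (namespace `Cfsg.Agent.Frobenius`):
* `SmallCyclic A` : every subgroup of order a product of two primes is cyclic
* `smallCyclic_of_fpf` : a group acting fixed-point-freely on a non-trivial finite group is
  `SmallCyclic`; `smallCyclic_complement`
* `exists_invariant_sylow_complement` : a complement normalising a given Sylow subgroup of the
  kernel and still acting fixed-point-freely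
* `SmallCyclic.commute_of_prime_order`, `SmallCyclic.mem_zpowers_of_orderOf_eq` (unique subgroup of
  order `p` in a `p`-subgroup), `SmallCyclic.not_isFrobeniusComplement`,
  `SmallCyclic.isCyclic_of_comm`
* `exists_le_conj`, `exists_conj_eq` : Frobenius complements are conjugate
-/

namespace Cfsg.Agent.Frobenius

open scoped BigOperators Pointwise

variable {G : Type*} [Group G]

/-- Every subgroup whose order is a product of two primes is cyclic. -/
def SmallCyclic (A : Type*) [Group A] : Prop :=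
  ∀ p q : ℕ, p.Prime → q.Prime → ∀ B : Subgroup A, Nat.card B = p * q → IsCyclic B

theorem SmallCyclic.of_injective {A B : Type*} [Group A] [Group B] (h : SmallCyclic B)
    {f : A →* B} (hf : Function.Injective f) : SmallCyclic A := by
  intro p q hp hq C hC
  have e := C.equivMapOfInjective f hf
  have hc : IsCyclic (C.map f) := h p q hp hq _ (by rw [← Nat.card_congr e.toEquiv, hC])
  exact isCyclic_of_surjective e.symm e.symm.surjective

theorem card_sup_of_disjoint {X Y : Subgroup G} (hXn : X ≤ Subgroup.normalizer (Y : Set G))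
    (hd : Disjoint X Y) : Nat.card (X ⊔ Y : Subgroup G) = Nat.card X * Nat.card Y := by
  rw [← Nat.card_prod, ← Nat.card_range_of_injective (Subgroup.mul_injective_of_disjoint hd)]
  refine Nat.card_congr (Equiv.setCongr ?_)
  rw [Subgroup.coe_mul_of_left_le_normalizer_right X Y hXn]
  ext z
  constructor
  · rintro ⟨a, ha, b, hb, rfl⟩
    exact ⟨(⟨a, ha⟩, ⟨b, hb⟩), rfl⟩
  · rintro ⟨⟨a, b⟩, rfl⟩
    exact ⟨a, a.2, b, b.2, rfl⟩

section Abelian

variable {A V : Type*} [Group A] [Finite A] [CommGroup V] (φ : A →* MulAut V)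

theorem exists_prime_subgroup_count {p q : ℕ} (hp : p.Prime) (hq : q.Prime) (hpq : p ≤ q)
    (hA : Nat.card A = p * q) (hc : ¬ IsCyclic A) :
    ∃ S : Finset (Subgroup A), S.card = q + 1 ∧ (∀ B ∈ S, B ≠ ⊥) ∧
      ∀ a : A, a ≠ 1 → ∃! B, B ∈ S ∧ a ∈ B := by
  classical
  have := Fintype.ofFinite A
  have := Fintype.ofFinite (Subgroup A)
  let S := Finset.univ.filter fun B : Subgroup A => (Nat.card B).Prime
  have hne : ∀ B ∈ S, B ≠ ⊥ := by
    intro B hB h
    simp only [S, Finset.mem_filter, Finset.mem_univ, true_and, h, Subgroup.card_bot] at hB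
    exact Nat.not_prime_one hB
  have hord : ∀ a : A, a ≠ 1 → (orderOf a).Prime := by
    intro a ha
    have hd : orderOf a ∣ p * q := hA ▸ orderOf_dvd_natCard a
    obtain ⟨d, e, hd', he', hde⟩ := exists_dvd_and_dvd_of_dvd_mul hd
    have hne1 : orderOf a ≠ p * q := fun h => hc (isCyclic_of_orderOf_eq_card a (by rw [h, hA]))
    rcases (Nat.dvd_prime hp).1 hd' with h1 | h1 <;> rcases (Nat.dvd_prime hq).1 he' with h2 | h2 <;>
      subst h1 h2
    · exact absurd (orderOf_eq_one_iff.1 (by simpa using hde)) ha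
    · simpa [hde] using hq
    · simpa [hde] using hp
    · exact absurd hde hne1
  have huniq : ∀ a : A, a ≠ 1 → ∀ B : Subgroup A, (Nat.card B).Prime → a ∈ B →
      B = Subgroup.zpowers a := by
    intro a ha B hB haB
    refine (Subgroup.eq_of_le_of_card_ge (Subgroup.zpowers_le.2 haB) ?_).symm
    rw [Nat.card_zpowers]
    rcases (Nat.dvd_prime hB).1 (Subgroup.orderOf_dvd_natCard B haB) with h | h
    · exact absurd (orderOf_eq_one_iff.1 h) ha
    · exact h.ge
  have hpart : ∀ a : A, a ≠ 1 → ∃! B, B ∈ S ∧ a ∈ B := by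
    intro a ha
    refine ⟨Subgroup.zpowers a, ⟨?_, Subgroup.mem_zpowers a⟩, fun B hB => ?_⟩
    · simp only [S, Finset.mem_filter, Finset.mem_univ, true_and, Nat.card_zpowers]
      exact hord a ha
    · simp only [S, Finset.mem_filter, Finset.mem_univ, true_and] at hB
      exact huniq a ha B hB.1 hB.2
  have hdvd : ∀ B ∈ S, Nat.card B = p ∨ Nat.card B = q := by
    intro B hB
    simp only [S, Finset.mem_filter, Finset.mem_univ, true_and] at hB
    rcases hB.dvd_mul.1 (hA ▸ Subgroup.card_subgroup_dvd_card B) with h | h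
    · exact Or.inl ((Nat.prime_dvd_prime_iff_eq hB hp).1 h)
    · exact Or.inr ((Nat.prime_dvd_prime_iff_eq hB hq).1 h)
  -- counting non-identity elements
  have hcount : ∑ B ∈ S, (Nat.card B - 1) = p * q - 1 := by
    have h1 : ∀ B : Subgroup A, Nat.card B - 1 =
        ((Finset.univ.erase (1 : A)).filter fun a => a ∈ B).card := by
      intro B
      rw [Finset.filter_erase, Finset.card_erase_of_mem (by simp [B.one_mem]), ← Fintype.card_subtype,
        Fintype.card_eq_nat_card]
    simp only [h1]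
    rw [← Finset.card_biUnion]
    · rw [show S.biUnion (fun B => (Finset.univ.erase (1 : A)).filter fun a => a ∈ B) =
        Finset.univ.erase 1 from ?_, Finset.card_erase_of_mem (Finset.mem_univ _), Finset.card_univ,
        Fintype.card_eq_nat_card, hA]
      ext a
      simp only [Finset.mem_biUnion, Finset.mem_filter, Finset.mem_erase, Finset.mem_univ, and_true]
      refine ⟨fun ⟨B, _, ha, _⟩ => ha, fun ha => ?_⟩
      obtain ⟨B, hB, -⟩ := hpart a ha
      exact ⟨B, hB.1, ha, hB.2⟩
    · intro B hB C hC hBC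
      refine Finset.disjoint_left.2 fun a ha hb => hBC ?_
      simp only [Finset.mem_filter, Finset.mem_erase, Finset.mem_univ, and_true] at ha hb
      exact (hpart a ha.1).unique ⟨hB, ha.2⟩ ⟨hC, hb.2⟩
  have h2p := hp.two_le
  refine ⟨S, ?_, hne, hpart⟩
  rcases hpq.eq_or_lt with rfl | hlt
  · have hs : ∀ B ∈ S, Nat.card B - 1 = p - 1 := fun B hB => by rw [or_self_iff.1 (hdvd B hB)]
    rw [Finset.sum_congr rfl hs, Finset.sum_const, smul_eq_mul] at hcount
    obtain ⟨m, rfl⟩ : ∃ m, p = m + 1 := ⟨p - 1, by omega⟩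
    simp only [Nat.add_sub_cancel] at hcount
    have e : (m + 1) * (m + 1) - 1 = (m + 1 + 1) * m :=
      Nat.sub_eq_of_eq_add (by ring)
    rw [e] at hcount
    exact Nat.eq_of_mul_eq_mul_right (by omega) hcount
  · -- exactly one subgroup of order `q`
    have := Fact.mk hq
    obtain ⟨x, hx⟩ := exists_prime_orderOf_dvd_card' (G := A) q (hA ▸ Dvd.intro_left _ rfl)
    let Q := Subgroup.zpowers x
    have hQc : Nat.card Q = q := by rw [Nat.card_zpowers, hx]
    have hQ : Q ∈ S := Finset.mem_filter.2 ⟨Finset.mem_univ _, by rw [hQc]; exact hq⟩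
    have hQu : ∀ B ∈ S, Nat.card B = q → B = Q := by
      intro B hB hBq
      by_contra hne'
      have hd : Disjoint B Q := by
        rw [disjoint_iff, Subgroup.eq_bot_iff_forall]
        rintro a ⟨haB, haQ⟩
        by_contra ha
        exact hne' ((hpart a ha).unique ⟨hB, haB⟩ ⟨hQ, haQ⟩)
      have h1 := Nat.card_le_card_of_injective _ (Subgroup.mul_injective_of_disjoint hd)
      rw [Nat.card_prod, hBq, hQc, hA] at h1
      exact absurd h1 (not_le.2 ((Nat.mul_lt_mul_right hq.pos).2 hlt))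
    have hs : ∀ B ∈ S.erase Q, Nat.card B - 1 = p - 1 := fun B hB => by
      rw [Finset.mem_erase] at hB
      rw [(hdvd B hB.2).resolve_right fun h => hB.1 (hQu B hB.2 h)]
    rw [← Finset.add_sum_erase S _ hQ, hQc, Finset.sum_congr rfl hs, Finset.sum_const,
      smul_eq_mul] at hcount
    obtain ⟨m, rfl⟩ : ∃ m, p = m + 1 := ⟨p - 1, by omega⟩
    obtain ⟨n, rfl⟩ : ∃ n, q = n + 1 := ⟨q - 1, by omega⟩
    simp only [Nat.add_sub_cancel] at hcount
    have e : (m + 1) * (n + 1) - 1 = n + (n + 1) * m :=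
      Nat.sub_eq_of_eq_add (by ring)
    rw [e, Nat.add_left_cancel_iff] at hcount
    rw [← Finset.card_erase_add_one hQ, Nat.eq_of_mul_eq_mul_right (by omega) hcount]

/-- A group of order `p * q` acting fixed-point-freely on a non-trivial abelian group is cyclic. -/
theorem isCyclic_of_card_mul_primes [Finite V] [Nontrivial V]
    (hφ : ∀ a, a ≠ 1 → ∀ v, φ a v = v → v = 1) (hcop : Nat.Coprime (Nat.card A) (Nat.card V))
    {p q : ℕ} (hp : p.Prime) (hq : q.Prime) (hA : Nat.card A = p * q) : IsCyclic A := by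
  classical
  wlog hpq : p ≤ q generalizing p q
  · exact this hq hp (by rw [hA, mul_comm]) (le_of_not_ge hpq)
  by_contra hc
  have := Fintype.ofFinite A
  obtain ⟨S, hS, hne, hpart⟩ := exists_prime_subgroup_count hp hq hpq hA hc
  -- the product over any non-trivial subgroup is a fixed point
  have hB : ∀ B : Subgroup A, B ≠ ⊥ → ∀ v, ∏ b : B, φ b v = 1 := by
    intro B hB v
    obtain ⟨b, hb⟩ := Subgroup.ne_bot_iff_exists_ne_one.1 hB
    refine hφ b (fun h => hb (Subtype.ext h)) _ ?_
    rw [map_prod]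
    refine Fintype.prod_equiv (Equiv.mulLeft b) _ _ fun c => ?_
    simp
  have hv : ∀ v : V, v ^ q = 1 := by
    intro v
    have hall : ∏ a : A, φ a v = 1 := by
      have htop : (⊤ : Subgroup A) ≠ ⊥ := by
        intro h
        have : Nat.card A = 1 := by rw [← Subgroup.card_top, h, Subgroup.card_bot]
        rw [hA, mul_eq_one] at this
        exact hp.ne_one this.1
      rw [← hB ⊤ htop v]
      exact Fintype.prod_equiv Subgroup.topEquiv.symm.toEquiv _ _ fun a => rfl
    let T : Subgroup A → Finset A := fun B => (Finset.univ.erase (1 : A)).filter fun a => a ∈ B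
    have hT : ∀ B : Subgroup A, B ≠ ⊥ → v * ∏ a ∈ T B, φ a v = 1 := by
      intro B hB'
      rw [← hB B hB' v, ← Finset.prod_subtype (Finset.univ.filter (· ∈ B)) (by simp) (fun a => φ a v),
        show T B = (Finset.univ.filter (· ∈ B)).erase 1 from by simp [T, Finset.filter_erase],
        ← Finset.mul_prod_erase (Finset.univ.filter (· ∈ B)) _ (show (1 : A) ∈ _ by simp [B.one_mem])]
      simp
    have h1 : ∏ B ∈ S, (v * ∏ a ∈ T B, φ a v) = 1 :=
      Finset.prod_eq_one fun B hBS => hT B (hne B hBS)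
    rw [Finset.prod_mul_distrib, Finset.prod_const, hS, ← Finset.prod_biUnion] at h1
    · rw [show S.biUnion T = Finset.univ.erase 1 from ?_, pow_succ, mul_assoc,
        show v * ∏ a ∈ Finset.univ.erase (1 : A), φ a v = ∏ a : A, φ a v from ?_, hall, mul_one] at h1
      · exact h1
      · rw [← Finset.mul_prod_erase Finset.univ _ (Finset.mem_univ (1 : A))]
        simp
      · ext a
        simp only [T, Finset.mem_biUnion, Finset.mem_filter, Finset.mem_erase, Finset.mem_univ,
          and_true]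
        refine ⟨fun ⟨B, _, ha, _⟩ => ha, fun ha => ?_⟩
        obtain ⟨B, hB', -⟩ := hpart a ha
        exact ⟨B, hB'.1, ha, hB'.2⟩
    · intro B hB' C hC hBC
      refine Finset.disjoint_left.2 fun a ha hb => hBC ?_
      simp only [T, Finset.mem_filter, Finset.mem_erase, Finset.mem_univ, and_true] at ha hb
      exact (hpart a ha.1).unique ⟨hB', ha.2⟩ ⟨hC, hb.2⟩
  obtain ⟨v, hv1⟩ := exists_ne (1 : V)
  have hord : orderOf v ∣ q := orderOf_dvd_of_pow_eq_one (hv v)
  rcases (Nat.dvd_prime hq).1 hord with h | h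
  · exact hv1 (orderOf_eq_one_iff.1 h)
  · exact hq.ne_one (Nat.dvd_one.1 ((hcop.coprime_dvd_right (orderOf_dvd_natCard v)).gcd_eq_one ▸
      Nat.dvd_gcd (hA ▸ Dvd.intro_left _ rfl) (dvd_of_eq h.symm)))

end Abelian

open scoped IsMulCommutative in
theorem isCyclic_of_card_mul_primes' [Finite G] {B V : Subgroup G} [IsMulCommutative V]
    (hV : V ≠ ⊥) (hB : B ≤ Subgroup.normalizer (V : Set G)) (h : FPF B V) {p q : ℕ} (hp : p.Prime)
    (hq : q.Prime) (hc : Nat.card B = p * q) : IsCyclic B := by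
  have : Nontrivial V := (Subgroup.nontrivial_iff_ne_bot V).2 hV
  refine isCyclic_of_card_mul_primes (V := V) (V.normalizerMonoidHom.comp (Subgroup.inclusion hB))
    (fun a ha v hv => ?_) (h.coprime hB) hp hq hc
  have e : (a : G) * (v : G) * (a : G)⁻¹ = v := congrArg Subtype.val hv
  exact Subtype.ext (h a a.2 (fun h' => ha (Subtype.ext h')) v v.2 (mul_inv_eq_iff_eq_mul.1 e))

/-- A Sylow subgroup of the kernel is normalised by a (fixed-point-free) complement. -/
theorem exists_invariant_sylow_complement [Finite G] {K H : Subgroup G} [K.Normal]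
    (hc : Subgroup.IsComplement' K H) (hfpf : FPF H K) (r : ℕ) [Fact r.Prime] (R : Sylow r K) :
    ∃ A : Subgroup G, Subgroup.IsComplement' K A ∧ FPF A K ∧ Nonempty (A ≃* H) ∧
      A ≤ Subgroup.normalizer (((R : Subgroup K).map K.subtype : Subgroup G) : Set G) := by
  set N : Subgroup G := Subgroup.normalizer (((R : Subgroup K).map K.subtype : Subgroup G) : Set G)
  have hN : N ⊔ K = ⊤ := Sylow.normalizer_sup_eq_top R
  have hidx : K.index = Nat.card H := hc.symm.index_eq_card
  have hcop : Nat.Coprime (Nat.card H) (Nat.card K) :=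
    hfpf.coprime (by rw [Subgroup.normalizer_eq_top]; exact le_top)
  have hKN : (K.subgroupOf N).index = Nat.card H := by
    rw [← Subgroup.relIndex, ← hidx, ← Subgroup.relIndex_top_right]
    rw [← hN, Subgroup.relIndex_sup_right]
  have hcard : Nat.card (K.subgroupOf N) ∣ Nat.card K := by
    rw [← Subgroup.inf_subgroupOf_right, Nat.card_congr
      (Subgroup.subgroupOfEquivOfLe (inf_le_right : K ⊓ N ≤ N)).toEquiv]
    exact Subgroup.card_dvd_of_le inf_le_left
  obtain ⟨B, hB⟩ := Subgroup.exists_right_complement'_of_coprime (N := K.subgroupOf N)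
    (by rw [hKN]; exact (hcop.coprime_dvd_right hcard).symm)
  let A := B.map N.subtype
  have hAN : A ≤ N := Subgroup.map_subtype_le B
  have hBc : Nat.card B = Nat.card H := by rw [← hKN, hB.symm.index_eq_card]
  have hAc : Nat.card A = Nat.card H := by
    rw [← hBc]
    exact Nat.card_congr (B.equivMapOfInjective _ N.subtype_injective).symm.toEquiv
  have hd : Disjoint K A := by
    rw [disjoint_iff, Subgroup.eq_bot_iff_forall]
    rintro x ⟨hxK, hxA⟩
    obtain ⟨y, hy, rfl⟩ := hxA
    have hd' := hB.disjoint.le_bot ⟨(Subgroup.mem_subgroupOf.2 hxK : y ∈ K.subgroupOf N), hy⟩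
    rw [Subgroup.mem_bot] at hd'
    rw [hd']
    rfl
  have hKA : Subgroup.IsComplement' K A :=
    Subgroup.isComplement'_of_card_mul_and_disjoint (by rw [hAc, hc.card_mul_card]) hd
  refine ⟨A, hKA, ?_, ⟨(hKA.symm.QuotientMulEquiv).symm.trans hc.symm.QuotientMulEquiv⟩, hAN⟩
  intro a ha ha1 x hx e
  have haK : a ∉ K := fun h => ha1 (Subgroup.mem_bot.1 (hd.le_bot ⟨h, ha⟩))
  obtain ⟨k, hk, hkh⟩ := hfpf.exists_conj_mem hc haK
  have h1 := hfpf _ hkh (fun h => ha1 (by
    calc a = k * (k⁻¹ * a * k) * k⁻¹ := by group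
      _ = 1 := by rw [h]; group)) (k⁻¹ * x * k) (K.mul_mem (K.mul_mem (K.inv_mem hk) hx) hk) (by
    calc k⁻¹ * a * k * (k⁻¹ * x * k) = k⁻¹ * (a * x) * k := by group
      _ = k⁻¹ * (x * a) * k := by rw [e]
      _ = k⁻¹ * x * k * (k⁻¹ * a * k) := by group)
  calc x = k * (k⁻¹ * x * k) * k⁻¹ := by group
    _ = 1 := by rw [h1]; group

private theorem isCyclic_of_semidirect [Finite G] {K B : Subgroup G} [K.Normal]
    (hc : Subgroup.IsComplement' K B) (hK : K ≠ ⊥) (h : FPF B K) {p q : ℕ} (hp : p.Prime)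
    (hq : q.Prime) (hcard : Nat.card B = p * q) : IsCyclic B := by
  have hK1 : Nat.card K ≠ 1 := fun h' => hK (Subgroup.card_eq_one.1 h')
  obtain ⟨r, hr, hrK⟩ := Nat.exists_prime_and_dvd hK1
  have := Fact.mk hr
  let R : Sylow r K := default
  obtain ⟨A, -, hA, ⟨e⟩, hN⟩ := exists_invariant_sylow_complement hc h r R
  set Rm := (R : Subgroup K).map K.subtype
  let Z := Rm ⊓ Subgroup.centralizer (Rm : Set G)
  have : IsMulCommutative Z := ⟨⟨fun a b => Subtype.ext (b.2.2 a a.2.1)⟩⟩
  have hZ : Z ≠ ⊥ := by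
    have hRne : (R : Subgroup K) ≠ ⊥ := R.ne_bot_of_dvd_card hrK
    have hnt : Nontrivial R := (Subgroup.nontrivial_iff_ne_bot _).2 hRne
    have := R.isPGroup'.center_nontrivial
    obtain ⟨z, hz⟩ := exists_ne (1 : Subgroup.center R)
    intro hbot
    have hzZ : ((z : (R : Subgroup K)) : K).1 ∈ Z := by
      refine ⟨⟨_, (z : (R : Subgroup K)).2, rfl⟩, ?_⟩
      rintro _ ⟨y, hy, rfl⟩
      exact congrArg (fun w : (R : Subgroup K) => ((w : K) : G))
        (Subgroup.mem_center_iff.1 z.2 ⟨y, hy⟩)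
    rw [hbot, Subgroup.mem_bot] at hzZ
    exact hz (Subtype.ext (Subtype.ext (Subtype.ext hzZ)))
  have hnorm : A ≤ Subgroup.normalizer (Z : Set G) := by
    intro a ha
    have h1 : ∀ x, x ∈ Rm ↔ a * x * a⁻¹ ∈ Rm := Subgroup.mem_normalizer_iff.1 (hN ha)
    refine Subgroup.mem_normalizer_iff.2 fun x => ?_
    simp only [Z, Subgroup.mem_inf, ← h1 x, Subgroup.mem_centralizer_iff, SetLike.mem_coe]
    refine and_congr_right fun _ => ⟨fun h2 y hy => ?_, fun h2 y hy => ?_⟩
    · have hy' : a⁻¹ * y * a ∈ Rm := (h1 _).2 (by simpa [mul_assoc] using hy)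
      calc y * (a * x * a⁻¹) = a * ((a⁻¹ * y * a) * x) * a⁻¹ := by group
        _ = a * (x * (a⁻¹ * y * a)) * a⁻¹ := by rw [h2 _ hy']
        _ = a * x * a⁻¹ * y := by group
    · calc y * x = a⁻¹ * ((a * y * a⁻¹) * (a * x * a⁻¹)) * a := by group
        _ = a⁻¹ * ((a * x * a⁻¹) * (a * y * a⁻¹)) * a := by rw [h2 _ ((h1 y).1 hy)]
        _ = x * y := by group
  have hcA : Nat.card A = p * q := by rw [Nat.card_congr e.toEquiv, hcard]
  have := isCyclic_of_card_mul_primes' hZ hnorm
    (hA.mono le_rfl (inf_le_left.trans (Subgroup.map_subtype_le _))) hp hq hcA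
  exact isCyclic_of_surjective e e.surjective

/-- A group acting fixed-point-freely on a non-trivial finite group has all subgroups of order
`p * q` cyclic. -/
theorem smallCyclic_of_fpf [Finite G] {A K : Subgroup G} (hK : K ≠ ⊥)
    (hA : A ≤ Subgroup.normalizer (K : Set G)) (h : FPF A K) : SmallCyclic A := by
  intro p q hp hq B hB
  let B' := B.map A.subtype
  have hB'A : B' ≤ A := Subgroup.map_subtype_le B
  let eB := B.equivMapOfInjective A.subtype A.subtype_injective
  let S := K ⊔ B'
  have hSn : S ≤ Subgroup.normalizer (K : Set G) := sup_le Subgroup.le_normalizer (hB'A.trans hA)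
  have hnorm : (K.subgroupOf S).Normal :=
    (Subgroup.normal_subgroupOf_iff_le_normalizer le_sup_left).2 hSn
  have hfp : FPF B' K := h.mono hB'A le_rfl
  have hfpS : FPF (B'.subgroupOf S) (K.subgroupOf S) := fun a ha ha1 k hk e =>
    Subtype.ext (hfp a ha (fun h' => ha1 (Subtype.ext h')) k hk (congrArg Subtype.val e))
  have hc : Subgroup.IsComplement' (K.subgroupOf S) (B'.subgroupOf S) := by
    refine Subgroup.isComplement'_of_disjoint_and_mul_eq_univ ?_ ?_
    · rw [disjoint_iff, Subgroup.eq_bot_iff_forall]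
      rintro x ⟨hxK, hxB⟩
      exact Subtype.ext (Subgroup.mem_bot.1 (hfp.inf_eq_bot.le ⟨hxK, hxB⟩))
    · refine Set.eq_univ_of_forall fun x => ?_
      have hx : (x : G) ∈ ((K ⊔ B' : Subgroup G) : Set G) := x.2
      rw [Subgroup.coe_mul_of_right_le_normalizer_left _ _ (hB'A.trans hA)] at hx
      obtain ⟨k, hk, b, hb, e⟩ := hx
      exact ⟨⟨k, le_sup_left (a := K) hk⟩, hk, ⟨b, le_sup_right (a := K) hb⟩, hb, Subtype.ext e⟩
  have hKS : K.subgroupOf S ≠ ⊥ := by
    rw [Ne, Subgroup.subgroupOf_eq_bot, disjoint_iff, inf_eq_left.2 (le_sup_left : K ≤ S)]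
    exact hK
  let e' := eB.trans (Subgroup.subgroupOfEquivOfLe (le_sup_right : B' ≤ S)).symm
  have hcyc := isCyclic_of_semidirect hc hKS hfpS hp hq (by rw [← Nat.card_congr e'.toEquiv, hB])
  exact isCyclic_of_surjective e'.symm e'.symm.surjective

theorem smallCyclic_complement [Finite G] {H : Subgroup G} (hH : Cfsg.IsFrobeniusComplement H) :
    SmallCyclic H :=
  smallCyclic_of_fpf (frobKernel_ne_bot hH)
    (by rw [(frobKernel hH).normalizer_eq_top_iff.2 (frobKernel_normal hH)]; exact le_top)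
    (fpf_frobKernel hH)

namespace SmallCyclic

variable {A : Type*} [Group A]

theorem commute_of_prime_order [Finite A] (h : SmallCyclic A) {x y : A} (hx : (orderOf x).Prime)
    (hy : (orderOf y).Prime) (hn : x * y * x⁻¹ ∈ Subgroup.zpowers y) : Commute x y := by
  by_cases hxy : x ∈ Subgroup.zpowers y
  · obtain ⟨i, rfl⟩ := Subgroup.mem_zpowers_iff.1 hxy
    exact Commute.zpow_self y i
  let X := Subgroup.zpowers x
  let Y := Subgroup.zpowers y
  have hd : Disjoint X Y := by
    rw [disjoint_iff, Subgroup.eq_bot_iff_forall]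
    rintro a ⟨haX, haY⟩
    by_contra ha
    apply hxy
    have h1 : Subgroup.zpowers a = X := by
      refine Subgroup.eq_of_le_of_card_ge (Subgroup.zpowers_le.2 haX) ?_
      rw [Nat.card_zpowers, Nat.card_zpowers]
      rcases (Nat.dvd_prime hx).1 (Nat.card_zpowers x ▸ Subgroup.orderOf_dvd_natCard X haX) with
        h2 | h2
      · exact absurd (orderOf_eq_one_iff.1 h2) ha
      · exact h2.ge
    exact Subgroup.zpowers_le.2 haY (show x ∈ Subgroup.zpowers a by rw [h1]; exact Subgroup.mem_zpowers x)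
  have hXn : X ≤ Subgroup.normalizer (Y : Set A) := by
    refine Subgroup.zpowers_le.2 (Subgroup.mem_normalizer_fintype fun z hz => ?_)
    obtain ⟨i, rfl⟩ := Subgroup.mem_zpowers_iff.1 hz
    rw [← conj_zpow]
    exact Y.zpow_mem hn i
  have hcard : Nat.card (X ⊔ Y : Subgroup A) = orderOf x * orderOf y := by
    rw [card_sup_of_disjoint hXn hd, Nat.card_zpowers, Nat.card_zpowers]
  have hcyc := h _ _ hx hy (X ⊔ Y) hcard
  let _ := hcyc.commGroup
  have e := mul_comm (⟨x, le_sup_left (a := X) (Subgroup.mem_zpowers x)⟩ : ↥(X ⊔ Y))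
    ⟨y, le_sup_right (a := X) (Subgroup.mem_zpowers y)⟩
  exact congrArg Subtype.val e

/-- Two commuting elements of the same prime order generate the same subgroup. -/
theorem mem_zpowers_of_commute [Finite A] (h : SmallCyclic A) {x y : A} {p : ℕ} (hp : p.Prime)
    (hx : orderOf x = p) (hy : orderOf y = p) (hc : Commute x y) :
    x ∈ Subgroup.zpowers y := by
  by_contra hxy
  let X := Subgroup.zpowers x
  let Y := Subgroup.zpowers y
  have hd : Disjoint X Y := by
    rw [disjoint_iff, Subgroup.eq_bot_iff_forall]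
    rintro a ⟨haX, haY⟩
    by_contra ha
    apply hxy
    have h1 : Subgroup.zpowers a = X := by
      refine Subgroup.eq_of_le_of_card_ge (Subgroup.zpowers_le.2 haX) ?_
      rw [Nat.card_zpowers, Nat.card_zpowers, hx]
      rcases (Nat.dvd_prime hp).1 (hx ▸ Nat.card_zpowers x ▸ Subgroup.orderOf_dvd_natCard X haX) with
        h2 | h2
      · exact absurd (orderOf_eq_one_iff.1 h2) ha
      · exact h2.ge
    exact Subgroup.zpowers_le.2 haY (show x ∈ Subgroup.zpowers a by rw [h1]; exact Subgroup.mem_zpowers x)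
  have hpow : ∀ z ∈ X ⊔ Y, z ^ p = 1 := by
    have hXn : X ≤ Subgroup.normalizer (Y : Set A) := by
      refine Subgroup.zpowers_le.2 (Subgroup.mem_normalizer_fintype fun z hz => ?_)
      obtain ⟨i, rfl⟩ := Subgroup.mem_zpowers_iff.1 hz
      rw [(hc.zpow_right i).eq, mul_inv_cancel_right]
      exact hz
    intro z hz
    have hz' : z ∈ ((X ⊔ Y : Subgroup A) : Set A) := hz
    rw [Subgroup.coe_mul_of_left_le_normalizer_right X Y hXn] at hz'
    obtain ⟨a, ha, b, hb, rfl⟩ := hz'
    obtain ⟨i, rfl⟩ := Subgroup.mem_zpowers_iff.1 ha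
    obtain ⟨j, rfl⟩ := Subgroup.mem_zpowers_iff.1 hb
    show (x ^ i * y ^ j) ^ p = 1
    rw [((hc.zpow_left i).zpow_right j).mul_pow, ← zpow_natCast, ← zpow_natCast, ← zpow_mul,
      ← zpow_mul, mul_comm i, mul_comm j, zpow_mul, zpow_mul, zpow_natCast, zpow_natCast, ← hx,
      pow_orderOf_eq_one, hx, ← hy, pow_orderOf_eq_one, one_zpow, one_zpow, one_mul]
  have hcard : Nat.card (X ⊔ Y : Subgroup A) = p * p := by
    have hXn : X ≤ Subgroup.normalizer (Y : Set A) := by
      refine Subgroup.zpowers_le.2 (Subgroup.mem_normalizer_fintype fun z hz => ?_)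
      obtain ⟨i, rfl⟩ := Subgroup.mem_zpowers_iff.1 hz
      rw [(hc.zpow_right i).eq, mul_inv_cancel_right]
      exact hz
    rw [card_sup_of_disjoint hXn hd, Nat.card_zpowers, Nat.card_zpowers, hx, hy]
  have hcyc := h _ _ hp hp (X ⊔ Y) hcard
  obtain ⟨g, hg⟩ := hcyc.exists_ofOrder_eq_natCard
  have hdvd : orderOf g ∣ p :=
    orderOf_dvd_of_pow_eq_one (Subtype.ext (hpow g g.2))
  rw [hg, hcard] at hdvd
  have := Nat.le_of_dvd hp.pos hdvd
  nlinarith [hp.two_le]

/-- A `p`-subgroup has a unique subgroup of order `p`. -/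
theorem mem_zpowers_of_orderOf_eq [Finite A] (h : SmallCyclic A) {p : ℕ} [hp : Fact p.Prime]
    {P : Subgroup A} (hP : IsPGroup p P) {x y : A} (hxP : x ∈ P) (hyP : y ∈ P)
    (hx : orderOf x = p) (hy : orderOf y = p) : x ∈ Subgroup.zpowers y := by
  have hnt : Nontrivial P :=
    ⟨⟨⟨x, hxP⟩, 1, fun e => hp.out.ne_one (by
      rw [← hx, show x = 1 from congrArg Subtype.val e, orderOf_one])⟩⟩
  have := hP.center_nontrivial
  obtain ⟨n, hn, hn1⟩ := (hP.to_subgroup (Subgroup.center P)).exists_card_eq.imp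
    fun n hn => (⟨hn, by
      rintro rfl
      exact absurd hn (by rw [pow_zero]; exact Finite.one_lt_card.ne')⟩ :
        Nat.card (Subgroup.center P) = p ^ n ∧ n ≠ 0)
  obtain ⟨z, hz⟩ := exists_prime_orderOf_dvd_card' (G := Subgroup.center P) p
    (hn ▸ dvd_pow_self p hn1)
  have hzA : orderOf ((z : P) : A) = p := by rw [Subgroup.orderOf_coe, Subgroup.orderOf_coe, hz]
  have hcom : ∀ w ∈ P, Commute w ((z : P) : A) := fun w hw =>
    congrArg Subtype.val (Subgroup.mem_center_iff.1 z.2 ⟨w, hw⟩)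
  have h1 := h.mem_zpowers_of_commute hp.out hx hzA (hcom x hxP)
  have h2 := h.mem_zpowers_of_commute hp.out hzA hy (hcom y hyP).symm
  exact (Subgroup.zpowers_le.2 h2) h1

/-- A Frobenius complement has no Frobenius subgroup. -/
theorem not_isFrobeniusComplement [Finite A] (h : SmallCyclic A) (M : Subgroup A) :
    ¬ Cfsg.IsFrobeniusComplement M := by
  intro hM
  have := frobKernel_normal hM
  have hM1 : Nat.card M ≠ 1 := fun h' => hM.1 (Subgroup.card_eq_one.1 h')
  obtain ⟨p, hp, hpM⟩ := Nat.exists_prime_and_dvd hM1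
  have hN1 : Nat.card (frobKernel hM) ≠ 1 := fun h' =>
    frobKernel_ne_bot hM (Subgroup.card_eq_one.1 h')
  obtain ⟨q, hq, hqN⟩ := Nat.exists_prime_and_dvd hN1
  have := Fact.mk hp
  have := Fact.mk hq
  let R : Sylow q (frobKernel hM) := default
  obtain ⟨B, -, hBf, ⟨e⟩, hBN⟩ :=
    exists_invariant_sylow_complement (frobKernel_isComplement hM) (fpf_frobKernel hM) q R
  obtain ⟨a, ha⟩ := exists_prime_orderOf_dvd_card' (G := B) p (by rwa [Nat.card_congr e.toEquiv])
  obtain ⟨n, hn⟩ := R.isPGroup'.exists_card_eq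
  have hqR : q ∣ Nat.card R := R.dvd_card_of_dvd_card hqN
  obtain ⟨z, hz⟩ := exists_prime_orderOf_dvd_card' (G := R) q hqR
  set Rm := (R : Subgroup (frobKernel hM)).map (frobKernel hM).subtype
  have hzR : ((z : frobKernel hM) : A) ∈ Rm := ⟨_, z.2, rfl⟩
  have hzo : orderOf ((z : frobKernel hM) : A) = q := by
    rw [Subgroup.orderOf_coe, Subgroup.orderOf_coe, hz]
  have hazR := (Subgroup.mem_normalizer_iff.1 (hBN a.2) _).1 hzR
  have hmem := h.mem_zpowers_of_orderOf_eq (R.isPGroup'.map _) hazR hzR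
    (by rw [← MulAut.conj_apply, MulEquiv.orderOf_eq, hzo]) hzo
  have hcom := h.commute_of_prime_order (x := (a : A)) (y := ((z : frobKernel hM) : A))
    (by rw [Subgroup.orderOf_coe, ha]; exact hp) (by rw [hzo]; exact hq) hmem
  have ha1 : (a : A) ≠ 1 := fun e' => hp.ne_one (by
    rw [← ha, ← Subgroup.orderOf_coe, e', orderOf_one])
  have h1 := hBf a a.2 ha1 _ (z : frobKernel hM).2 hcom.eq
  exact hq.ne_one (by rw [← hzo, h1, orderOf_one])

/-- An abelian group with all small subgroups cyclic is cyclic. -/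
theorem isCyclic_of_comm {A : Type*} [CommGroup A] [Finite A] (h : SmallCyclic A) :
    IsCyclic A := by
  suffices IsZGroup A by infer_instance
  rw [isZGroup_iff]
  intro p hp P
  have := Fact.mk hp
  suffices key : ∀ (n : ℕ) (Q : Subgroup A), IsPGroup p Q → Nat.card Q = n → IsCyclic Q from
    key _ P P.isPGroup' rfl
  intro n
  induction n using Nat.strong_induction_on with
  | _ n ih =>
  intro Q hQ hn
  rcases eq_or_ne Q ⊥ with rfl | hQ1
  · infer_instance
  obtain ⟨k, hk, hk1⟩ := hQ.exists_card_eq.imp fun k hk => (⟨hk, by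
    rintro rfl
    exact hQ1 (Subgroup.card_eq_one.1 (by simpa using hk))⟩ : Nat.card Q = p ^ k ∧ k ≠ 0)
  obtain ⟨z, hz⟩ := exists_prime_orderOf_dvd_card' (G := Q) p (hk ▸ dvd_pow_self p hk1)
  let f : Q →* Q := powMonoidHom p
  have hker : f.ker = Subgroup.zpowers z := by
    refine le_antisymm (fun w hw => ?_) (Subgroup.zpowers_le.2 (by
      rw [MonoidHom.mem_ker]; show z ^ p = 1; rw [← hz, pow_orderOf_eq_one]))
    rcases eq_or_ne w 1 with rfl | hw1
    · exact one_mem _
    have hwo : orderOf (w : A) = p := by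
      rw [Subgroup.orderOf_coe]
      exact orderOf_eq_prime hw hw1
    obtain ⟨i, hi⟩ := Subgroup.mem_zpowers_iff.1 (h.mem_zpowers_of_orderOf_eq hQ w.2 z.2 hwo
      (by rw [Subgroup.orderOf_coe, hz]))
    exact Subgroup.mem_zpowers_iff.2 ⟨i, Subtype.ext (by simpa using hi)⟩
  have hcard : Nat.card f.range * p = n := by
    rw [← hn, ← f.ker.card_mul_index, Subgroup.index_ker, hker, Nat.card_zpowers, hz, mul_comm]
  have hlt : Nat.card (f.range.map Q.subtype) < n := by
    rw [← Nat.card_congr (f.range.equivMapOfInjective _ Q.subtype_injective).toEquiv, ← hcard]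
    exact lt_mul_of_one_lt_right Nat.card_pos hp.one_lt
  have hPR : IsPGroup p (f.range.map Q.subtype) := hQ.to_le (Subgroup.map_subtype_le _)
  have hcyc := ih _ hlt _ hPR rfl
  have e := f.range.equivMapOfInjective _ Q.subtype_injective
  have hcyc' : IsCyclic f.range := isCyclic_of_surjective e.symm e.symm.surjective
  obtain ⟨w, hw⟩ := hcyc'.exists_ofOrder_eq_natCard
  obtain ⟨y, hy⟩ := w.2
  rcases eq_or_ne (w : Q) 1 with hw1 | hw1
  · refine isCyclic_of_orderOf_eq_card z ?_
    rw [hz, hn, ← hcard, ← hw, ← Subgroup.orderOf_coe, hw1, orderOf_one, one_mul]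
  · refine isCyclic_of_orderOf_eq_card y ?_
    have hy' : y ^ p = (w : Q) := hy
    have hpd : p ∣ orderOf y := by
      obtain ⟨j, hj⟩ := IsPGroup.iff_orderOf.1 hQ y
      rw [hj]
      refine dvd_pow_self p ?_
      rintro rfl
      apply hw1
      rw [← hy', show y = 1 from orderOf_eq_one_iff.1 (by simpa using hj), one_pow]
    have h2 := orderOf_pow_of_dvd hp.ne_zero hpd
    rw [hy', Subgroup.orderOf_coe, hw] at h2
    rw [hn, ← hcard, h2, Nat.div_mul_cancel hpd]

end SmallCyclic

open scoped IsMulCommutative in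
theorem SmallCyclic.isCyclic_of_isMulCommutative {A : Type*} [Group A] [IsMulCommutative A]
    [Finite A] (h : SmallCyclic A) : IsCyclic A :=
  SmallCyclic.isCyclic_of_comm h

section Conjugacy

variable [Finite G] {H : Subgroup G}

/-- A subgroup without Frobenius subgroups meeting a conjugate of a complement lies in it. -/
theorem le_conj_of_inf_ne_bot (hH : Cfsg.IsFrobeniusComplement H) {L : Subgroup G}
    (hL : SmallCyclic L) {g : G} (h : L ⊓ MulAut.conj g • H ≠ ⊥) : L ≤ MulAut.conj g • H :=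
  by_contra fun hn => hL.not_isFrobeniusComplement _
    (isFrobeniusComplement_subgroupOf (isFrobeniusComplement_conj hH g) h hn)

/-- Frobenius complements have a conjugate inside each other. -/
theorem exists_le_conj (hH : Cfsg.IsFrobeniusComplement H) {L : Subgroup G}
    (hL : Cfsg.IsFrobeniusComplement L) : ∃ g : G, L ≤ MulAut.conj g • H := by
  by_cases hex : ∃ g b : G, ∃ x, x ≠ 1 ∧ b⁻¹ * x * b ∈ L ∧ g⁻¹ * x * g ∈ H
  · obtain ⟨g, b, x, hx1, hxL, hxH⟩ := hex
    refine ⟨b⁻¹ * g, le_conj_of_inf_ne_bot hH (smallCyclic_complement hL) fun hbot => hx1 ?_⟩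
    have hm : b⁻¹ * x * b ∈ L ⊓ MulAut.conj (b⁻¹ * g) • H :=
      ⟨hxL, mem_conj_smul.2 (by simpa [mul_assoc] using hxH)⟩
    rw [hbot, Subgroup.mem_bot] at hm
    calc x = b * (b⁻¹ * x * b) * b⁻¹ := by group
      _ = 1 := by rw [hm]; group
  · -- otherwise the kernel would contain too many elements
    exfalso
    push Not at hex
    have hsub : ∀ y : {x : G // x ∉ Cfsg.frobeniusKernel L}, (y : G) ∈ Cfsg.frobeniusKernel H ∧
        (y : G) ≠ 1 := by
      rintro ⟨y, hy⟩
      rw [mem_kernel_iff, not_or, not_forall] at hy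
      obtain ⟨hy1, b, hb⟩ := hy
      exact ⟨mem_kernel_iff.2 (Or.inr fun g => hex g b y hy1 (not_not.1 hb)), hy1⟩
    have h1 : Nat.card {x : G // x ∉ Cfsg.frobeniusKernel L} + 1 ≤
        Nat.card (Cfsg.frobeniusKernel H) := by
      rw [← Nat.card_unique (α := PUnit.{1}), ← Nat.card_sum]
      refine Nat.card_le_card_of_injective (Sum.elim (fun y => ⟨y.1, (hsub y).1⟩)
        (fun _ => ⟨1, one_mem_kernel⟩)) ?_
      rintro (a | a) (b | b) hab <;> simp only [Sum.elim_inl, Sum.elim_inr, Subtype.mk.injEq] at hab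
      · rw [Subtype.ext hab]
      · exact absurd hab (hsub a).2
      · exact absurd hab.symm (hsub b).2
      · rfl
    classical
    have h2 : Nat.card G = Nat.card (Cfsg.frobeniusKernel L) +
        Nat.card {x : G // x ∉ Cfsg.frobeniusKernel L} := by
      rw [← Nat.card_sum]
      exact Nat.card_congr (Equiv.sumCompl (fun x => x ∈ Cfsg.frobeniusKernel L)).symm
    rw [card_kernel hH] at h1
    rw [card_kernel hL] at h2
    have hHc : 2 ≤ Nat.card H := by
      have := H.eq_bot_iff_card.not.1 hH.1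
      have := Nat.card_pos (α := H)
      omega
    have hLc : 2 ≤ Nat.card L := by
      have := L.eq_bot_iff_card.not.1 hL.1
      have := Nat.card_pos (α := L)
      omega
    have := H.index_mul_card
    have := L.index_mul_card
    nlinarith

/-- All Frobenius complements are conjugate. -/
theorem exists_conj_eq (hH : Cfsg.IsFrobeniusComplement H) {L : Subgroup G}
    (hL : Cfsg.IsFrobeniusComplement L) : ∃ g : G, MulAut.conj g • L = H := by
  obtain ⟨a, ha⟩ := exists_le_conj hH hL
  obtain ⟨b, hb⟩ := exists_le_conj hL hH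
  have hc : ∀ (g : G) (K : Subgroup G), Nat.card (MulAut.conj g • K : Subgroup G) = Nat.card K :=
    fun g K => (Nat.card_congr (Subgroup.equivSMul (MulAut.conj g) K).toEquiv).symm
  refine ⟨a⁻¹, ?_⟩
  have : L = MulAut.conj a • H := by
    refine Subgroup.eq_of_le_of_card_ge ha ?_
    rw [hc]
    exact (Subgroup.card_le_of_le hb).trans (hc b L).le
  rw [this, map_inv, inv_smul_smul]

end Conjugacy

end Cfsg.Agent.Frobenius
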