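import Cfsg.Agent.EqLemmas

/-!
The perfect residual of a finite group.

Main results (namespace `Cfsg.Agent.Frobenius`):
* `exists_perfect_residual` : a normal perfect subgroup in the kernel of every map to a solvable
  group, trivial only for solvable groups
* `commute_of_perfect_normalise` : a perfect subgroup normalising a finite cyclic subgroup
  centralises it
-/

namespace Cfsg.Agent.Frobenius

universe u

variable {G : Type*} [Group G]

theorem commutator_eq_top_of_perfect {P : Subgroup G} (h : ⁅P, P⁆ = P) : commutator P = ⊤ := by
  refine Subgroup.map_injective P.subtype_injective ?_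
  rw [commutator_def, Subgroup.map_commutator, ← MonoidHom.range_eq_map, Subgroup.range_subtype, h]

theorem eq_one_of_perfect {S : Type*} [Group S] [Group.IsSolvable S] (h : commutator G = ⊤)
    (f : G →* S) (g : G) : f g = 1 := by
  obtain ⟨n, hn⟩ := (Group.isSolvable_def S).mp inferInstance
  have htop : ∀ m, derivedSeries G m = ⊤ := by
    intro m
    induction m with
    | zero => rfl
    | succ m ih => rw [derivedSeries_succ, ih, ← commutator_def, h]
  have hle := map_derivedSeries_le_derivedSeries f n
  rw [htop, hn, le_bot_iff, Subgroup.map_eq_bot_iff] at hle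
  exact hle (Subgroup.mem_top g)

theorem exists_perfect_residual (G : Type u) [Group G] [Finite G] :
    ∃ P : Subgroup G, P.Normal ∧ ⁅P, P⁆ = P ∧
      (∀ {S : Type u} [Group S] [Group.IsSolvable S] (f : G →* S), P ≤ f.ker) ∧
      (P = ⊥ → Group.IsSolvable G) := by
  obtain ⟨n, hn⟩ : ∃ n, derivedSeries G (n + 1) = derivedSeries G n := by
    by_contra hne
    push Not at hne
    have hlt : ∀ n, derivedSeries G (n + 1) < derivedSeries G n := fun n =>
      lt_of_le_of_ne (derivedSeries_antitone G n.le_succ) (hne n)
    exact not_injective_infinite_finite _ (strictAnti_nat_of_succ_lt hlt).injective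
  have hall : ∀ m, derivedSeries G n ≤ derivedSeries G m := by
    intro m
    induction m with
    | zero => exact le_top
    | succ m ih =>
      rw [← hn, derivedSeries_succ, derivedSeries_succ]
      exact Subgroup.commutator_mono ih ih
  refine ⟨derivedSeries G n, derivedSeries_normal G n, hn, fun {S} _ _ f => ?_, fun h => ?_⟩
  · obtain ⟨m, hm⟩ := (Group.isSolvable_def S).mp inferInstance
    have hle := map_derivedSeries_le_derivedSeries f m
    rw [hm, le_bot_iff, Subgroup.map_eq_bot_iff] at hle
    exact (hall m).trans hle
  · exact (Group.isSolvable_def G).mpr ⟨n, h⟩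

theorem commute_of_perfect_normalise [Finite G] {P : Subgroup G} (hP : ⁅P, P⁆ = P) {a : G}
    (hn : P ≤ Subgroup.normalizer (Subgroup.zpowers a : Set G)) {g : G} (hg : g ∈ P) :
    Commute g a := by
  have hsol : Group.IsSolvable (MulAut (Subgroup.zpowers a)) :=
    Group.isSolvable_of_isSolvable_injective
      (f := (IsCyclic.mulAutMulEquiv (Subgroup.zpowers a)).toMonoidHom) (MulEquiv.injective _)
  have h := eq_one_of_perfect (commutator_eq_top_of_perfect hP)
    ((Subgroup.zpowers a).normalizerMonoidHom.comp (Subgroup.inclusion hn)) ⟨g, hg⟩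
  have h' := congrArg Subtype.val (DFunLike.congr_fun h ⟨a, Subgroup.mem_zpowers a⟩)
  simpa [Commute, SemiconjBy, mul_inv_eq_iff_eq_mul] using h'

end Cfsg.Agent.Frobenius
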