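import Cfsg.Agent.Lib.Frobenius.Basic
import Cfsg.Agent.Lib.Frobenius.RepAux

/-!
Frobenius' theorem.

Main results (namespace `Cfsg.Agent.Frobenius`):
* `exists_kernel` : the Frobenius kernel is a normal complement of the complement
* `exists_extension` : an irreducible representation of the complement extends to the whole group,
  trivially on the kernel
* `frobKernel hH : Subgroup G` with `coe_frobKernel`, normality, `frobKernel_isComplement`,
  `fpf_frobKernel`
-/

namespace Cfsg.Agent.Frobenius

open Module
open scoped BigOperators Pointwise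

universe u

variable {G : Type u} [Group G] [Finite G] {H : Subgroup G}

/-- An irreducible representation of a Frobenius complement extends to a representation of the
whole group in which every kernel element acts trivially. -/
theorem exists_extension (hH : Cfsg.IsFrobeniusComplement H) {W : Type u} [AddCommGroup W]
    [Module ℂ W] [FiniteDimensional ℂ W] (φ : Representation ℂ H W)
    [Representation.IsIrreducible φ] :
    ∃ (U : Type u) (_ : AddCommGroup U) (_ : Module ℂ U) (_ : FiniteDimensional ℂ U)
      (τ : Representation ℂ G U), finrank ℂ U = finrank ℂ W ∧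
      (∀ h : H, τ.character (h : G) = φ.character h) ∧
      ∀ x ∈ Cfsg.frobeniusKernel H, τ x = 1 := by
  classical
  have := Fintype.ofFinite G
  let triv : Representation ℂ G W := 1
  let triv' : Representation ℂ H W := 1
  let ρ : Representation ℂ G ((G ⧸ H → W) × W) :=
    { toFun := fun g => LinearMap.prodMap (indRep φ g) (triv g)
      map_one' := by simp [LinearMap.prodMap_one]
      map_mul' := fun a b => by simp [LinearMap.prodMap_mul] }
  let σ : Representation ℂ G (G ⧸ H → W) := indRep triv'
  let d : ℂ := (finrank ℂ W : ℂ)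
  let θ : G → ℂ := fun g => ρ.character g - σ.character g
  have hθ : ∀ g, θ g = (∑ q : G ⧸ H, if g⁻¹ • q = q then φ.character (indCocycle H g q) - d else 0)
      + d := by
    intro g
    have hρ : ρ.character g = (indRep φ).character g + d := by
      show LinearMap.trace ℂ _ (LinearMap.prodMap (indRep φ g) (triv g)) = _
      rw [LinearMap.trace_prodMap']
      show _ + LinearMap.trace ℂ W 1 = _
      rw [LinearMap.trace_one]
      rfl
    have ht : ∀ x : H, triv'.character x = d := fun x => by
      show LinearMap.trace ℂ W 1 = _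
      rw [LinearMap.trace_one]
    simp only [θ, σ, hρ, char_indRep, ht]
    rw [add_sub_right_comm, ← Finset.sum_sub_distrib]
    congr 1
    refine Finset.sum_congr rfl fun q _ => ?_
    split_ifs <;> simp
  have hfix : ∀ (g : G) (q : G ⧸ H), g⁻¹ • q = q → q.out⁻¹ * g * q.out ∈ H := by
    intro g q h
    have := (indCocycle H g q).2
    rwa [indCocycle_coe, h] at this
  have hθK : ∀ g ∈ Cfsg.frobeniusKernel H, θ g = d := by
    intro g hg
    rw [hθ]
    rcases eq_or_ne g 1 with rfl | hg1
    · have hc : ∀ q : G ⧸ H, φ.character (indCocycle H 1 q) = d := fun q => by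
        rw [show indCocycle H 1 q = 1 from Subtype.ext (by simp [indCocycle_coe]),
          Representation.char_one]
      simp [hc]
    · have hz : ∀ q : G ⧸ H, ¬ g⁻¹ • q = q := fun q hq =>
        hg1 (eq_one_of_mem_kernel_of_mem hg (hfix g q hq))
      simp [hz]
  have hθH : ∀ h : H, θ h = φ.character h := by
    intro h
    rcases eq_or_ne h 1 with rfl | h1
    · rw [OneMemClass.coe_one, hθK 1 one_mem_kernel, Representation.char_one]
    have h1' : (h : G) ≠ 1 := fun e => h1 (Subtype.ext e)
    rw [hθ]
    have hfix1 : (h : G)⁻¹ • ((1 : G) : G ⧸ H) = ((1 : G) : G ⧸ H) := by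
      show (((h : G)⁻¹ * 1 : G) : G ⧸ H) = _
      rw [QuotientGroup.eq]
      simpa using h.2
    rw [Finset.sum_eq_single ((1 : G) : G ⧸ H), if_pos hfix1]
    · obtain ⟨v, hv⟩ := QuotientGroup.mk_out_eq_mul H (1 : G)
      have hc : indCocycle H (h : G) ((1 : G) : G ⧸ H) = v⁻¹ * h * (v⁻¹)⁻¹ := by
        apply Subtype.ext
        rw [indCocycle_coe, hfix1, hv]
        simp [mul_assoc]
      rw [hc, Representation.char_conj, sub_add_cancel]
    · intro q _ hq
      refine if_neg fun he => hq ?_
      have hc := coset_eq_of_mem hH h1' (hfix _ q he) (b := 1) (by simp)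
      rwa [QuotientGroup.out_eq'] at hc
    · simp
  have hθc : ∀ (g a : G), θ (a * g * a⁻¹) = θ g := fun g a => by
    simp only [θ, Representation.char_conj]
  have hnorm : ∑ g : G, θ g * θ g⁻¹ = (Nat.card G : ℂ) := by
    rw [← (Equiv.sumCompl (fun x => x ∈ Cfsg.frobeniusKernel H)).sum_comp,
      Fintype.sum_sum_type, ← (complementPairsEquiv hH).sum_comp, Fintype.sum_prod_type]
    have hK : ∀ x : {x // x ∈ Cfsg.frobeniusKernel H}, θ x * θ (x : G)⁻¹ = d * d := fun x => by
      rw [hθK _ x.2, hθK _ (inv_mem_kernel x.2)]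
    have hH' : ∀ (q : G ⧸ H) (h : {h : H // h ≠ 1}),
        θ (complementPairsEquiv hH (q, h) : G) * θ (complementPairsEquiv hH (q, h) : G)⁻¹ =
          φ.character h.1 * φ.character h.1⁻¹ := by
      intro q h
      have e : ((complementPairsEquiv hH (q, h) : {x // x ∉ Cfsg.frobeniusKernel H}) : G) =
          q.out * ((h.1 : H) : G) * q.out⁻¹ := rfl
      rw [e, conj_inv, hθc, hθc, hθH, ← Subgroup.coe_inv, hθH]
    simp only [Equiv.sumCompl_apply_inl, Equiv.sumCompl_apply_inr, hK, hH', Finset.sum_const,
      Finset.card_univ, nsmul_eq_mul, Fintype.card_eq_nat_card]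
    have hd : ∑ h : H, φ.character h * φ.character h⁻¹ = (Nat.card H : ℂ) := by
      rw [sum_char_mul_char, Representation.IsIrreducible.finrank_intertwiningMap_self, Nat.cast_one,
        mul_one]
    rw [← (Equiv.sumCompl (fun h : H => h ≠ 1)).sum_comp, Fintype.sum_sum_type] at hd
    have h1 : ∑ a : {h : H // ¬ h ≠ 1}, φ.character a.1 * φ.character a.1⁻¹ = d * d := by
      rw [Finset.sum_eq_single ⟨1, not_not.2 rfl⟩]
      · simp [d]
      · intro b _ hb
        exact absurd (Subtype.ext (not_not.1 b.2)) hb
      · simp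
    simp only [Equiv.sumCompl_apply_inl, Equiv.sumCompl_apply_inr, h1] at hd
    rw [eq_sub_of_add_eq hd, show Nat.card {x // x ∈ Cfsg.frobeniusKernel H} = H.index from
      card_kernel hH, ← H.index_mul_card, ← Subgroup.index]
    push_cast
    ring
  have hW : 0 < finrank ℂ W := by
    rw [pos_iff_ne_zero]
    intro h0
    have : Subsingleton W := Module.finrank_zero_iff.1 h0
    exact (bot_ne_top (α := Subrepresentation φ))
      (Subrepresentation.toSubmodule_injective (Subsingleton.elim _ _))
  obtain ⟨U, i1, i2, i3, τ, hτ⟩ := exists_rep_of_virtual_norm_one (finrank ℂ (G ⧸ H → W)) ρ σ rfl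
    (by rw [Module.finrank_prod]; omega) hnorm
  have hτ' : ∀ g, τ.character g = θ g := hτ
  have hU : finrank ℂ U = finrank ℂ W := by
    have := hτ' 1
    rw [Representation.char_one, hθK 1 one_mem_kernel] at this
    exact Nat.cast_injective this
  refine ⟨U, i1, i2, i3, τ, hU, fun h => (hτ' _).trans (hθH h), fun x hx => ?_⟩
  refine apply_eq_one_of_char_pow τ x fun y hy => ?_
  rw [hU, hτ']
  apply hθK
  -- powers of a kernel element stay in the kernel
  rw [mem_kernel_iff]
  refine or_iff_not_imp_left.2 fun hy1 g hg => ?_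
  have hcom : x * y = y * x := by
    obtain ⟨i, rfl⟩ := Subgroup.mem_zpowers_iff.1 hy
    exact (Commute.self_zpow x i).eq
  have hne : g⁻¹ * y * g ≠ 1 := fun e => hy1 (by
    calc y = g * (g⁻¹ * y * g) * g⁻¹ := by group
      _ = 1 := by rw [e]; group)
  have hmem : g⁻¹ * x * g ∈ H := by
    refine centralizer_le hH hne hg (Subgroup.mem_centralizer_singleton_iff.2 ?_)
    calc g⁻¹ * x * g * (g⁻¹ * y * g) = g⁻¹ * (x * y) * g := by group
      _ = g⁻¹ * (y * x) * g := by rw [hcom]
      _ = g⁻¹ * y * g * (g⁻¹ * x * g) := by group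
  have hx1 := eq_one_of_mem_kernel_of_mem hx hmem
  apply hy1
  rw [hx1, Subgroup.zpowers_one_eq_bot, Subgroup.mem_bot] at hy
  exact hy

/-- **Frobenius' theorem**. -/
theorem exists_kernel (hH : Cfsg.IsFrobeniusComplement H) :
    ∃ N : Subgroup G, (N : Set G) = Cfsg.frobeniusKernel H ∧ N.Normal ∧
      Subgroup.IsComplement' N H := by
  classical
  let N := Subgroup.closure (Cfsg.frobeniusKernel H)
  have hnorm : N.Normal := by
    refine ⟨fun n hn g => ?_⟩
    have h : N ≤ N.comap (MulAut.conj g).toMonoidHom := (Subgroup.closure_le _).2 fun x hx =>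
      Subgroup.mem_comap.2 (Subgroup.subset_closure (conj_mem_kernel hx g))
    exact h hn
  have hdisj : Disjoint N H := by
    rw [disjoint_iff, Subgroup.eq_bot_iff_forall]
    rintro h ⟨hN, hH'⟩
    by_contra h1
    obtain ⟨V, _, _, _, φ, hirr, hφ⟩ :=
      exists_irreducible_apply_ne_one (h := (⟨h, hH'⟩ : H)) (fun e => h1 (congrArg Subtype.val e))
    obtain ⟨U, _, _, _, τ, hU, hτH, hτK⟩ := exists_extension hH φ
    have hker : N ≤ τ.ker :=
      (Subgroup.closure_le _).2 fun x hx => hτK x hx
    apply hφ
    have := Fintype.ofFinite H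
    refine apply_eq_one_of_char_pow φ _ fun y hy => ?_
    have hy' : (y : G) ∈ N := by
      obtain ⟨i, rfl⟩ := Subgroup.mem_zpowers_iff.1 hy
      simpa using N.zpow_mem hN i
    rw [← hτH, ← hU, Representation.character, show τ (y : G) = 1 from hker hy',
      LinearMap.trace_one]
  have hsub : Cfsg.frobeniusKernel H ⊆ (N : Set G) := Subgroup.subset_closure
  have hcard : Nat.card N ≤ H.index := by
    refine Nat.le_of_mul_le_mul_right ?_ (Nat.card_pos (α := H))
    rw [H.index_mul_card, ← Nat.card_prod]
    refine Nat.card_le_card_of_injective (fun x : N × H => (x.1 : G) * x.2) ?_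
    exact Subgroup.mul_injective_of_disjoint hdisj
  have heq : (N : Set G) = Cfsg.frobeniusKernel H := by
    refine (Set.eq_of_subset_of_ncard_le hsub ?_ (Set.toFinite _)).symm
    rw [← Nat.card_coe_set_eq, ← Nat.card_coe_set_eq, card_kernel hH]
    exact hcard
  refine ⟨N, heq, hnorm, Subgroup.isComplement'_of_card_mul_and_disjoint ?_ hdisj⟩
  rw [show Nat.card N = H.index by rw [← card_kernel hH, ← heq]; rfl, H.index_mul_card]

/-- The Frobenius kernel as a subgroup. -/
noncomputable def frobKernel (hH : Cfsg.IsFrobeniusComplement H) : Subgroup G :=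
  (exists_kernel hH).choose

theorem coe_frobKernel (hH : Cfsg.IsFrobeniusComplement H) :
    (frobKernel hH : Set G) = Cfsg.frobeniusKernel H :=
  (exists_kernel hH).choose_spec.1

theorem frobKernel_normal (hH : Cfsg.IsFrobeniusComplement H) : (frobKernel hH).Normal :=
  (exists_kernel hH).choose_spec.2.1

theorem frobKernel_isComplement (hH : Cfsg.IsFrobeniusComplement H) :
    Subgroup.IsComplement' (frobKernel hH) H :=
  (exists_kernel hH).choose_spec.2.2

theorem card_frobKernel (hH : Cfsg.IsFrobeniusComplement H) :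
    Nat.card (frobKernel hH) = H.index :=
  ((frobKernel_isComplement hH).index_eq_card).symm

theorem fpf_frobKernel (hH : Cfsg.IsFrobeniusComplement H) : FPF H (frobKernel hH) :=
  fpf_of_isFrobeniusComplement hH (frobKernel_isComplement hH).disjoint

theorem frobKernel_ne_bot (hH : Cfsg.IsFrobeniusComplement H) : frobKernel hH ≠ ⊥ := by
  intro h
  have := one_lt_index hH
  rw [← card_frobKernel hH, h, Subgroup.card_bot] at this
  exact lt_irrefl 1 this

end Cfsg.Agent.Frobenius
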