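import Cfsg.Agent.EqLemmas

/-!
Frobenius groups, elementary part.

Main results (namespace `Cfsg.Agent.Frobenius`):
* `mem_conj_smul`, `mem_kernel_iff`, `mem_of_conj_mem`, `normalizer_eq_self`, `centralizer_le`
* `card_kernel` (|kernel| = index), `index_modEq_one`, `coprime_card_index`
* `isFrobeniusComplement_conj`, `isFrobeniusComplement_map`, `isFrobeniusComplement_subgroupOf`
* `FPF A K` (fixed-point-free conjugation), `fpf_iff_inf_centralizer`, `FPF.coprime`,
  `FPF.card_modEq_one`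
* `FPF.isFrobeniusComplement`, `fpf_of_isFrobeniusComplement`, `FPF.exists_conj_mem`,
  `kernel_eq_of_normal_complement`
-/

namespace Cfsg.Agent.Frobenius

open scoped Pointwise

variable {G : Type*} [Group G]

theorem mem_conj_smul {H : Subgroup G} {g x : G} :
    x ∈ MulAut.conj g • H ↔ g⁻¹ * x * g ∈ H := by
  rw [Subgroup.mem_pointwise_smul_iff_inv_smul_mem, ← map_inv, MulAut.smul_def, MulAut.conj_apply,
    inv_inv]

theorem mem_kernel_iff {H : Subgroup G} {x : G} :
    x ∈ Cfsg.frobeniusKernel H ↔ x = 1 ∨ ∀ g : G, g⁻¹ * x * g ∉ H := by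
  simp only [Cfsg.frobeniusKernel, Set.mem_ofPred_eq, mem_conj_smul]

theorem one_mem_kernel {H : Subgroup G} : (1 : G) ∈ Cfsg.frobeniusKernel H :=
  mem_kernel_iff.2 (Or.inl rfl)

theorem inv_mem_kernel {H : Subgroup G} {x : G} (hx : x ∈ Cfsg.frobeniusKernel H) :
    x⁻¹ ∈ Cfsg.frobeniusKernel H := by
  rw [mem_kernel_iff] at hx ⊢
  rcases hx with rfl | h
  · exact Or.inl inv_one
  · refine Or.inr fun g hg => h g ?_
    simpa [mul_assoc] using H.inv_mem hg

theorem conj_mem_kernel {H : Subgroup G} {x : G} (hx : x ∈ Cfsg.frobeniusKernel H) (a : G) :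
    a * x * a⁻¹ ∈ Cfsg.frobeniusKernel H := by
  rw [mem_kernel_iff] at hx ⊢
  rcases hx with rfl | h
  · exact Or.inl (by group)
  · refine Or.inr fun g hg => h (a⁻¹ * g) ?_
    simpa [mul_assoc] using hg

theorem eq_one_of_mem_kernel_of_mem {H : Subgroup G} {x : G} (hx : x ∈ Cfsg.frobeniusKernel H)
    {g : G} (hg : g⁻¹ * x * g ∈ H) : x = 1 :=
  (mem_kernel_iff.1 hx).resolve_right fun h => h g hg

section Complement

variable {H : Subgroup G}

theorem eq_one_of_conj_mem (hH : Cfsg.IsFrobeniusComplement H) {g x : G} (hg : g ∉ H)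
    (hx : x ∈ H) (hx' : g⁻¹ * x * g ∈ H) : x = 1 := by
  have h := hH.2.2 g hg
  have : x ∈ H ⊓ MulAut.conj g • H := ⟨hx, mem_conj_smul.2 hx'⟩
  rwa [h, Subgroup.mem_bot] at this

theorem mem_of_conj_mem (hH : Cfsg.IsFrobeniusComplement H) {g x : G} (hx1 : x ≠ 1)
    (hx : x ∈ H) (hx' : g⁻¹ * x * g ∈ H) : g ∈ H :=
  by_contra fun hg => hx1 (eq_one_of_conj_mem hH hg hx hx')

theorem centralizer_le (hH : Cfsg.IsFrobeniusComplement H) {x : G} (hx1 : x ≠ 1) (hx : x ∈ H) :
    Subgroup.centralizer {x} ≤ H := by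
  intro g hg
  refine mem_of_conj_mem hH hx1 hx ?_
  rw [mul_assoc, ← Subgroup.mem_centralizer_singleton_iff.1 hg, inv_mul_cancel_left]
  exact hx

theorem exists_ne_one_mem (hH : Cfsg.IsFrobeniusComplement H) : ∃ x ∈ H, x ≠ 1 :=
  (Subgroup.ne_bot_iff_exists_ne_one.1 hH.1).elim fun x hx => ⟨x, x.2, fun h => hx (Subtype.ext h)⟩

theorem normalizer_eq_self (hH : Cfsg.IsFrobeniusComplement H) :
    Subgroup.normalizer (H : Set G) = H := by
  refine le_antisymm (fun g hg => ?_) Subgroup.le_normalizer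
  obtain ⟨x, hx, hx1⟩ := exists_ne_one_mem hH
  exact mem_of_conj_mem hH hx1 hx ((Subgroup.mem_normalizer_iff''.1 hg x).1 hx)

/-- Two conjugates of a Frobenius complement with a common non-identity element coincide. -/
theorem coset_eq_of_mem (hH : Cfsg.IsFrobeniusComplement H) {a b x : G} (hx1 : x ≠ 1)
    (ha : a⁻¹ * x * a ∈ H) (hb : b⁻¹ * x * b ∈ H) : (a : G ⧸ H) = (b : G ⧸ H) := by
  rw [QuotientGroup.eq]
  refine mem_of_conj_mem hH (x := a⁻¹ * x * a) ?_ ha ?_
  · intro h
    apply hx1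
    calc x = a * (a⁻¹ * x * a) * a⁻¹ := by group
      _ = 1 := by rw [h]; group
  · simpa [mul_assoc] using hb

theorem isFrobeniusComplement_conj (hH : Cfsg.IsFrobeniusComplement H) (a : G) :
    Cfsg.IsFrobeniusComplement (MulAut.conj a • H) := by
  refine ⟨fun h => ?_, fun h => ?_, fun g hg => ?_⟩
  · obtain ⟨x, hx, hx1⟩ := exists_ne_one_mem hH
    have : a * x * a⁻¹ ∈ MulAut.conj a • H := mem_conj_smul.2 (by simpa [mul_assoc] using hx)
    rw [h, Subgroup.mem_bot] at this
    exact hx1 (conj_eq_one_iff.1 this)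
  · apply hH.2.1
    rw [eq_top_iff]
    intro x _
    have : a * x * a⁻¹ ∈ MulAut.conj a • H := by rw [h]; trivial
    simpa [mul_assoc] using mem_conj_smul.1 this
  · rw [Subgroup.eq_bot_iff_forall]
    rintro x ⟨hx, hx'⟩
    have h1 : a⁻¹ * x * a ∈ H := mem_conj_smul.1 hx
    have h2 : a⁻¹ * (g⁻¹ * x * g) * a ∈ H := mem_conj_smul.1 (mem_conj_smul.1 hx')
    by_contra hx1
    apply hg
    have hc := coset_eq_of_mem hH hx1 h1 (b := g * a) (by simpa [mul_assoc] using h2)
    rw [QuotientGroup.eq] at hc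
    exact mem_conj_smul.2 (by simpa [mul_assoc] using hc)

theorem isFrobeniusComplement_map {G' : Type*} [Group G'] (hH : Cfsg.IsFrobeniusComplement H)
    (e : G ≃* G') : Cfsg.IsFrobeniusComplement (H.map e.toMonoidHom) := by
  have hmem : ∀ y, y ∈ H.map e.toMonoidHom ↔ e.symm y ∈ H := fun y => Subgroup.mem_map_equiv
  refine ⟨fun h => ?_, fun h => ?_, fun g hg => ?_⟩
  · obtain ⟨x, hx, hx1⟩ := exists_ne_one_mem hH
    have hm : e x ∈ H.map e.toMonoidHom := (hmem _).2 (by simpa using hx)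
    rw [h, Subgroup.mem_bot] at hm
    exact hx1 (e.injective (hm.trans (map_one e).symm))
  · apply hH.2.1
    rw [eq_top_iff]
    intro x _
    have hm : e x ∈ H.map e.toMonoidHom := by rw [h]; trivial
    simpa using (hmem _).1 hm
  · rw [Subgroup.eq_bot_iff_forall]
    rintro x ⟨hx, hx'⟩
    have h2 : e.symm (g⁻¹ * x * g) ∈ H := (hmem _).1 (mem_conj_smul.1 hx')
    rw [map_mul, map_mul, map_inv] at h2
    have h3 := eq_one_of_conj_mem hH (mt (hmem g).2 hg) ((hmem x).1 hx) h2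
    exact (EmbeddingLike.map_eq_one_iff (f := e.symm)).1 h3

theorem isFrobeniusComplement_subgroupOf (hH : Cfsg.IsFrobeniusComplement H) {L : Subgroup G}
    (h1 : L ⊓ H ≠ ⊥) (h2 : ¬ L ≤ H) : Cfsg.IsFrobeniusComplement (H.subgroupOf L) := by
  refine ⟨?_, ?_, fun g hg => ?_⟩
  · rw [Ne, Subgroup.subgroupOf_eq_bot, disjoint_iff, inf_comm]
    exact h1
  · rwa [Ne, Subgroup.subgroupOf_eq_top]
  · rw [Subgroup.eq_bot_iff_forall]
    rintro x ⟨hx, hx'⟩
    have h2 : g⁻¹ * x * g ∈ H.subgroupOf L := mem_conj_smul.1 hx'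
    exact Subtype.ext (eq_one_of_conj_mem hH (g := (g : G)) hg hx h2)

/-- Non-kernel elements correspond to pairs (conjugate of `H`, non-identity element of it). -/
noncomputable def complementPairsEquiv (hH : Cfsg.IsFrobeniusComplement H) :
    (G ⧸ H) × {h : H // h ≠ 1} ≃ {x : G // x ∉ Cfsg.frobeniusKernel H} := by
  refine Equiv.ofBijective (fun qh => ⟨qh.1.out * ((qh.2.1 : H) : G) * qh.1.out⁻¹, ?_⟩) ⟨?_, ?_⟩
  · intro hk
    have := eq_one_of_mem_kernel_of_mem hk (g := qh.1.out) (by simp [mul_assoc])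
    exact qh.2.2 (Subtype.ext (conj_eq_one_iff.1 this))
  · rintro ⟨q, h⟩ ⟨r, k⟩ he
    have he' : q.out * ((h.1 : H) : G) * q.out⁻¹ = r.out * ((k.1 : H) : G) * r.out⁻¹ :=
      congrArg Subtype.val he
    have hne : q.out * ((h.1 : H) : G) * q.out⁻¹ ≠ 1 := fun h' =>
      h.2 (Subtype.ext (conj_eq_one_iff.1 h'))
    have hqr := coset_eq_of_mem hH hne (a := q.out) (b := r.out) (by simp [mul_assoc])
      (by rw [he']; simp [mul_assoc])
    rw [QuotientGroup.out_eq', QuotientGroup.out_eq'] at hqr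
    subst hqr
    have hhk : ((h.1 : H) : G) = ((k.1 : H) : G) := by simpa using he'
    exact Prod.ext rfl (Subtype.ext (Subtype.ext hhk))
  · rintro ⟨x, hx⟩
    rw [mem_kernel_iff, not_or, not_forall] at hx
    obtain ⟨hx1, g, hg⟩ := hx
    rw [not_not] at hg
    obtain ⟨u, hu⟩ := QuotientGroup.mk_out_eq_mul H g
    have hmem : (g * (u : G))⁻¹ * x * (g * (u : G)) ∈ H := by
      have : (u : G)⁻¹ * (g⁻¹ * x * g) * (u : G) ∈ H :=
        H.mul_mem (H.mul_mem (H.inv_mem u.2) hg) u.2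
      simpa [mul_assoc] using this
    refine ⟨((g : G ⧸ H), ⟨⟨_, hmem⟩, ?_⟩), ?_⟩
    · intro h
      have h' : (g * (u : G))⁻¹ * x * (g * (u : G)) = 1 := congrArg Subtype.val h
      apply hx1
      calc x = (g * (u : G)) * ((g * (u : G))⁻¹ * x * (g * (u : G))) * (g * (u : G))⁻¹ := by group
        _ = 1 := by rw [h']; group
    · apply Subtype.ext
      show (g : G ⧸ H).out * _ * (g : G ⧸ H).out⁻¹ = x
      rw [hu]
      group

variable [Finite G]

/-- The Frobenius kernel has as many elements as the index of the complement. -/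
theorem card_kernel (hH : Cfsg.IsFrobeniusComplement H) :
    Nat.card (Cfsg.frobeniusKernel H) = H.index := by
  classical
  have h2 : Nat.card G = Nat.card (Cfsg.frobeniusKernel H) +
      Nat.card {x : G // x ∉ Cfsg.frobeniusKernel H} := by
    rw [← Nat.card_sum]
    exact Nat.card_congr (Equiv.sumCompl (fun x => x ∈ Cfsg.frobeniusKernel H)).symm
  rw [← Nat.card_congr (complementPairsEquiv hH), Nat.card_prod, ← Subgroup.index] at h2
  have h3 : Nat.card H = Nat.card {h : H // h ≠ 1} + 1 := by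
    rw [Nat.card_congr (Equiv.sumCompl (fun h : H => h ≠ 1)).symm, Nat.card_sum]
    congr 1
    rw [Nat.card_eq_one_iff_unique]
    exact ⟨⟨fun a b => Subtype.ext ((not_not.1 a.2).trans (not_not.1 b.2).symm)⟩,
      ⟨⟨1, not_not.2 rfl⟩⟩⟩
  have h4 : H.index * Nat.card H = Nat.card G := H.index_mul_card
  rw [h3] at h4
  linarith

theorem index_modEq_one (hH : Cfsg.IsFrobeniusComplement H) :
    H.index ≡ 1 [MOD Nat.card H] := by
  classical
  let X : SubMulAction H (G ⧸ H) :=
    { carrier := {q | q ≠ ((1 : G) : G ⧸ H)}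
      smul_mem' := fun h q hq hc => hq (by
        have h1 : h⁻¹ • (h • q) = q := inv_smul_smul h q
        rw [hc] at h1
        rw [← h1]
        change ((((h⁻¹ : H) : G) * 1 : G) : G ⧸ H) = _
        rw [QuotientGroup.eq]
        simpa using h.2) }
  have hfree : ∀ x : X, MulAction.stabilizer H x = ⊥ := by
    intro x
    rw [Subgroup.eq_bot_iff_forall]
    intro h hh
    by_contra hh1
    apply x.2
    obtain ⟨g, hg⟩ := QuotientGroup.mk_surjective (x : G ⧸ H)
    have e : ((h : G) * g : G) = ((g : G) : G ⧸ H) := by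
      have := congrArg Subtype.val (MulAction.mem_stabilizer_iff.1 hh)
      rw [SubMulAction.val_smul, ← hg] at this
      exact this
    rw [QuotientGroup.eq] at e
    have hgH : g ∈ H := mem_of_conj_mem hH (x := (h : G)⁻¹)
      (fun h' => hh1 (Subtype.ext (inv_eq_one.1 h'))) (H.inv_mem h.2) (by simpa [mul_assoc] using e)
    rw [← hg, QuotientGroup.eq]
    simpa using hgH
  have hcard : Nat.card X = Nat.card (MulAction.orbitRel.Quotient H X) * Nat.card H := by
    rw [Nat.card_congr (MulAction.selfEquivOrbitsQuotientProd hfree), Nat.card_prod]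
  have hidx : H.index = Nat.card X + 1 := by
    rw [Subgroup.index, Nat.card_congr
      (Equiv.sumCompl (fun q : G ⧸ H => q ≠ ((1 : G) : G ⧸ H))).symm, Nat.card_sum]
    congr 1
    rw [Nat.card_eq_one_iff_unique]
    exact ⟨⟨fun a b => Subtype.ext ((not_not.1 a.2).trans (not_not.1 b.2).symm)⟩,
      ⟨⟨_, not_not.2 rfl⟩⟩⟩
  rw [hidx, hcard, Nat.ModEq, Nat.add_comm, Nat.add_mul_mod_self_right]

theorem coprime_card_index (hH : Cfsg.IsFrobeniusComplement H) :
    Nat.Coprime (Nat.card H) H.index := by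
  rw [Nat.coprime_comm, Nat.Coprime, (index_modEq_one hH).gcd_eq, Nat.gcd_one_left]

theorem one_lt_index (hH : Cfsg.IsFrobeniusComplement H) : 1 < H.index := by
  have h0 := H.index_ne_zero_of_finite
  have h1 : H.index ≠ 1 := fun h => hH.2.1 (Subgroup.index_eq_one.1 h)
  omega

end Complement

section FPF

/-- `A` acts on `K` by conjugation without non-trivial fixed points. -/
def FPF (A K : Subgroup G) : Prop :=
  ∀ a ∈ A, a ≠ 1 → ∀ k ∈ K, a * k = k * a → k = 1

variable {A K : Subgroup G}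

theorem fpf_iff_inf_centralizer :
    FPF A K ↔ ∀ a ∈ A, a ≠ 1 → K ⊓ Subgroup.centralizer {a} = ⊥ := by
  refine forall_congr' fun a => forall_congr' fun _ => forall_congr' fun _ => ?_
  rw [Subgroup.eq_bot_iff_forall]
  simp only [Subgroup.mem_inf, Subgroup.mem_centralizer_singleton_iff, and_imp]
  exact forall_congr' fun k => forall_congr' fun _ => ⟨fun h e => h e.symm, fun h e => h e.symm⟩

theorem FPF.mono (h : FPF A K) {A' K' : Subgroup G} (hA : A' ≤ A) (hK : K' ≤ K) : FPF A' K' :=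
  fun a ha ha1 k hk => h a (hA ha) ha1 k (hK hk)

theorem FPF.inf_eq_bot (h : FPF A K) : K ⊓ A = ⊥ := by
  rw [Subgroup.eq_bot_iff_forall]
  rintro x ⟨hxK, hxA⟩
  by_contra hx1
  exact hx1 (h x hxA hx1 x hxK rfl)

/-- The commutator map is a bijection, so a fixed-point-free coset consists of conjugates. -/
theorem FPF.exists_conj (h : FPF A K) [Finite G] {a : G} (ha : a ∈ A) (ha1 : a ≠ 1)
    (hn : a ∈ Subgroup.normalizer (K : Set G)) {k₀ : G} (hk₀ : k₀ ∈ K) :
    ∃ k ∈ K, k * a * k⁻¹ = k₀ * a := by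
  let f : K → K := fun k => ⟨k * (a * (k : G)⁻¹ * a⁻¹),
    K.mul_mem k.2 ((Subgroup.mem_normalizer_iff.1 hn _).1 (K.inv_mem k.2))⟩
  have hinj : Function.Injective f := by
    intro k l hkl
    have e : (k : G) * (a * (k : G)⁻¹ * a⁻¹) = l * (a * (l : G)⁻¹ * a⁻¹) :=
      congrArg Subtype.val hkl
    have h1 : a * ((l : G)⁻¹ * k) = ((l : G)⁻¹ * k) * a := by
      calc a * ((l : G)⁻¹ * k) = (l : G)⁻¹ * ((l : G) * (a * (l : G)⁻¹ * a⁻¹)) * a * k := by group
        _ = (l : G)⁻¹ * ((k : G) * (a * (k : G)⁻¹ * a⁻¹)) * a * k := by rw [e]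
        _ = _ := by group
    have h2 := h a ha ha1 _ (K.mul_mem (K.inv_mem l.2) k.2) h1
    exact Subtype.ext (inv_mul_eq_one.1 h2).symm
  obtain ⟨k, hk⟩ := Finite.surjective_of_injective hinj ⟨k₀, hk₀⟩
  refine ⟨k, k.2, ?_⟩
  have e : (k : G) * (a * (k : G)⁻¹ * a⁻¹) = k₀ := congrArg Subtype.val hk
  rw [← e]
  group

theorem FPF.card_modEq_one (h : FPF A K) [Finite G] (hA : A ≤ Subgroup.normalizer (K : Set G))
    {p : ℕ} [hp : Fact p.Prime] (hdvd : p ∣ Nat.card A) : Nat.card K ≡ 1 [MOD p] := by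
  classical
  have := Fintype.ofFinite K
  obtain ⟨a, ha⟩ := exists_prime_orderOf_dvd_card' (G := A) p hdvd
  have ha1 : (a : G) ≠ 1 := fun h' => hp.out.ne_one (by
    rw [← ha, show a = 1 from Subtype.ext h', orderOf_one])
  let φ : A →* MulAut K := K.normalizerMonoidHom.comp (Subgroup.inclusion hA)
  let f : Function.End K := fun k => φ a k
  have hf : ∀ n : ℕ, f ^ n = fun k => (φ a ^ n) k := by
    intro n
    induction n with
    | zero => rfl
    | succ n ih =>
      rw [pow_succ, ih, pow_succ]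
      rfl
  have hpow : f ^ p ^ 1 = 1 := by
    rw [pow_one, hf, ← map_pow, ← ha, pow_orderOf_eq_one, map_one]
    rfl
  have key := Equiv.Perm.card_fixedPoints_modEq hpow
  rw [← Nat.card_eq_fintype_card, ← Nat.card_eq_fintype_card] at key
  refine key.trans ?_
  have : Nat.card f.fixedPoints = 1 := by
    rw [Nat.card_eq_one_iff_unique]
    refine ⟨⟨fun x y => ?_⟩, ⟨⟨1, map_one (φ a)⟩⟩⟩
    have hfix : ∀ z : f.fixedPoints, ((z : K) : G) = 1 := by
      rintro ⟨z, hz⟩
      have e : (a : G) * (z : G) * (a : G)⁻¹ = z := congrArg Subtype.val hz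
      exact h a a.2 ha1 z z.2 (mul_inv_eq_iff_eq_mul.1 e)
    exact Subtype.ext (Subtype.ext ((hfix x).trans (hfix y).symm))
  rw [this]

theorem FPF.coprime (h : FPF A K) [Finite G] (hA : A ≤ Subgroup.normalizer (K : Set G)) :
    Nat.Coprime (Nat.card A) (Nat.card K) := by
  refine Nat.coprime_of_dvd fun p hp hpA hpK => ?_
  have := Fact.mk hp
  have h1 := (h.card_modEq_one hA hpA)
  rw [Nat.ModEq, Nat.mod_eq_zero_of_dvd hpK, Nat.mod_eq_of_lt hp.one_lt] at h1
  exact zero_ne_one h1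

variable {H : Subgroup G}

theorem FPF.isFrobeniusComplement [K.Normal] (hc : Subgroup.IsComplement' K H) (hK : K ≠ ⊥)
    (hH : H ≠ ⊥) (h : FPF H K) : Cfsg.IsFrobeniusComplement H := by
  have hd : ∀ x, x ∈ K → x ∈ H → x = 1 := fun x hxK hxH => by
    have := hc.disjoint.le_bot ⟨hxK, hxH⟩
    exact Subgroup.mem_bot.1 this
  refine ⟨hH, ?_, fun g hg => ?_⟩
  · intro htop
    subst htop
    exact hK ((Subgroup.eq_bot_iff_forall _).2 fun x hx => hd x hx trivial)
  · rw [Subgroup.eq_bot_iff_forall]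
    rintro x ⟨hx, hx'⟩
    by_contra hx1
    obtain ⟨⟨⟨k, hk⟩, ⟨u, hu⟩⟩, he, -⟩ := hc.existsUnique g
    obtain rfl : k * u = g := he
    have hy : k⁻¹ * x * k ∈ H := by
      have h0 : u * ((k * u)⁻¹ * x * (k * u)) * u⁻¹ ∈ H :=
        H.mul_mem (H.mul_mem hu (mem_conj_smul.1 hx')) (H.inv_mem hu)
      simpa [mul_assoc] using h0
    have hmem : x⁻¹ * (k⁻¹ * x * k) ∈ K := by
      have h2 := Subgroup.Normal.conj_mem ‹K.Normal› k⁻¹ (K.inv_mem hk) x⁻¹
      rw [inv_inv] at h2
      simpa [mul_assoc] using K.mul_mem h2 hk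
    have e := hd _ hmem (H.mul_mem (H.inv_mem hx) hy)
    have e' : x * k = k * x := by
      have := inv_mul_eq_one.1 e
      calc x * k = k * (k⁻¹ * x * k) := by group
        _ = k * x := by rw [← this]
    apply hg
    rw [h x hx hx1 k hk e', one_mul]
    exact hu

theorem fpf_of_isFrobeniusComplement (hH : Cfsg.IsFrobeniusComplement H)
    (hd : Disjoint K H) : FPF H K := by
  intro a ha ha1 k hk e
  have : k ∈ H := centralizer_le hH ha1 ha (Subgroup.mem_centralizer_singleton_iff.2 e.symm)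
  exact Subgroup.mem_bot.1 (hd.le_bot ⟨hk, this⟩)

/-- In a semidirect product with fixed-point-free action every element outside the kernel is
conjugate into the complement. -/
theorem FPF.exists_conj_mem [Finite G] [K.Normal] (hc : Subgroup.IsComplement' K H)
    (h : FPF H K) {x : G} (hx : x ∉ K) : ∃ k ∈ K, k⁻¹ * x * k ∈ H := by
  obtain ⟨⟨⟨k₀, hk₀⟩, ⟨u, hu⟩⟩, he, -⟩ := hc.existsUnique x
  obtain rfl : k₀ * u = x := he
  have hu1 : u ≠ 1 := by rintro rfl; exact hx (by simpa using hk₀)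
  obtain ⟨k, hk, e⟩ := h.exists_conj hu hu1 (by rw [Subgroup.normalizer_eq_top]; trivial) hk₀
  refine ⟨k, hk, ?_⟩
  rw [← e]
  simpa [mul_assoc] using hu

/-- A normal complement of a Frobenius complement is the Frobenius kernel. -/
theorem kernel_eq_of_normal_complement [Finite G] [K.Normal] (hH : Cfsg.IsFrobeniusComplement H)
    (hc : Subgroup.IsComplement' K H) : (K : Set G) = Cfsg.frobeniusKernel H := by
  have hsub : (K : Set G) ⊆ Cfsg.frobeniusKernel H := by
    intro x hx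
    rw [mem_kernel_iff]
    refine or_iff_not_imp_left.2 fun hx1 g hg => hx1 ?_
    have hK' : g⁻¹ * x * g ∈ K := by
      simpa using Subgroup.Normal.conj_mem ‹K.Normal› x hx g⁻¹
    have := Subgroup.mem_bot.1 (hc.disjoint.le_bot ⟨hK', hg⟩)
    calc x = g * (g⁻¹ * x * g) * g⁻¹ := by group
      _ = 1 := by rw [this]; group
  refine Set.eq_of_subset_of_ncard_le hsub ?_ (Set.toFinite _)
  rw [← Nat.card_coe_set_eq, ← Nat.card_coe_set_eq, card_kernel hH, hc.index_eq_card]
  rfl

end FPF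

end Cfsg.Agent.Frobenius
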