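import Cfsg.Agent.EqLemmas

/-!
Real fixed-point-free representations coming from rational ones (for Zassenhaus' theorem).

Main results (namespace `Cfsg.Agent.Frobenius`):
* `FPFRep G` : rational matrices for `G` without fixed vectors; `FPFRep.R` the real matrices,
  `FPFRep.B` an invariant positive definite form, `IsSkew`, `IsSym`
* `FPFRep.exists_eigenvector` : all `ζ + ζ⁻¹`, `ζ` primitive of order `orderOf g`, are eigenvalues
  of `g + g⁻¹`
* `FPFRep.sq_eq_neg_one`, `FPFRep.cube_relation`, `FPFRep.pair_trichotomy`, `FPFRep.axis_dichotomy`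
-/

namespace Cfsg.Agent.Frobenius

open Matrix Polynomial

/-- A rational matrix representation in which no non-identity element fixes a non-zero vector. -/
structure FPFRep (G : Type*) [Group G] where
  /-- the degree -/
  n : ℕ
  /-- the representation -/
  M : G →* Matrix (Fin n) (Fin n) ℚ
  pos : 0 < n
  fpf : ∀ g : G, g ≠ 1 → ∀ v : Fin n → ℚ, M g *ᵥ v = v → v = 0

namespace FPFRep

variable {G : Type*} [Group G] (ρ : FPFRep G)

/-- The real matrices. -/
abbrev E := Matrix (Fin ρ.n) (Fin ρ.n) ℝ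

/-- The real representation. -/
noncomputable def R : G →* ρ.E :=
  (RingHom.mapMatrix (Rat.castHom ℝ)).toMonoidHom.comp ρ.M

theorem R_def (g : G) : ρ.R g = (Rat.castHom ℝ).mapMatrix (ρ.M g) := rfl

theorem R_mul_inv (g : G) : ρ.R g * ρ.R g⁻¹ = 1 := by rw [← map_mul, mul_inv_cancel, map_one]

theorem R_inv_mul (g : G) : ρ.R g⁻¹ * ρ.R g = 1 := by rw [← map_mul, inv_mul_cancel, map_one]

theorem det_sub_one_ne_zero {g : G} (hg : g ≠ 1) : (ρ.R g - 1).det ≠ 0 := by
  have h : (ρ.M g - 1).det ≠ 0 := by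
    intro h
    obtain ⟨v, hv, hv'⟩ := exists_mulVec_eq_zero_iff.2 h
    rw [sub_mulVec, one_mulVec, sub_eq_zero] at hv'
    exact hv (ρ.fpf g hg v hv')
  have e : (Rat.castHom ℝ) (ρ.M g - 1).det = (ρ.R g - 1).det := by
    rw [RingHom.map_det, map_sub, map_one, ← ρ.R_def g]
  rw [← e]
  exact fun h' => h ((Rat.castHom ℝ).injective (h'.trans (map_zero _).symm))

theorem fpfR {g : G} (hg : g ≠ 1) {v : Fin ρ.n → ℝ} (h : ρ.R g *ᵥ v = v) : v = 0 := by
  by_contra hv
  exact ρ.det_sub_one_ne_zero hg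
    (exists_mulVec_eq_zero_iff.1 ⟨v, hv, by rw [sub_mulVec, one_mulVec, h, sub_self]⟩)

theorem mul_eq_zero_of_ne_one {g : G} (hg : g ≠ 1) {X : ρ.E} (h : (ρ.R g - 1) * X = 0) : X = 0 := by
  have hu : IsUnit (ρ.R g - 1) :=
    (Matrix.isUnit_iff_isUnit_det _).2 (ρ.det_sub_one_ne_zero hg).isUnit
  exact hu.mul_right_eq_zero.1 h

theorem nonempty : Nonempty (Fin ρ.n) := ⟨⟨0, ρ.pos⟩⟩

theorem one_ne_zero' : (1 : ρ.E) ≠ 0 := by
  have := ρ.nonempty
  exact one_ne_zero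

theorem charZero : CharZero ρ.E :=
  have := ρ.nonempty
  charZero_of_injective_algebraMap (algebraMap ℝ ρ.E).injective

theorem exists_vec_ne_zero {X : ρ.E} (h : X ≠ 0) : ∃ w, X *ᵥ w ≠ 0 := by
  by_contra hall
  push Not at hall
  refine h (Matrix.ext fun a b => ?_)
  have := congrFun (hall (Pi.single b 1)) a
  simpa using this

theorem R_injective : Function.Injective ρ.R := by
  rw [injective_iff_map_eq_one]
  intro g hg
  by_contra h
  exact ρ.one_ne_zero' (ρ.mul_eq_zero_of_ne_one h (X := 1) (by rw [hg]; simp))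

/-- An element of order two acts as `-1`. -/
theorem eq_neg_one {z : G} (h1 : z ≠ 1) (h2 : z * z = 1) : ρ.R z = -1 := by
  have h : (ρ.R z - 1) * (ρ.R z + 1) = 0 := by
    rw [sub_mul, mul_add, one_mul, mul_one, ← map_mul, h2, map_one]; abel
  exact eq_neg_of_add_eq_zero_left (ρ.mul_eq_zero_of_ne_one h1 h)

theorem sq_eq_neg_one {u : G} (h : orderOf u = 4) : ρ.R u * ρ.R u = -1 := by
  rw [← map_mul]
  refine ρ.eq_neg_one ?_ ?_
  · rw [← sq]
    exact pow_ne_one_of_lt_orderOf (by norm_num) (by omega)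
  · rw [← sq, ← sq, ← pow_mul, show 2 * 2 = orderOf u by omega, pow_orderOf_eq_one]

theorem cube_relation {c : G} (h : orderOf c = 3) : ρ.R c * ρ.R c + ρ.R c + 1 = 0 := by
  refine ρ.mul_eq_zero_of_ne_one (g := c) (fun e => by simp [e] at h) ?_
  have h3 : ρ.R c * (ρ.R c * ρ.R c) = 1 := by
    rw [← map_mul, ← map_mul, show c * (c * c) = c ^ 3 by simp [pow_succ, mul_assoc], ← h,
      pow_orderOf_eq_one, map_one]
  simp only [sub_mul, mul_add, one_mul, mul_one, h3]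
  abel

variable [Fintype G]

/-- The invariant inner product. -/
noncomputable def B (u v : Fin ρ.n → ℝ) : ℝ := ∑ g : G, (ρ.R g *ᵥ u) ⬝ᵥ (ρ.R g *ᵥ v)

theorem B_comm (u v) : ρ.B u v = ρ.B v u :=
  Finset.sum_congr rfl fun g _ => dotProduct_comm _ _

theorem B_add_left (u v w) : ρ.B (u + v) w = ρ.B u w + ρ.B v w := by
  simp [B, mulVec_add, add_dotProduct, Finset.sum_add_distrib]

theorem B_add_right (u v w) : ρ.B u (v + w) = ρ.B u v + ρ.B u w := by
  simp [B, mulVec_add, dotProduct_add, Finset.sum_add_distrib]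

theorem B_neg_left (u v) : ρ.B (-u) v = -ρ.B u v := by
  simp [B, mulVec_neg, neg_dotProduct, Finset.sum_neg_distrib]

theorem B_neg_right (u v) : ρ.B u (-v) = -ρ.B u v := by
  simp [B, mulVec_neg, dotProduct_neg, Finset.sum_neg_distrib]

theorem B_sub_left (u v w) : ρ.B (u - v) w = ρ.B u w - ρ.B v w := by
  rw [sub_eq_add_neg, B_add_left, B_neg_left, sub_eq_add_neg]

theorem B_sub_right (u v w) : ρ.B u (v - w) = ρ.B u v - ρ.B u w := by
  rw [sub_eq_add_neg, B_add_right, B_neg_right, sub_eq_add_neg]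

theorem B_smul_left (r : ℝ) (u v) : ρ.B (r • u) v = r * ρ.B u v := by
  simp [B, mulVec_smul, smul_dotProduct, Finset.mul_sum]

theorem B_smul_right (r : ℝ) (u v) : ρ.B u (r • v) = r * ρ.B u v := by
  simp [B, mulVec_smul, dotProduct_smul, Finset.mul_sum]

theorem B_zero_left (v) : ρ.B 0 v = 0 := by simp [B]

theorem B_self_nonneg (u) : 0 ≤ ρ.B u u :=
  Finset.sum_nonneg fun _ _ => Finset.sum_nonneg fun _ _ => mul_self_nonneg _

theorem B_self_eq_zero {u} (h : ρ.B u u = 0) : u = 0 := by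
  have := (Finset.sum_eq_zero_iff_of_nonneg
    (fun g _ => Finset.sum_nonneg fun i _ => mul_self_nonneg ((ρ.R g *ᵥ u) i))).1 h 1
    (Finset.mem_univ _)
  rw [map_one, one_mulVec] at this
  exact dotProduct_self_eq_zero.1 this

theorem B_self_pos {u} (h : u ≠ 0) : 0 < ρ.B u u :=
  lt_of_le_of_ne (ρ.B_self_nonneg u) fun e => h (ρ.B_self_eq_zero e.symm)

theorem B_apply_R (g : G) (u v) : ρ.B (ρ.R g *ᵥ u) (ρ.R g *ᵥ v) = ρ.B u v := by
  refine Fintype.sum_equiv (Equiv.mulRight g) _ _ fun h => ?_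
  simp [mulVec_mulVec, map_mul]

theorem B_R_left (g : G) (u v) : ρ.B (ρ.R g *ᵥ u) v = ρ.B u (ρ.R g⁻¹ *ᵥ v) := by
  rw [← ρ.B_apply_R g u (ρ.R g⁻¹ *ᵥ v), mulVec_mulVec, R_mul_inv, one_mulVec]

/-- Skew-adjoint matrices. -/
def IsSkew (X : ρ.E) : Prop := ∀ u v, ρ.B (X *ᵥ u) v = -ρ.B u (X *ᵥ v)

/-- Self-adjoint matrices. -/
def IsSym (X : ρ.E) : Prop := ∀ u v, ρ.B (X *ᵥ u) v = ρ.B u (X *ᵥ v)

theorem isSkew_of_order_four {u : G} (h : orderOf u = 4) : ρ.IsSkew (ρ.R u) := by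
  intro v w
  have hi : ρ.R u⁻¹ = -ρ.R u := by
    calc ρ.R u⁻¹ = ρ.R u⁻¹ * -(ρ.R u * ρ.R u) := by rw [ρ.sq_eq_neg_one h, neg_neg, mul_one]
      _ = _ := by rw [mul_neg, ← mul_assoc, R_inv_mul, one_mul]
  rw [B_R_left, hi, neg_mulVec, B_neg_right]

omit [Fintype G] in
theorem R_inv_order_three {c : G} (h : orderOf c = 3) : ρ.R c⁻¹ = -ρ.R c - 1 := by
  have hc : c⁻¹ = c * c := inv_eq_of_mul_eq_one_right (by
    rw [show c * (c * c) = c ^ 3 by simp [pow_succ, mul_assoc], ← h, pow_orderOf_eq_one])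
  rw [hc, map_mul]
  have := ρ.cube_relation h
  linear_combination (norm := abel) this

/-- The skew matrix `2c + 1` of an element of order three. -/
noncomputable def axis (c : G) : ρ.E := ρ.R c + ρ.R c + 1

omit [Fintype G] in
theorem axis_sq {c : G} (h : orderOf c = 3) : ρ.axis c * ρ.axis c = -3 := by
  have h2 : ρ.R c * ρ.R c = -ρ.R c - 1 := by
    have := ρ.cube_relation h
    linear_combination (norm := abel) this
  simp only [axis, add_mul, mul_add, one_mul, mul_one, h2]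
  rw [show (3 : ρ.E) = 1 + 1 + 1 by norm_num]
  abel

theorem axis_skew {c : G} (h : orderOf c = 3) : ρ.IsSkew (ρ.axis c) := by
  intro u v
  simp only [axis, add_mulVec, one_mulVec, B_add_left, B_add_right, B_R_left,
    ρ.R_inv_order_three h, sub_mulVec, neg_mulVec, B_sub_right, B_neg_right]
  ring

omit [Fintype G] in
theorem axis_injective {c d : G} (h : ρ.axis c = ρ.axis d) : c = d := by
  refine ρ.R_injective ?_
  have h' : ρ.R c + ρ.R c = ρ.R d + ρ.R d := add_right_cancel h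
  rw [← two_smul ℝ, ← two_smul ℝ (ρ.R d)] at h'
  exact smul_right_injective ρ.E (two_ne_zero (α := ℝ)) h'

omit [Fintype G] in
theorem axis_inv {c : G} (h : orderOf c = 3) : ρ.axis c⁻¹ = -ρ.axis c := by
  show ρ.R c⁻¹ + ρ.R c⁻¹ + 1 = -(ρ.R c + ρ.R c + 1)
  rw [ρ.R_inv_order_three h]
  abel

omit [Fintype G] in
theorem axis_conj (g c : G) : ρ.axis (g * c * g⁻¹) = ρ.R g * ρ.axis c * ρ.R g⁻¹ := by
  simp only [axis, map_mul, mul_add, add_mul, mul_one, R_mul_inv]

/-- A positive operator is bounded. -/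
theorem skew_bound {A C : ρ.E} (hA : ρ.IsSkew A) (hC : ρ.IsSkew C) (hA2 : A * A = -3)
    (hC2 : C * C = -3) (w) : |ρ.B ((A * C + C * A) *ᵥ w) w| ≤ 6 * ρ.B w w := by
  have key : ∀ X : ρ.E, ρ.IsSkew X → X * X = -3 → ρ.B (X *ᵥ w) (X *ᵥ w) = 3 * ρ.B w w := by
    intro X hX hX2
    rw [hX, mulVec_mulVec, hX2, neg_mulVec, B_neg_right, neg_neg,
      show (3 : ρ.E) = 1 + 1 + 1 by norm_num, add_mulVec, add_mulVec, one_mulVec, B_add_right,
      B_add_right]
    ring
  have h1 := key A hA hA2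
  have h2 := key C hC hC2
  have e : ρ.B ((A * C + C * A) *ᵥ w) w = -(2 * ρ.B (A *ᵥ w) (C *ᵥ w)) := by
    rw [add_mulVec, B_add_left, ← mulVec_mulVec, ← mulVec_mulVec, hA (C *ᵥ w) w,
      hC (A *ᵥ w) w, ρ.B_comm (C *ᵥ w) (A *ᵥ w)]
    ring
  have hp := ρ.B_self_nonneg (A *ᵥ w + C *ᵥ w)
  have hm := ρ.B_self_nonneg (A *ᵥ w - C *ᵥ w)
  simp only [B_add_left, B_add_right, B_sub_left, B_sub_right, h1, h2,
    ρ.B_comm (C *ᵥ w) (A *ᵥ w)] at hp hm
  rw [e, abs_neg, abs_le]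
  constructor <;> linarith

omit [Fintype G] in
/-- The sums of conjugate primitive roots of unity are eigenvalues. -/
theorem exists_eigenvector [Finite G] (g : G) {j : ℕ} (hj : j.Coprime (orderOf g)) :
    ∃ w ≠ 0, (ρ.R g + ρ.R g⁻¹) *ᵥ w =
      (2 * Real.cos (2 * Real.pi * j / orderOf g)) • w := by
  classical
  set m := orderOf g with hm
  have hm0 : 0 < m := orderOf_pos g
  -- the cyclotomic polynomial annihilates
  have hΦ : aeval (ρ.M g) (cyclotomic m ℚ) = 0 := by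
    have hpow : aeval (ρ.M g) (X ^ m - 1 : ℚ[X]) = 0 := by
      rw [map_sub, map_pow, aeval_X, map_one, ← map_pow, hm, pow_orderOf_eq_one, map_one, sub_self]
    rw [← prod_cyclotomic_eq_X_pow_sub_one hm0 ℚ,
      ← Nat.cons_self_properDivisors hm0.ne', Finset.prod_cons, map_mul] at hpow
    have hu : IsUnit (aeval (ρ.M g) (∏ d ∈ m.properDivisors, cyclotomic d ℚ)) := by
      refine Submonoid.prod_mem ((IsUnit.submonoid (Matrix (Fin ρ.n) (Fin ρ.n) ℚ)).comap
        (aeval (ρ.M g) : ℚ[X] →ₐ[ℚ] Matrix (Fin ρ.n) (Fin ρ.n) ℚ)) ?_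
      intro d hd
      rw [Nat.mem_properDivisors] at hd
      have hd1 : g ^ d ≠ 1 :=
        pow_ne_one_of_lt_orderOf (Nat.pos_of_dvd_of_pos hd.1 hm0).ne' hd.2
      show IsUnit (aeval (ρ.M g) (cyclotomic d ℚ))
      have hunit : IsUnit (aeval (ρ.M g) (X ^ d - 1 : ℚ[X])) := by
        rw [map_sub, map_pow, aeval_X, map_one, ← map_pow, Matrix.isUnit_iff_isUnit_det,
          isUnit_iff_ne_zero]
        intro h
        obtain ⟨v, hv, hv'⟩ := exists_mulVec_eq_zero_iff.2 h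
        rw [sub_mulVec, one_mulVec, sub_eq_zero] at hv'
        exact hv (ρ.fpf _ hd1 v hv')
      obtain ⟨q, hq⟩ := cyclotomic.dvd_X_pow_sub_one d ℚ
      rw [hq, Matrix.isUnit_iff_isUnit_det, map_mul, det_mul] at hunit
      exact (Matrix.isUnit_iff_isUnit_det _).2 (isUnit_of_mul_isUnit_left hunit)
    exact hu.mul_left_eq_zero.1 hpow
  -- hence it is the minimal polynomial
  have hmin : minpoly ℚ (ρ.M g) = cyclotomic m ℚ := by
    have := ρ.nonempty
    exact (minpoly.eq_of_irreducible_of_monic (cyclotomic.irreducible_rat hm0) hΦ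
      (cyclotomic.monic m ℚ)).symm
  set ζ : ℂ := Complex.exp (2 * Real.pi * Complex.I * (j / m)) with hζdef
  have hζ : IsPrimitiveRoot ζ m := Complex.isPrimitiveRoot_exp_of_coprime j m hm0.ne' hj
  set Mc : Matrix (Fin ρ.n) (Fin ρ.n) ℂ := (Rat.castHom ℂ).mapMatrix (ρ.M g) with hMc
  have hroot : Mc.charpoly.IsRoot ζ := by
    rw [hMc, RingHom.mapMatrix_apply, Matrix.charpoly_map, IsRoot, eval_map]
    obtain ⟨q, hq⟩ := hmin ▸ Matrix.minpoly_dvd_charpoly (ρ.M g)
    rw [hq, eval₂_mul]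
    have : eval₂ (Rat.castHom ℂ) ζ (cyclotomic m ℚ) = 0 := by
      rw [← eval_map, map_cyclotomic]
      exact hζ.isRoot_cyclotomic hm0
    rw [this, zero_mul]
  rw [IsRoot, Matrix.eval_charpoly] at hroot
  obtain ⟨v, hv, hv'⟩ := exists_mulVec_eq_zero_iff.2 hroot
  have hMv : Mc *ᵥ v = ζ • v := by
    rw [sub_mulVec, sub_eq_zero, Matrix.scalar_apply] at hv'
    rw [← hv']
    ext i
    simp [mulVec_diagonal]
  set Ni : Matrix (Fin ρ.n) (Fin ρ.n) ℂ := (Rat.castHom ℂ).mapMatrix (ρ.M g⁻¹) with hNi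
  have hNiv : Ni *ᵥ v = ζ⁻¹ • v := by
    have h1 : Ni *ᵥ (Mc *ᵥ v) = v := by
      rw [mulVec_mulVec, hNi, hMc, ← map_mul, ← map_mul, inv_mul_cancel, map_one, map_one,
        one_mulVec]
    rw [hMv, mulVec_smul] at h1
    rw [eq_inv_smul_iff₀ (hζ.ne_zero hm0.ne')]
    exact h1
  set l : ℝ := 2 * Real.cos (2 * Real.pi * j / m) with hl
  have hlζ : (l : ℂ) = ζ + ζ⁻¹ := by
    rw [hl, hζdef, ← Complex.exp_neg, Complex.ofReal_mul, Complex.ofReal_ofNat, Complex.ofReal_cos,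
      Complex.two_cos]
    push_cast
    ring_nf
  -- descend to the reals
  have hdet : (ρ.R g + ρ.R g⁻¹ - l • 1).det = 0 := by
    have e : Complex.ofRealHom.mapMatrix (ρ.R g + ρ.R g⁻¹ - l • 1) =
        Mc + Ni - (l : ℂ) • 1 := by
      have hR : ∀ h : G, Complex.ofRealHom.mapMatrix (ρ.R h) =
          (Rat.castHom ℂ).mapMatrix (ρ.M h) := fun h => by
        ext a b; simp [R_def]
      rw [map_sub, map_add, hR, hR, ← hMc, ← hNi]
      congr 1
      ext a b
      by_cases hab : a = b <;> simp [hab]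
    have h0 : (Mc + Ni - (l : ℂ) • 1).det = 0 :=
      exists_mulVec_eq_zero_iff.1 ⟨v, hv, by
        rw [sub_mulVec, add_mulVec, hMv, hNiv, smul_mulVec, one_mulVec, hlζ, add_smul, sub_self]⟩
    rw [← e, ← RingHom.map_det] at h0
    exact Complex.ofReal_eq_zero.1 h0
  obtain ⟨w, hw, hw'⟩ := exists_mulVec_eq_zero_iff.2 hdet
  exact ⟨w, hw, by rwa [sub_mulVec, smul_mulVec, one_mulVec, sub_eq_zero] at hw'⟩

end FPFRep

end Cfsg.Agent.Frobenius
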