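import Mathlib.GroupTheory.SemidirectProduct
import Cfsg.Agent.Lib.Frobenius.ZassRep
import Cfsg.Agent.S3357

/-!
Rational fixed-point-free representations from fixed-point-free actions.

Main results (namespace `Cfsg.Agent.Frobenius`):
* `exists_fpfRep_of_complement` : from a complement acting fixed-point-freely
* `exists_fpfRep_of_isFrobeniusComplement`, `exists_fpfRep_of_mulAut`
-/

namespace Cfsg.Agent.Frobenius

theorem exists_fpfRep_of_complement {L : Type*} [Group L] [Finite L] {Kf H : Subgroup L} [Kf.Normal]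
    (hne : Kf ≠ ⊥) (hc : Subgroup.IsComplement' Kf H) (hfpf : FPF H Kf) {G : Type*} [Group G]
    [Finite G] (eH : G ≃* H) : Nonempty (FPFRep G) := by
  obtain ⟨r, hr, hrK⟩ := Nat.exists_prime_and_dvd (n := Nat.card Kf)
    fun h => hne (Subgroup.card_eq_one.mp h)
  haveI := Fact.mk hr
  let R : Sylow r Kf := default
  obtain ⟨A, hKA, hA, ⟨eA⟩, hN⟩ := exists_invariant_sylow_complement
    hc hfpf r R
  let e : G ≃* A := eH.trans eA.symm
  set Rm := (R : Subgroup Kf).map Kf.subtype with hRm
  have hcop := hA.coprime (show A ≤ Subgroup.normalizer (Kf : Set L) by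
    rw [Subgroup.normalizer_eq_top]; exact le_top)
  have hrG : ¬ r ∣ Nat.card G := by
    rw [Nat.card_congr e.toEquiv]
    exact fun h => hr.ne_one (Nat.eq_one_of_dvd_coprimes hcop h hrK)
  -- central elements of exponent `r` of the invariant Sylow subgroup
  let M : Subgroup L :=
    { carrier := {x | x ∈ Rm ∧ (∀ y ∈ Rm, y * x = x * y) ∧ x ^ r = 1}
      one_mem' := ⟨one_mem _, by simp, one_pow r⟩
      mul_mem' := by
        rintro a b ⟨ha, hac, har⟩ ⟨hb, hbc, hbr⟩
        refine ⟨mul_mem ha hb, fun y hy => ((Commute.mul_right (hac y hy) (hbc y hy)) : _), ?_⟩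
        rw [Commute.mul_pow (show Commute a b from hbc a ha), har, hbr, one_mul]
      inv_mem' := by
        rintro a ⟨ha, hac, har⟩
        exact ⟨inv_mem ha, fun y hy => ((show Commute y a from hac y hy).inv_right : _),
          by rw [inv_pow, har, inv_one]⟩ }
  have hMK : M ≤ Kf := fun x hx => Subgroup.map_subtype_le _ hx.1
  haveI : IsMulCommutative M := ⟨⟨fun a b => Subtype.ext (b.2.2.1 a a.2.1)⟩⟩
  have hMne : Nontrivial M := by
    have hnt : Nontrivial (R : Subgroup Kf) :=
      (Subgroup.nontrivial_iff_ne_bot _).2 (R.ne_bot_of_dvd_card hrK)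
    haveI := R.isPGroup'.center_nontrivial
    have hdvd : r ∣ Nat.card (Subgroup.center (R : Subgroup Kf)) := by
      obtain ⟨k, hk0, hk⟩ := ((R.isPGroup').to_subgroup (Subgroup.center _)).nontrivial_iff_card.mp inferInstance
      rw [hk]; exact dvd_pow_self r hk0.ne'
    obtain ⟨z, hz⟩ := exists_prime_orderOf_dvd_card' r hdvd
    refine (Subgroup.nontrivial_iff_ne_bot _).2 fun hbot => ?_
    have hzM : (((z : (R : Subgroup Kf)) : Kf) : L) ∈ M := by
      refine ⟨⟨_, (z : (R : Subgroup Kf)).2, rfl⟩, ?_, ?_⟩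
      · rintro _ ⟨y, hy, rfl⟩
        exact congrArg (fun w : (R : Subgroup Kf) => ((w : Kf) : L))
          (Subgroup.mem_center_iff.1 z.2 ⟨y, hy⟩)
      · have hzr : z ^ r = 1 := (congrArg (z ^ ·) hz).symm.trans (pow_orderOf_eq_one z)
        simpa using congrArg (fun w : Subgroup.center (R : Subgroup Kf) =>
          (((w : (R : Subgroup Kf)) : Kf) : L)) hzr
    rw [hbot, Subgroup.mem_bot] at hzM
    rw [show z = 1 from Subtype.ext (Subtype.ext (Subtype.ext hzM)), orderOf_one] at hz
    exact hr.ne_one hz.symm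
  have hnorm : A ≤ Subgroup.normalizer (M : Set L) := by
    have key : ∀ a ∈ A, ∀ x ∈ M, a * x * a⁻¹ ∈ M := by
      rintro a ha x ⟨hx, hxc, hxr⟩
      have h1 : ∀ y, y ∈ Rm ↔ a * y * a⁻¹ ∈ Rm := Subgroup.mem_normalizer_iff.1 (hN ha)
      refine ⟨(h1 x).1 hx, fun y hy => ?_, by rw [conj_pow, hxr, mul_one, mul_inv_cancel]⟩
      have hy' : a⁻¹ * y * a ∈ Rm := (h1 _).2 (by simpa [mul_assoc] using hy)
      calc y * (a * x * a⁻¹) = a * ((a⁻¹ * y * a) * x) * a⁻¹ := by group
        _ = a * (x * (a⁻¹ * y * a)) * a⁻¹ := by rw [hxc _ hy']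
        _ = a * x * a⁻¹ * y := by group
    intro a ha
    refine Subgroup.mem_normalizer_iff.2 fun x => ⟨key a ha x, fun h => ?_⟩
    have := key a⁻¹ (inv_mem ha) _ h
    simpa [mul_assoc] using this
  letI : CommGroup M := { (inferInstance : Group M) with mul_comm := fun a b => Subtype.ext (b.2.2.1 a a.2.1) }
  let act : G →* MulAut M := (M.normalizerMonoidHom).comp ((Subgroup.inclusion hnorm).comp e.toMonoidHom)
  suffices hfix : ∀ g : G, g ≠ 1 → ∀ w, act g w = w → w = 1 by
    obtain ⟨n, σ, hn, -, -, hσ⟩ := S3357.exists_rep_of_act hrG (M := M)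
      (fun x => Subtype.ext (by simpa using x.2.2.2)) act hfix ℚ
    exact ⟨{ n := n, M := (Units.coeHom _).comp σ, pos := hn, fpf := hσ }⟩
  intro g hg w hw
  have h2 : (e g : L) * (w : L) * (e g : L)⁻¹ = (w : L) := congrArg Subtype.val hw
  have h3 := hA (e g) (e g).2 (fun h => hg (e.injective (by rw [map_one]; exact Subtype.ext h)))
    (w : L) (hMK w.2) (mul_inv_eq_iff_eq_mul.mp h2)
  exact Subtype.ext h3

theorem exists_fpfRep_of_isFrobeniusComplement {G L : Type*} [Group G] [Finite G] [Group L]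
    [Finite L] {H : Subgroup L} (hH : Cfsg.IsFrobeniusComplement H) (e : G ≃* H) :
    Nonempty (FPFRep G) :=
  have := frobKernel_normal hH
  exists_fpfRep_of_complement (frobKernel_ne_bot hH) (frobKernel_isComplement hH)
    (fpf_frobKernel hH) e

theorem exists_fpfRep_of_mulAut {K : Type*} [Group K] [Finite K] [Nontrivial K]
    (G : Subgroup (MulAut K)) (h : ∀ φ ∈ G, φ ≠ 1 → ∀ k : K, φ k = k → k = 1) :
    Nonempty (FPFRep G) := by
  have : Finite (K ⋊[G.subtype] G) := Finite.of_equiv _ SemidirectProduct.equivProd.symm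
  let inl : K →* K ⋊[G.subtype] G := SemidirectProduct.inl
  let inr : G →* K ⋊[G.subtype] G := SemidirectProduct.inr
  have hn : inl.range.Normal := by
    show (SemidirectProduct.inl : K →* K ⋊[G.subtype] G).range.Normal
    rw [SemidirectProduct.range_inl_eq_ker_rightHom]
    infer_instance
  have hne : inl.range ≠ ⊥ := by
    intro e
    obtain ⟨k, hk⟩ := exists_ne (1 : K)
    have hm : inl k ∈ inl.range := ⟨k, rfl⟩
    rw [e, Subgroup.mem_bot] at hm
    exact hk (SemidirectProduct.inl_injective (hm.trans (map_one inl).symm))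
  have hcard : Nat.card inl.range * Nat.card inr.range = Nat.card (K ⋊[G.subtype] G) := by
    rw [Nat.card_congr (MonoidHom.ofInjective SemidirectProduct.inl_injective).symm.toEquiv,
      Nat.card_congr (MonoidHom.ofInjective SemidirectProduct.inr_injective).symm.toEquiv,
      SemidirectProduct.card]
  have hdisj : Disjoint inl.range inr.range := by
    rw [disjoint_iff_inf_le]
    rintro x ⟨⟨k, rfl⟩, ⟨g, hg⟩⟩
    have h1 := congrArg SemidirectProduct.left hg
    simp only [inl, inr, SemidirectProduct.left_inl, SemidirectProduct.left_inr] at h1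
    rw [Subgroup.mem_bot, ← h1, map_one]
  refine exists_fpfRep_of_complement hne
    (Subgroup.isComplement'_of_card_mul_and_disjoint hcard hdisj) ?_
    (MonoidHom.ofInjective (f := inr) SemidirectProduct.inr_injective)
  rintro _ ⟨g, rfl⟩ hg1 _ ⟨k, rfl⟩ hcomm
  have hfix : inl ((g : MulAut K) k) = inl k := by
    show (SemidirectProduct.inl (G.subtype g k) : K ⋊[G.subtype] G) = inl k
    rw [SemidirectProduct.inl_aut, map_inv]
    exact mul_inv_eq_iff_eq_mul.2 hcomm
  have hgne : (g : MulAut K) ≠ 1 := fun e => hg1 (by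
    rw [show g = 1 from Subtype.ext e, map_one])
  rw [h g g.2 hgne k (SemidirectProduct.inl_injective hfix), map_one]

end Cfsg.Agent.Frobenius
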