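import Cfsg.Agent.Lib.Frobenius.ZassGroup
import Cfsg.Agent.Lib.Frobenius.RatRep

/-!
Zassenhaus' theorem on non-solvable groups with fixed-point-free representations.

Main results (namespace `Cfsg.Agent.Frobenius.FPFRep`):
* `mulEquiv_sl25_of_perfect` : a perfect one is `SL(2,5)`
* `exists_structure` : a non-solvable one has a normal subgroup of index at most two which is
  `SL(2,5) × M`, `M` a Z-group of order prime to `30`
-/

namespace Cfsg.Agent.Frobenius.FPFRep

open scoped Pointwise

universe u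

variable {G : Type u} [Group G] [Fintype G] {ρ : FPFRep G} {i a c₀ : G} {hf : ρ.Frame i a} {D : ρ.E}

theorem frame_mem_core :
    i ∈ Subgroup.closure ({i, a, c₀} : Set G) ∧ a ∈ Subgroup.closure ({i, a, c₀} : Set G) ∧
      fj i a ∈ Subgroup.closure ({i, a, c₀} : Set G) := by
  have hi : i ∈ Subgroup.closure ({i, a, c₀} : Set G) := Subgroup.subset_closure (by simp)
  have ha : a ∈ Subgroup.closure ({i, a, c₀} : Set G) := Subgroup.subset_closure (by simp)
  exact ⟨hi, ha, mul_mem (mul_mem ha hi) (inv_mem ha)⟩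

theorem sq_eq_one_of_centralizer (hn : Normal hf c₀ D) {x : G}
    (hxC : x ∈ Subgroup.centralizer (Subgroup.closure ({i, a, c₀} : Set G) : Set G))
    (hxH : x ∈ Subgroup.closure ({i, a, c₀} : Set G)) : x * x = 1 :=
  sq_eq_one_of_commute hn hxH (Subgroup.mem_centralizer_iff.1 hxC i frame_mem_core.1).symm
    (Subgroup.mem_centralizer_iff.1 hxC _ frame_mem_core.2.2).symm

theorem orderOf_ne_of_centralizer (hn : Normal hf c₀ D) {x : G}
    (hxC : x ∈ Subgroup.centralizer (Subgroup.closure ({i, a, c₀} : Set G) : Set G)) :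
    orderOf x ≠ 3 ∧ orderOf x ≠ 4 ∧ orderOf x ≠ 5 := by
  have hbad : ∀ y : G, y ∈ Subgroup.centralizer (Subgroup.closure ({i, a, c₀} : Set G) : Set G) →
      y ∈ Subgroup.closure ({i, a, c₀} : Set G) → orderOf y ∣ 2 := fun y h1 h2 =>
    orderOf_dvd_of_pow_eq_one (by rw [sq, sq_eq_one_of_centralizer hn h1 h2])
  refine ⟨fun h => ?_, fun h => ?_, fun h => ?_⟩
  · have := hbad x hxC (mem_core hn h)
    rw [h] at this
    norm_num at this
  · -- `x * i` squares to one
    have hc : Commute x i := (Subgroup.mem_centralizer_iff.1 hxC i frame_mem_core.1).symm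
    have hz : ρ.R (x * i) * ρ.R (x * i) = 1 := by
      rw [← map_mul, show x * i * (x * i) = x * x * (i * i) by
        rw [hc.eq, mul_assoc, ← mul_assoc x i x, hc.eq, mul_assoc i x x, ← mul_assoc i i,
          ← (hc.mul_left hc).mul_right (hc.mul_left hc) |>.eq], map_mul, map_mul, map_mul,
        ρ.sq_eq_neg_one h, hf.pair.II, neg_one_mul, neg_neg]
    have hxi : x * i ∈ Subgroup.closure ({i, a, c₀} : Set G) := by
      by_cases h1 : x * i = 1
      · rw [h1]; exact one_mem _
      · rw [show x * i = i * i from ρ.R_injective (by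
          rw [ρ.eq_neg_one h1 (ρ.R_injective (by rw [map_mul, hz, map_one])), map_mul, hf.pair.II])]
        exact mul_mem frame_mem_core.1 frame_mem_core.1
    have hxH : x ∈ Subgroup.closure ({i, a, c₀} : Set G) := by
      have := mul_mem hxi (inv_mem (frame_mem_core (a := a) (c₀ := c₀)).1)
      rwa [mul_inv_cancel_right] at this
    have := hbad x hxC hxH
    rw [h] at this
    norm_num at this
  · have := Fact.mk (show Nat.Prime 5 by norm_num)
    obtain ⟨y, hy⟩ := exists_prime_orderOf_dvd_card'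
      (G := Subgroup.closure ({i, a, c₀} : Set G)) 5 (by rw [card_core hn]; norm_num)
    have hcomm : Commute x (y : G) := (Subgroup.mem_centralizer_iff.1 hxC y y.2).symm
    have hxH : x ∈ Subgroup.closure ({i, a, c₀} : Set G) :=
      (Subgroup.zpowers_le.2 y.2) (ρ.smallCyclic.mem_zpowers_of_commute
        (show Nat.Prime 5 by norm_num) h (by rw [Subgroup.orderOf_coe, hy]) hcomm)
    have := hbad x hxC hxH
    rw [h] at this
    norm_num at this

theorem centralizer_solvable (hn : Normal hf c₀ D) :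
    Group.IsSolvable (Subgroup.centralizer (Subgroup.closure ({i, a, c₀} : Set G) : Set G)) := by
  obtain ⟨P, -, hPP, -, hPbot⟩ := exists_perfect_residual
    (Subgroup.centralizer (Subgroup.closure ({i, a, c₀} : Set G) : Set G))
  refine hPbot ?_
  by_contra hne
  have := (Subgroup.nontrivial_iff_ne_bot P).2 hne
  have hsc : SmallCyclic P := ρ.smallCyclic.of_injective
    (f := (Subgroup.subtype _).comp P.subtype) (Subtype.val_injective.comp Subtype.val_injective)
  have := Fact.mk Nat.prime_three
  obtain ⟨x, hx⟩ := exists_prime_orderOf_dvd_card' (G := P) 3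
    (hsc.three_dvd_of_perfect (commutator_eq_top_of_perfect hPP))
  exact (orderOf_ne_of_centralizer hn x.1.2).1
    (by rw [Subgroup.orderOf_coe, Subgroup.orderOf_coe, hx])

variable (ρ) in
include ρ in
/-- **Zassenhaus**: a perfect group with a fixed-point-free representation is `SL(2,5)`. -/
theorem mulEquiv_sl25_of_perfect [Nontrivial G] (hp : commutator G = ⊤) :
    Nonempty (G ≃* Matrix.SpecialLinearGroup (Fin 2) (ZMod 5)) := by
  have hns : ¬ Group.IsSolvable G := fun _ => absurd hp
    (IsSolvable.commutator_lt_top_of_nontrivial (G := G)).ne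
  obtain ⟨i, a, c₀, hf, D, hn⟩ := ρ.exists_core hns
  have hN := core_normal hn
  have hidx := mul_centralizer_index hn
  have hsol := centralizer_solvable hn
  obtain ⟨e⟩ := core_mulEquiv hn
  set H := Subgroup.closure ({i, a, c₀} : Set G) with hH
  set C := Subgroup.centralizer (H : Set G) with hC
  have hK : H ⊔ C = ⊤ := by
    by_contra hne
    have h2 : (H ⊔ C).index = 2 := by
      have h1 : (H ⊔ C).index ≠ 1 := fun h => hne (Subgroup.index_eq_one.1 h)
      have h0 : (H ⊔ C).index ≠ 0 := Subgroup.index_ne_zero_of_finite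
      omega
    have := Subgroup.normal_of_index_eq_two h2
    have := Fact.mk Nat.prime_two
    have hcyc : IsCyclic (G ⧸ (H ⊔ C)) := isCyclic_of_prime_card (p := 2)
      (by rw [← Subgroup.index_eq_card, h2])
    have hab : Group.IsSolvable (G ⧸ (H ⊔ C)) :=
      Group.isSolvable_of_comm fun x y => IsCyclic.commGroup.mul_comm x y
    exact hne (eq_top_iff.2 fun g _ =>
      (QuotientGroup.eq_one_iff g).1 (eq_one_of_perfect hp (QuotientGroup.mk' _) g))
  have hsurj : Function.Surjective ((QuotientGroup.mk' H).comp C.subtype) := by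
    intro q
    induction q using QuotientGroup.induction_on with
    | H g =>
      have hg : g ∈ (H : Set G) * (C : Set G) := by
        rw [← Subgroup.coe_mul_of_right_le_normalizer_left H C
          (by rw [Subgroup.normalizer_eq_top (H := H)]; exact le_top), hK]
        exact Set.mem_univ _
      obtain ⟨h, hh, c, hc, rfl⟩ := Set.mem_mul.1 hg
      exact ⟨⟨c, hc⟩, by simp [(QuotientGroup.eq_one_iff h).2 hh]⟩
  have hsolQ : Group.IsSolvable (G ⧸ H) :=
    Group.isSolvable_of_surjective (f := (QuotientGroup.mk' H).comp C.subtype) hsurj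
  have htop : H = ⊤ := eq_top_iff.2 fun g _ =>
    (QuotientGroup.eq_one_iff g).1 (eq_one_of_perfect hp (QuotientGroup.mk' H) g)
  exact ⟨(Subgroup.topEquiv.symm.trans (MulEquiv.subgroupCongr htop.symm)).trans e⟩

variable (ρ) in
include ρ in
/-- The structure of non-solvable groups with a fixed-point-free representation. -/
theorem exists_structure (hns : ¬ Group.IsSolvable G) :
    ∃ G₀ : Subgroup G, G₀.Normal ∧ (G₀.index = 1 ∨ G₀.index = 2) ∧
      ∃ S M : Subgroup G, S ⊔ M = G₀ ∧ S ⊓ M = ⊥ ∧ (∀ s ∈ S, ∀ x ∈ M, s * x = x * s) ∧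
        Nonempty (S ≃* Matrix.SpecialLinearGroup (Fin 2) (ZMod 5)) ∧
        IsZGroup M ∧ (Nat.card M).Coprime 30 := by
  obtain ⟨i, a, c₀, hf, D, hn⟩ := ρ.exists_core hns
  have hN := core_normal hn
  have hidx := mul_centralizer_index hn
  set H := Subgroup.closure ({i, a, c₀} : Set G) with hH
  set C := Subgroup.centralizer (H : Set G) with hC
  have := Fact.mk Nat.prime_two
  have hiH : i ∈ H := frame_mem_core.1
  -- the involution
  set z := i * i with hz
  have hRz : ρ.R z = -1 := by rw [hz, map_mul, hf.pair.II]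
  have hzH : z ∈ H := mul_mem hiH hiH
  have hz2 : z * z = 1 := ρ.R_injective (by rw [map_mul, hRz, neg_one_mul, neg_neg, map_one])
  have hzC : ∀ g : G, g * z = z * g := fun g => ρ.R_injective (by
    rw [map_mul ρ.R g z, map_mul ρ.R z g, hRz, mul_neg_one, neg_one_mul])
  have hzmemC : z ∈ C := Subgroup.mem_centralizer_iff.2 fun g _ => hzC g
  obtain ⟨P⟩ : Nonempty (Sylow 2 C) := inferInstance
  have hPel : ∀ x : C, x ∈ (P : Subgroup C) → (x : G) = 1 ∨ (x : G) = z := by
    intro x hx
    obtain ⟨k, hk⟩ := IsPGroup.iff_orderOf.1 P.isPGroup' ⟨x, hx⟩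
    rw [Subgroup.orderOf_mk, ← Subgroup.orderOf_coe] at hk
    match k, hk with
    | 0, hk => exact Or.inl (orderOf_eq_one_iff.1 (by simpa using hk))
    | 1, hk =>
      right
      have h1 : (x : G) ≠ 1 := fun e => by simp [e] at hk
      have h2 : (x : G) * x = 1 := by
        rw [← sq, show 2 = orderOf (x : G) by simpa using hk.symm, pow_orderOf_eq_one]
      exact ρ.R_injective (by rw [ρ.eq_neg_one h1 h2, hRz])
    | k + 2, hk =>
      exfalso
      refine (orderOf_ne_of_centralizer hn (C.pow_mem x.2 (2 ^ k))).2.1 ?_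
      rw [orderOf_pow_of_dvd (by positivity) (hk ▸ pow_dvd_pow 2 (Nat.le_add_right k 2)), hk,
        Nat.pow_div (Nat.le_add_right k 2) (by norm_num)]
      norm_num
  have hPc : Subgroup.normalizer ((P : Subgroup C) : Set C) ≤
      Subgroup.centralizer ((P : Subgroup C) : Set C) := by
    intro n _
    refine Subgroup.mem_centralizer_iff.2 fun x hx => Subtype.ext ?_
    show (x : G) * n = n * x
    rcases hPel x hx with e | e <;> rw [e]
    · rw [one_mul, mul_one]
    · rw [hzC]
  set f := MonoidHom.transferSylow P hPc with hfdef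
  have hcompl := MonoidHom.ker_transferSylow_isComplement' P hPc
  have hodd := MonoidHom.not_dvd_card_ker_transferSylow P hPc
  set M := f.ker.map C.subtype with hM
  have hMC : M ≤ C := Subgroup.map_subtype_le _
  have hcardM : Nat.card M = Nat.card f.ker := Subgroup.card_map_of_injective Subtype.val_injective
  have hmem : ∀ x : G, x ∈ M ↔ x ∈ C ∧ ¬ 2 ∣ orderOf x := by
    intro x
    constructor
    · intro hx
      refine ⟨hMC hx, fun hd => hodd ?_⟩
      rw [← hcardM]
      exact hd.trans ((Subgroup.orderOf_coe (⟨x, hx⟩ : M)).symm ▸ orderOf_dvd_natCard _)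
    · rintro ⟨hx, hd⟩
      refine ⟨⟨x, hx⟩, ?_, rfl⟩
      rw [SetLike.mem_coe, MonoidHom.mem_ker, ← orderOf_eq_one_iff]
      obtain ⟨k, hk⟩ := IsPGroup.iff_orderOf.1 P.isPGroup' (f ⟨x, hx⟩)
      have h1 : orderOf (f ⟨x, hx⟩) ∣ orderOf x :=
        (orderOf_map_dvd f _).trans (by rw [← Subgroup.orderOf_coe])
      rw [hk] at h1 ⊢
      rcases k with _ | k
      · rfl
      · exact absurd ((dvd_pow_self 2 k.succ_ne_zero).trans h1) hd
  have hMn : M.Normal := ⟨fun x hx g => by
    obtain ⟨h1, h2⟩ := (hmem x).1 hx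
    have hCn : C.Normal := inferInstance
    refine (hmem _).2 ⟨hCn.conj_mem x h1 g, ?_⟩
    rwa [← MulAut.conj_apply, MulEquiv.orderOf_eq]⟩
  have hbot : H ⊓ M = ⊥ := by
    rw [eq_bot_iff]
    rintro x ⟨hxH, hxM⟩
    obtain ⟨h1, h2⟩ := (hmem x).1 hxM
    have hd : orderOf x ∣ 2 :=
      orderOf_dvd_of_pow_eq_one (by rw [sq, sq_eq_one_of_centralizer hn h1 hxH])
    rcases (Nat.dvd_prime Nat.prime_two).1 hd with h | h
    · exact Subgroup.mem_bot.2 (orderOf_eq_one_iff.1 h)
    · exact absurd h.symm.dvd h2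
  have hsup : H ⊔ M = H ⊔ C := by
    refine le_antisymm (sup_le_sup_left hMC H) (sup_le le_sup_left fun x hx => ?_)
    have hx' : (⟨x, hx⟩ : C) ∈ (f.ker : Set C) * ((P : Subgroup C) : Set C) := by
      rw [← Subgroup.normal_mul, hcompl.sup_eq_top]
      exact Set.mem_univ _
    obtain ⟨m, hm, p, hp, e⟩ := Set.mem_mul.1 hx'
    have he : (m : G) * p = x := congrArg Subtype.val e
    rw [← he]
    refine mul_mem (Subgroup.mem_sup_right ⟨m, hm, rfl⟩) (Subgroup.mem_sup_left ?_)
    rcases hPel p hp with e | e <;> rw [e]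
    · exact one_mem _
    · exact hzH
  have hscM : SmallCyclic M := ρ.smallCyclic.of_injective (f := M.subtype) Subtype.val_injective
  refine ⟨H ⊔ M, inferInstance, ?_, H, M, rfl, hbot, fun s hs x hx => ?_, core_mulEquiv hn,
    hscM.isZGroup_of_odd (hcardM ▸ hodd), ?_⟩
  · rw [hsup]
    have h0 : (H ⊔ C).index ≠ 0 := Subgroup.index_ne_zero_of_finite
    omega
  · exact Subgroup.mem_centralizer_iff.1 (hMC hx) s hs
  · have hp : ∀ p : ℕ, p.Prime → p = 2 ∨ p = 3 ∨ p = 5 → Nat.Coprime (Nat.card M) p := by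
      intro p hp h235
      rw [Nat.coprime_comm, hp.coprime_iff_not_dvd]
      intro hd
      rcases h235 with rfl | rfl | rfl
      · exact hodd (hcardM ▸ hd)
      all_goals
        have := Fact.mk hp
        obtain ⟨x, hx⟩ := exists_prime_orderOf_dvd_card' (G := M) _ hd
        have hno := orderOf_ne_of_centralizer hn (hMC x.2)
        rw [Subgroup.orderOf_coe, hx] at hno
        simp at hno
    have e30 : (30 : ℕ) = 2 * 3 * 5 := by norm_num
    rw [e30]
    exact ((hp 2 Nat.prime_two (Or.inl rfl)).mul_right (hp 3 Nat.prime_three (Or.inr (Or.inl rfl)))).mul_right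
      (hp 5 (by norm_num) (Or.inr (Or.inr rfl)))

end Cfsg.Agent.Frobenius.FPFRep
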