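import Mathlib
import Cfsg.Agent.EqLemmas

/-!
Group theory around the five types of Frobenius complements.

Main results (namespace `Cfsg.Agent.Frobenius.Five`):
* `eq_of_commuting_involutions` : no four-group in a Z-group
* `normal_eq_bot_A4`, `_S4`, `_A5`, `_S5` : no non-trivial normal Z-subgroup
* `not_isZGroup_dihedral_two`, `quatToFour`
* `isZGroup_comap` : preimages of cyclic subgroups along maps with odd kernel
-/

namespace Cfsg.Agent.Frobenius.Five

theorem eq_of_commuting_involutions {G : Type*} [Group G] [Finite G] [IsZGroup G] {s t : G}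
    (hs : orderOf s = 2) (ht : orderOf t = 2) (hc : Commute s t) : s = t := by
  classical
  have := Fact.mk Nat.prime_two
  have hs2 : s * s = 1 := by rw [← sq, ← hs, pow_orderOf_eq_one]
  have ht2 : t * t = 1 := by rw [← sq, ← ht, pow_orderOf_eq_one]
  let V : Subgroup G := Subgroup.closure {s, t}
  have hcomm : ∀ x ∈ ({s, t} : Set G), ∀ y ∈ ({s, t} : Set G), x * y = y * x := by
    rintro x (rfl | rfl) y (rfl | rfl)
    · rfl
    · exact hc
    · exact hc.symm
    · rfl
  have hsq : ∀ x ∈ V, x * x = 1 := by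
    intro x hx
    induction hx using Subgroup.closure_induction with
    | mem x hx => rcases hx with rfl | rfl <;> assumption
    | one => exact one_mul _
    | mul x y hx hy ihx ihy =>
      have : Commute x y := by
        have h := Subgroup.isMulCommutative_closure hcomm
        exact congrArg Subtype.val (h.is_comm.comm (⟨x, hx⟩ : V) ⟨y, hy⟩)
      rw [mul_assoc, ← mul_assoc y x, ← this.eq, mul_assoc x y y, ihy, mul_one, ihx]
    | inv x _ ihx => rw [← mul_inv_rev, ihx, inv_one]
  have hV : IsPGroup 2 V := fun x => ⟨1, Subtype.ext (by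
    show (x : G) ^ 2 ^ 1 = 1
    rw [pow_one, sq]; exact hsq x x.2)⟩
  obtain ⟨P, hP⟩ := hV.exists_le_sylow
  have hsV : s ∈ (P : Subgroup G) := hP (Subgroup.subset_closure (by simp))
  have htV : t ∈ (P : Subgroup G) := hP (Subgroup.subset_closure (by simp))
  set u : (P : Subgroup G) := ⟨s, hsV⟩ with hu
  set v : (P : Subgroup G) := ⟨t, htV⟩ with hv
  have huo : orderOf u = 2 := by rw [← Subgroup.orderOf_coe]; exact hs
  have hvo : orderOf v = 2 := by rw [← Subgroup.orderOf_coe]; exact ht
  have := Fintype.ofFinite (P : Subgroup G)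
  have hd : 2 ∣ Fintype.card (P : Subgroup G) := huo.symm.dvd.trans orderOf_dvd_card
  have h := IsCyclic.card_orderOf_eq_totient (α := (P : Subgroup G)) hd
  rw [show Nat.totient 2 = 1 from rfl] at h
  exact congrArg Subtype.val (Finset.card_le_one.1 h.le u (by simpa using huo) v (by simpa using hvo))

/-- A group with a pair of commuting distinct involutions in every non-trivial normal subgroup has
no non-trivial normal Z-subgroup. -/
theorem normal_eq_bot {Q : Type*} [Group Q] [Finite Q]
    (h : ∀ g : Q, g ≠ 1 → ∃ x : Q, g * g * (x * g * x⁻¹) ≠ 1 ∧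
      g * g * (x * g * x⁻¹) * (g * g * (x * g * x⁻¹)) = 1 ∧
      ∃ y : Q, y * (g * g * (x * g * x⁻¹)) * y⁻¹ ≠ g * g * (x * g * x⁻¹) ∧
        Commute (y * (g * g * (x * g * x⁻¹)) * y⁻¹) (g * g * (x * g * x⁻¹)))
    (K : Subgroup Q) [hK : K.Normal] [IsZGroup K] : K = ⊥ := by
  have := Fact.mk Nat.prime_two
  rw [Subgroup.eq_bot_iff_forall]
  intro g hg
  by_contra hg1
  obtain ⟨x, h1, h2, y, hy1, hy2⟩ := h g hg1
  set t := g * g * (x * g * x⁻¹) with ht
  have htK : t ∈ K := mul_mem (mul_mem hg hg) (hK.conj_mem _ hg x)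
  have hto : orderOf t = 2 := orderOf_eq_prime (by rw [sq, h2]) h1
  have e := eq_of_commuting_involutions (s := (⟨_, hK.conj_mem t htK y⟩ : K)) (t := ⟨t, htK⟩)
    (by rw [← Subgroup.orderOf_coe]; show orderOf (y * t * y⁻¹) = 2
        rw [← MulAut.conj_apply, MulEquiv.orderOf_eq, hto])
    (by rw [← Subgroup.orderOf_coe]; exact hto)
    (Subtype.ext hy2)
  exact hy1 (congrArg Subtype.val e)

theorem normal_eq_bot_A4 (K : Subgroup (alternatingGroup (Fin 4))) [K.Normal] [IsZGroup K] :
    K = ⊥ :=
  normal_eq_bot (by unfold Commute SemiconjBy; decide +kernel) K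

theorem normal_eq_bot_S4 (K : Subgroup (Equiv.Perm (Fin 4))) [K.Normal] [IsZGroup K] : K = ⊥ :=
  normal_eq_bot (by unfold Commute SemiconjBy; decide +kernel) K

theorem normal_eq_bot_A5 (K : Subgroup (alternatingGroup (Fin 5))) [K.Normal] [IsZGroup K] :
    K = ⊥ :=
  normal_eq_bot (by unfold Commute SemiconjBy; decide +kernel) K

theorem normal_eq_bot_S5 (K : Subgroup (Equiv.Perm (Fin 5))) [K.Normal] [IsZGroup K] : K = ⊥ :=
  normal_eq_bot (by unfold Commute SemiconjBy; decide +kernel) K

theorem not_isZGroup_dihedral_two : ¬ IsZGroup (DihedralGroup 2) := fun _ => by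
  have e : (DihedralGroup.sr 0 : DihedralGroup 2) = DihedralGroup.r 1 :=
    eq_of_commuting_involutions (orderOf_eq_prime (by decide) (by decide))
      (orderOf_eq_prime (by decide) (by decide)) (show _ * _ = _ * _ by decide)
  exact absurd e (by decide)

/-- The reduction of a quaternion group onto the four-group. -/
def quatToFour (m : ℕ) (hm : 2 ∣ m) : QuaternionGroup m →* DihedralGroup 2 where
  toFun x := match x with
    | .a i => .r (ZMod.castHom (dvd_mul_right 2 m) (ZMod 2) i)
    | .xa i => .sr (ZMod.castHom (dvd_mul_right 2 m) (ZMod 2) i)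
  map_one' := by
    rw [QuaternionGroup.one_def, DihedralGroup.one_def]
    simp
  map_mul' := by
    have hm0 : (m : ZMod 2) = 0 := (ZMod.natCast_eq_zero_iff m 2).2 hm
    rintro (i | i) (j | j) <;> simp [QuaternionGroup.a_mul_a, QuaternionGroup.a_mul_xa,
      QuaternionGroup.xa_mul_a, QuaternionGroup.xa_mul_xa, map_add, map_sub, map_natCast, hm0,
      -ZMod.castHom_apply]

theorem quatToFour_surjective (m : ℕ) (hm : 2 ∣ m) : Function.Surjective (quatToFour m hm) := by
  rintro (i | i)
  · obtain ⟨j, hj⟩ := ZMod.castHom_surjective (dvd_mul_right 2 m) i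
    exact ⟨.a j, congrArg DihedralGroup.r hj⟩
  · obtain ⟨j, hj⟩ := ZMod.castHom_surjective (dvd_mul_right 2 m) i
    exact ⟨.xa j, congrArg DihedralGroup.sr hj⟩

theorem quatToFour_ker_isCyclic (m : ℕ) [NeZero m] (hm : 2 ∣ m) : IsCyclic (quatToFour m hm).ker := by
  have hle : (quatToFour m hm).ker ≤ Subgroup.zpowers (QuaternionGroup.a 1) := by
    rintro (i | i) hi
    · refine ⟨(i.val : ℤ), ?_⟩
      show QuaternionGroup.a 1 ^ (i.val : ℤ) = QuaternionGroup.a i
      rw [zpow_natCast, QuaternionGroup.a_one_pow, ZMod.natCast_zmod_val]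
    · have h := MonoidHom.mem_ker.1 hi
      simp only [quatToFour, MonoidHom.coe_mk, OneHom.coe_mk, DihedralGroup.one_def] at h
      exact absurd h (fun e => nomatch e)
  exact isCyclic_of_injective (Subgroup.inclusion hle) (Subgroup.inclusion_injective hle)

/-- Preimages of cyclic subgroups are Z-groups if the kernel is odd and odd Sylow subgroups are
cyclic. -/
theorem isZGroup_comap {G Q : Type*} [Group G] [Finite G] [Group Q] (π : G →* Q)
    (hker : ¬ 2 ∣ Nat.card π.ker) (K : Subgroup Q) [IsCyclic K]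
    (hodd : ∀ p : ℕ, [Fact p.Prime] → p ≠ 2 → ∀ P : Sylow p (K.comap π), IsCyclic P) :
    IsZGroup (K.comap π) := by
  rw [isZGroup_iff]
  intro p hp P
  have := Fact.mk hp
  by_cases hp2 : p = 2
  · subst hp2
    let β : (P : Subgroup (K.comap π)) →* K :=
      ((π.comp (K.comap π).subtype).comp (P : Subgroup (K.comap π)).subtype).codRestrict K
        (fun x => (x : K.comap π).2)
    refine isCyclic_of_injective β ((injective_iff_map_eq_one β).mpr fun x hx => ?_)
    have h2 : ((x : K.comap π) : G) ∈ π.ker := congrArg Subtype.val hx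
    obtain ⟨k, hk⟩ := P.isPGroup' x
    have h3 : orderOf ((x : K.comap π) : G) ∣ 2 ^ k :=
      orderOf_dvd_of_pow_eq_one (by rw [← Subgroup.coe_pow, ← Subgroup.coe_pow, hk]; rfl)
    obtain ⟨j, -, hj⟩ := (Nat.dvd_prime_pow Nat.prime_two).1 h3
    cases j with
    | zero => exact Subtype.ext (Subtype.ext (orderOf_eq_one_iff.1 (by simpa using hj)))
    | succ j =>
      exfalso
      refine hker ((dvd_trans (dvd_pow_self 2 j.succ_ne_zero) (hj ▸ dvd_rfl)).trans
        (Subgroup.orderOf_dvd_natCard _ h2))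
  · exact hodd p hp2 P

end Cfsg.Agent.Frobenius.Five
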