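import Cfsg.Agent.S3358
import Cfsg.Agent.S3374
import Cfsg.Agent.Lib.Frobenius.FiveTypes
import Cfsg.Agent.Lib.Frobenius.ZassMain
import Cfsg.Agent.Lib.Frobenius.SolvableCriterion

/-!
The normal Z-subgroup with quotient of one of the five types.

Main results (namespace `Cfsg.Agent.Frobenius.Five`):
* `Typ` : the five types (and the trivial one)
* `typ_unique`, `exists_of_solvable`, `exists_of_not_solvable`
-/

namespace Cfsg.Agent.Frobenius.Five

open scoped Pointwise

/-- `G ⧸ N` is trivial or one of the five groups. -/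
def Typ (G : Type*) [Group G] (N : Subgroup G) : Prop :=
  N = ⊤ ∨ (∃ f : G →* DihedralGroup 2, Function.Surjective f ∧ f.ker = N) ∨
    (∃ f : G →* alternatingGroup (Fin 4), Function.Surjective f ∧ f.ker = N) ∨
    (∃ f : G →* Equiv.Perm (Fin 4), Function.Surjective f ∧ f.ker = N) ∨
    (∃ f : G →* alternatingGroup (Fin 5), Function.Surjective f ∧ f.ker = N) ∨
    (∃ f : G →* Equiv.Perm (Fin 5), Function.Surjective f ∧ f.ker = N)

variable {G : Type*} [Group G] [Finite G]

theorem index_ker_eq {Q : Type*} [Group Q] (f : G →* Q) (hf : Function.Surjective f) :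
    f.ker.index = Nat.card Q := by
  rw [Subgroup.index_ker, MonoidHom.range_eq_top.2 hf, Subgroup.card_top]

theorem le_ker_of_big {Q : Type*} [Group Q] (f : G →* Q) (hf : Function.Surjective f)
    (hQ : ∀ (K : Subgroup Q) [K.Normal] [IsZGroup K], K = ⊥) (M : Subgroup G) [M.Normal]
    (hM : IsZGroup M) : M ≤ f.ker := by
  have := hM
  have : (M.map f).Normal := Subgroup.Normal.map inferInstance f hf
  have : IsZGroup (M.map f) := IsZGroup.of_surjective (f := f.subgroupMap M) (f.subgroupMap_surjective M)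
  exact (Subgroup.map_eq_bot_iff _).1 (hQ _)

/-- Either the quotient is big, or it is trivial or a four-group. -/
theorem typ_cases {N : Subgroup G} (h : Typ G N) :
    ((∀ M : Subgroup G, M.Normal → IsZGroup M → M ≤ N) ∧ 12 ≤ N.index) ∨
      N = ⊤ ∨ ∃ f : G →* DihedralGroup 2, Function.Surjective f ∧ f.ker = N := by
  rcases h with h | h | ⟨f, hf, rfl⟩ | ⟨f, hf, rfl⟩ | ⟨f, hf, rfl⟩ | ⟨f, hf, rfl⟩
  · exact Or.inr (Or.inl h)
  · exact Or.inr (Or.inr h)
  · refine Or.inl ⟨fun M _ hM => le_ker_of_big f hf (fun K _ _ => normal_eq_bot_A4 K) M hM, ?_⟩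
    rw [index_ker_eq f hf, nat_card_alternatingGroup, Nat.card_fin]
    decide
  · refine Or.inl ⟨fun M _ hM => le_ker_of_big f hf (fun K _ _ => normal_eq_bot_S4 K) M hM, ?_⟩
    rw [index_ker_eq f hf, Nat.card_perm, Nat.card_fin]
    decide
  · refine Or.inl ⟨fun M _ hM => le_ker_of_big f hf (fun K _ _ => normal_eq_bot_A5 K) M hM, ?_⟩
    rw [index_ker_eq f hf, nat_card_alternatingGroup, Nat.card_fin]
    decide
  · refine Or.inl ⟨fun M _ hM => le_ker_of_big f hf (fun K _ _ => normal_eq_bot_S5 K) M hM, ?_⟩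
    rw [index_ker_eq f hf, Nat.card_perm, Nat.card_fin]
    decide

theorem typ_unique (h : SmallCyclic G) {N M : Subgroup G} [N.Normal] [M.Normal] (hN : IsZGroup N)
    (hM : IsZGroup M) (hNt : Typ G N) (hMt : Typ G M) : N = M := by
  have hsmall : ∀ {K : Subgroup G}, (K = ⊤ ∨ ∃ f : G →* DihedralGroup 2, Function.Surjective f ∧ f.ker = K) →
      K.index ≤ 4 := by
    rintro K (rfl | ⟨f, hf, rfl⟩)
    · simp
    · rw [index_ker_eq f hf, DihedralGroup.nat_card]
  rcases typ_cases hNt with ⟨hNb, hNi⟩ | hNs <;> rcases typ_cases hMt with ⟨hMb, hMi⟩ | hMs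
  · exact le_antisymm (hMb N inferInstance hN) (hNb M inferInstance hM)
  · have := Nat.le_of_dvd (Nat.pos_of_ne_zero Subgroup.index_ne_zero_of_finite)
      (Subgroup.index_dvd_of_le (hNb M inferInstance hM))
    have := hsmall hMs
    omega
  · have := Nat.le_of_dvd (Nat.pos_of_ne_zero Subgroup.index_ne_zero_of_finite)
      (Subgroup.index_dvd_of_le (hMb N inferInstance hN))
    have := hsmall hNs
    omega
  have htop : ∀ {K : Subgroup G}, IsZGroup K → K = ⊤ →
      ∀ f : G →* DihedralGroup 2, Function.Surjective f → False := by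
    intro K hK hKt f hf
    subst hKt
    exact not_isZGroup_dihedral_two (IsZGroup.of_surjective (f := f.comp (⊤ : Subgroup G).subtype)
      fun y => by obtain ⟨x, hx⟩ := hf y; exact ⟨⟨x, trivial⟩, hx⟩)
  rcases hNs with rfl | ⟨f, hf, rfl⟩ <;> rcases hMs with rfl | ⟨g, hg, rfl⟩
  · rfl
  · exact (htop hN rfl g hg).elim
  · exact (htop hM rfl f hf).elim
  -- the common refinement has at most four cosets
  have := Fact.mk Nat.prime_two
  set q := f.prod g with hq
  have h4 : Nat.card q.range ≤ 4 := by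
    have hD : (∀ u v : DihedralGroup 2, u * v = v * u) ∧ (∀ u : DihedralGroup 2, u ^ 2 = 1) :=
      ⟨by decide, by decide⟩
    have hp : IsPGroup 2 q.range := fun x => ⟨1, Subtype.ext (Prod.ext (hD.2 _) (hD.2 _))⟩
    obtain ⟨P⟩ : Nonempty (Sylow 2 G) := inferInstance
    obtain ⟨a, b, hab⟩ := h.two_generated P.isPGroup'
    let P' := P.mapSurjective q.rangeRestrict_surjective
    have htopP : (P : Subgroup G).map q.rangeRestrict = ⊤ := by
      have h1 := P'.is_maximal' (hp.to_subgroup ⊤) le_top
      rw [← Sylow.coe_mapSurjective q.rangeRestrict_surjective P]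
      exact h1.symm
    have hsurj : Function.Surjective (q.rangeRestrict.comp (P : Subgroup G).subtype) := by
      intro y
      obtain ⟨x, hx, rfl⟩ : y ∈ (P : Subgroup G).map q.rangeRestrict := htopP ▸ Subgroup.mem_top y
      exact ⟨⟨x, hx⟩, rfl⟩
    refine card_le_four (fun u v => Subtype.ext (Prod.ext (hD.1 _ _) (hD.1 _ _)))
      (fun u => Subtype.ext (Prod.ext (hD.2 _) (hD.2 _)))
      (a := q.rangeRestrict.comp (P : Subgroup G).subtype a)
      (b := q.rangeRestrict.comp (P : Subgroup G).subtype b) ?_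
    rw [← Set.image_pair, ← MonoidHom.map_closure, hab, Subgroup.map_top_of_surjective _ hsurj]
  rw [← Subgroup.index_ker, MonoidHom.ker_prod] at h4
  have key : ∀ {A B : Subgroup G}, (A ⊓ B).index ≤ 4 → A.index = 4 → A ≤ B := by
    intro A B h4 hA
    have h1 := Subgroup.relIndex_mul_index (inf_le_left : A ⊓ B ≤ A)
    rw [hA] at h1
    have h0 : (A ⊓ B).relIndex A ≠ 0 := fun e => Subgroup.index_ne_zero_of_finite (H := A ⊓ B)
      (by rw [← h1, e, zero_mul])
    have h2 : (A ⊓ B).relIndex A = 1 := by omega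
    exact (Subgroup.relIndex_eq_one.1 h2).trans inf_le_right
  have hi : f.ker.index = 4 ∧ g.ker.index = 4 := by
    rw [index_ker_eq f hf, index_ker_eq g hg, DihedralGroup.nat_card]; exact ⟨rfl, rfl⟩
  exact le_antisymm (key h4 hi.1) (key (inf_comm f.ker g.ker ▸ h4) hi.2)

theorem exists_of_solvable [Group.IsSolvable G] (h : SmallCyclic G) :
    ∃ N : Subgroup G, N.Normal ∧ IsZGroup N ∧ Typ G N := by
  haveI := Fact.mk Nat.prime_two
  set π := QuotientGroup.mk' (Cfsg.oddCore G) with hπdef
  have hπs : Function.Surjective π := QuotientGroup.mk'_surjective _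
  have hπk : ¬ 2 ∣ Nat.card π.ker := by
    rw [QuotientGroup.ker_mk']
    intro hd
    exact absurd (Nat.eq_one_of_dvd_coprimes (Cores.coprime_card_pPrimeCore (G := G) 2).symm dvd_rfl hd)
      (by norm_num)
  have hodd : ∀ (K : Subgroup (G ⧸ Cfsg.oddCore G)) (p : ℕ) [Fact p.Prime], p ≠ 2 →
      ∀ P : Sylow p (K.comap π), IsCyclic P := fun K p _ hp P =>
    (h.of_injective (K.comap π).subtype_injective).isCyclic_sylow hp P
  have hZ : ∀ (K : Subgroup (G ⧸ Cfsg.oddCore G)), IsCyclic K → IsZGroup (K.comap π) :=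
    fun K _ => isZGroup_comap π hπk K (hodd K)
  by_cases hp : IsPGroup 2 (⊤ : Subgroup (G ⧸ Cfsg.oddCore G))
  · rcases S3358.two_subgroup_cases h ⊤ hp with hc | ⟨n, ⟨e⟩⟩
    · refine ⟨(⊤ : Subgroup (G ⧸ Cfsg.oddCore G)).comap π, inferInstance, hZ _ hc, Or.inl ?_⟩
      exact Subgroup.comap_top π
    let e' := Subgroup.topEquiv.symm.trans e
    rcases n with _ | n
    · haveI : IsCyclic (QuaternionGroup (2 ^ 0)) := by
        rw [pow_zero]; exact QuaternionGroup.quaternionGroup_one_isCyclic
      have hc : IsCyclic (⊤ : Subgroup (G ⧸ Cfsg.oddCore G)) := isCyclic_of_surjective e.symm e.symm.surjective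
      refine ⟨(⊤ : Subgroup (G ⧸ Cfsg.oddCore G)).comap π, inferInstance, hZ _ hc, Or.inl ?_⟩
      exact Subgroup.comap_top π
    · let q := quatToFour (2 ^ (n + 1)) (dvd_pow_self 2 n.succ_ne_zero)
      haveI : NeZero (2 ^ (n + 1)) := ⟨pow_ne_zero _ two_ne_zero⟩
      let f := q.comp e'.toMonoidHom
      have hcyc : IsCyclic f.ker := by
        have := quatToFour_ker_isCyclic (2 ^ (n + 1)) (dvd_pow_self 2 n.succ_ne_zero)
        exact isCyclic_of_injective ((e'.toMonoidHom.comp f.ker.subtype).codRestrict q.ker fun x => x.2)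
          (fun x y hxy => Subtype.ext (e'.injective (congrArg Subtype.val hxy)))
      refine ⟨(f.comp π).ker, inferInstance, ?_, Or.inr (Or.inl ⟨f.comp π, ?_, rfl⟩)⟩
      · rw [← MonoidHom.comap_ker]; exact hZ _ hcyc
      · exact ((quatToFour_surjective (2 ^ (n + 1)) (dvd_pow_self 2 n.succ_ne_zero)).comp e'.surjective).comp hπs
  set Q := Cfsg.pCore 2 (G ⧸ Cfsg.oddCore G) with hQdef
  have hQp : IsPGroup 2 Q := Cores.isPGroup_pCore 2 _
  have hCQ : Subgroup.centralizer (Q : Set (G ⧸ Cfsg.oddCore G)) ≤ Q :=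
    SylowLift.centralizer_pCore_le_of_solvable (Cores.pPrimeCore_quotient_self (G := G) 2)
  haveI : Q.Normal := Cores.pCore_normal 2 _
  have hker : ∀ g, (MulAut.conjNormal : _ →* MulAut Q) g = 1 → g ∈ Subgroup.centralizer (Q : Set _) := by
    intro g hg
    rw [Subgroup.mem_centralizer_iff]
    intro c hc
    have := congrArg Subtype.val (DFunLike.congr_fun hg (⟨c, hc⟩ : Q))
    simp only [MulAut.conjNormal_apply, MulAut.one_apply] at this
    exact (mul_inv_eq_iff_eq_mul.mp this).symm
  have htwo : ¬ IsPGroup 2 (MulAut Q) := fun h2 => hp (by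
    have := (h2.to_subgroup ⊤).comap_of_ker_isPGroup (MulAut.conjNormal : _ →* MulAut Q)
      (hQp.to_le fun x hx => hCQ (hker x hx))
    rwa [Subgroup.comap_top] at this)
  obtain ⟨e⟩ : Nonempty (Q ≃* QuaternionGroup 2) := by
    rcases S3358.two_subgroup_cases h Q hQp with hc | ⟨n, ⟨e⟩⟩
    · exact absurd (SylowLift.isPGroup_mulAut_of_isCyclic hQp) htwo
    rcases n with _ | _ | n
    · haveI : IsCyclic (QuaternionGroup (2 ^ 0)) := by
        rw [pow_zero]; exact QuaternionGroup.quaternionGroup_one_isCyclic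
      haveI : IsCyclic Q := isCyclic_of_surjective e.symm e.symm.surjective
      exact absurd (SylowLift.isPGroup_mulAut_of_isCyclic hQp) htwo
    · exact ⟨e⟩
    · exact absurd ((S5112.aut_quaternion (n + 1 + 1) (by omega)).of_equiv (MulAut.congr e).symm) htwo
  obtain ⟨s⟩ := S3742.result
  let α : (G ⧸ Cfsg.oddCore G) →* Equiv.Perm (Fin 4) :=
    ((MulAut.congr e).trans s).toMonoidHom.comp (MulAut.conjNormal : _ →* MulAut Q)
  have hk : ∀ g, g ∈ α.ker → g ∈ Subgroup.centralizer (Q : Set _) := fun g hg =>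
    hker g (((MulAut.congr e).trans s).injective ((MonoidHom.mem_ker.mp hg).trans (map_one _).symm))
  let β : α.ker →* Subgroup.center (QuaternionGroup 2) :=
    ((e.toMonoidHom).comp ((α.ker.subtype).codRestrict Q fun g => hCQ (hk g g.2))).codRestrict _ fun g => by
      rw [Subgroup.mem_center_iff]
      intro w
      obtain ⟨v, rfl⟩ := e.surjective w
      exact (map_mul e _ _).symm.trans ((congrArg e (Subtype.ext
        (Subgroup.mem_centralizer_iff.mp (hk g g.2) v v.2))).trans (map_mul e _ _))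
  have hβ : Function.Injective β := fun x y hxy => by
    have := congrArg Subtype.val (e.injective (congrArg Subtype.val hxy))
    exact Subtype.ext this
  have hk2 : Nat.card α.ker ≤ 2 :=
    (Nat.card_le_card_of_injective β hβ).trans S3358.center_q8_card.le
  have hkc : IsCyclic α.ker := by
    haveI : IsCyclic (Subgroup.center (QuaternionGroup 2)) := isCyclic_of_prime_card S3358.center_q8_card
    exact isCyclic_of_injective β hβ
  have hmul := Subgroup.card_mul_index α.ker
  rw [Subgroup.index_ker] at hmul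
  have h8 : 8 ∣ Nat.card (G ⧸ Cfsg.oddCore G) := by
    have := Subgroup.card_subgroup_dvd_card Q
    rwa [Nat.card_congr e.toEquiv, Nat.card_eq_fintype_card, QuaternionGroup.card] at this
  have h24 : Nat.card α.range ∣ 24 := by
    have := Subgroup.card_subgroup_dvd_card α.range
    rwa [Nat.card_perm, Nat.card_fin] at this
  have hnp : ∀ k : ℕ, Nat.card (G ⧸ Cfsg.oddCore G) ≠ 2 ^ k := fun k hk' =>
    hp ((IsPGroup.of_card hk').to_subgroup ⊤)
  have hk0 : 0 < Nat.card α.ker := Nat.card_pos
  have hr : Nat.card α.range = 24 ∨ Nat.card α.range = 12 := by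
    have hd : Nat.card α.range ∈ Nat.divisors 24 := Nat.mem_divisors.2 ⟨h24, by norm_num⟩
    rw [show Nat.divisors 24 = {1, 2, 3, 4, 6, 8, 12, 24} by decide] at hd
    simp only [Finset.mem_insert, Finset.mem_singleton] at hd
    have := hnp 3; have := hnp 4
    rcases hd with e1 | e1 | e1 | e1 | e1 | e1 | e1 | e1 <;> rw [e1] at hmul <;> omega
  rcases hr with hr | hr
  · refine ⟨(α.comp π).ker, inferInstance, ?_, Or.inr (Or.inr (Or.inr (Or.inl ⟨α.comp π, ?_, rfl⟩)))⟩
    · rw [← MonoidHom.comap_ker]; exact hZ _ hkc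
    · have : α.range = ⊤ := Subgroup.eq_top_of_card_eq _ (by rw [hr, Nat.card_perm, Nat.card_fin]; rfl)
      exact (MonoidHom.range_eq_top.1 this).comp hπs
  · have hA : α.range = alternatingGroup (Fin 4) := by
      refine Equiv.Perm.eq_alternatingGroup_of_index_eq_two ?_
      have := Subgroup.card_mul_index α.range
      rw [hr, Nat.card_perm, Nat.card_fin, show Nat.factorial 4 = 24 from rfl] at this
      omega
    let f := (α.comp π).codRestrict (alternatingGroup (Fin 4)) fun g => hA ▸ ⟨π g, rfl⟩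
    refine ⟨f.ker, inferInstance, ?_, Or.inr (Or.inr (Or.inl ⟨f, ?_, rfl⟩))⟩
    · rw [MonoidHom.ker_codRestrict, ← MonoidHom.comap_ker]; exact hZ _ hkc
    · rintro ⟨y, hy⟩
      rw [← hA] at hy
      obtain ⟨x, rfl⟩ := hy
      obtain ⟨g, rfl⟩ := hπs x
      exact ⟨g, rfl⟩

end Cfsg.Agent.Frobenius.Five

namespace Cfsg.Agent.Frobenius.FPFRep

open scoped Pointwise

variable {G : Type*} [Group G] [Fintype G] {ρ : FPFRep G} {i a c₀ : G}

theorem Frame.a_mem_normalizer_quat (hf : ρ.Frame i a) :
    a ∈ Subgroup.normalizer (quat hf : Set G) := by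
  rw [Subgroup.mem_normalizer_iff_map_conj_eq]
  refine Subgroup.eq_of_le_of_card_ge ?_
    (Subgroup.card_map_of_injective (MulEquiv.injective (MulAut.conj a))).ge
  rw [quat_eq_closure hf, MonoidHom.map_closure, Subgroup.closure_le, ← quat_eq_closure hf]
  rintro _ ⟨y, (rfl | rfl), rfl⟩
  · exact j_mem_quat hf
  · show ρ.R (a * fj i a * a⁻¹) ∈ eight hf
    have q := hf.pair
    rw [map_mul, map_mul, hf.R_a, hf.R_a_inv]
    have : (1 / 2 : ℝ) • (-(ρ.R i + ρ.R (fj i a) + ρ.R i * ρ.R (fj i a)) - 1) * ρ.R (fj i a) *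
        (1 / 2 : ℝ) • (ρ.R i + ρ.R (fj i a) + ρ.R i * ρ.R (fj i a) - 1) =
          ρ.R i * ρ.R (fj i a) := by
      simp only [smul_mul_assoc, mul_smul_comm, mul_sub, sub_mul, mul_neg, neg_mul, mul_add,
        add_mul, mul_assoc, mul_one, one_mul, smul_add, smul_sub, smul_neg, neg_neg,
        q.II, q.II', q.JJ, q.JI, q.JI']
      module
    rw [this]
    simp [eight]

/-- `SL(2,5)` is perfect. -/
theorem commutator_sl25 : commutator (Matrix.SpecialLinearGroup (Fin 2) (ZMod 5)) = ⊤ := by
  refine eq_top_iff.2 fun x _ => ?_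
  have hu : ∀ (g h : Matrix.SpecialLinearGroup (Fin 2) (ZMod 5)),
      g * h * g⁻¹ * h⁻¹ ∈ commutator (Matrix.SpecialLinearGroup (Fin 2) (ZMod 5)) := fun g h =>
    commutator_eq_closure (G := Matrix.SpecialLinearGroup (Fin 2) (ZMod 5)) ▸
      Subgroup.subset_closure ⟨g, h, rfl⟩
  have hev : ∀ l : List Bool, ∃ y ∈ commutator (Matrix.SpecialLinearGroup (Fin 2) (ZMod 5)),
      S3374.quad y = S3374.ev (1, 1, 0, 1) (0, 4, 1, 0) l := by
    intro l
    induction l with
    | nil => exact ⟨1, one_mem _, S3374.quad_one⟩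
    | cons b l ih =>
      obtain ⟨y, hy, hyq⟩ := ih
      cases b
      · refine ⟨_, mul_mem (hu ⟨!![1, 3; 0, 1], by decide⟩ ⟨!![2, 0; 0, 3], by decide⟩) hy, ?_⟩
        rw [S3374.quad_mul, hyq]
        show S3374.mmul _ _ = S3374.mmul (1, 1, 0, 1) _
        congr 1
      · refine ⟨_, mul_mem (hu ⟨!![0, 2; 2, 0], by decide⟩ ⟨!![1, 1; 2, 3], by decide⟩) hy, ?_⟩
        rw [S3374.quad_mul, hyq]
        show S3374.mmul _ _ = S3374.mmul (0, 4, 1, 0) _
        congr 1
  obtain ⟨y, hy, hyq⟩ := hev (S3374.word (S3374.quad x))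
  rw [(S3374.emb_checks _ _ _ _ (S3374.quad_det x)).1] at hyq
  have hxy : y = x := by
    simp only [S3374.quad, Prod.mk.injEq] at hyq
    obtain ⟨h1, h2, h3, h4⟩ := hyq
    ext p q
    fin_cases p <;> fin_cases q <;> assumption
  exact hxy ▸ hy

theorem exists_five (hns : ¬ Group.IsSolvable G) (ρ : FPFRep G) :
    ∃ N : Subgroup G, N.Normal ∧ IsZGroup N ∧ Five.Typ G N := by
  classical
  have := Fact.mk Nat.prime_two
  obtain ⟨i, a, c₀, hf, D, hn⟩ := ρ.exists_core hns
  have hN := core_normal hn
  have hiH := (frame_mem_core (i := i) (a := a) (c₀ := c₀)).1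
  have haH := (frame_mem_core (i := i) (a := a) (c₀ := c₀)).2.1
  have hjH := (frame_mem_core (i := i) (a := a) (c₀ := c₀)).2.2
  have hH120 := card_core hn
  obtain ⟨eH⟩ := core_mulEquiv hn
  set H := Subgroup.closure ({i, a, c₀} : Set G) with hH
  have hperf : commutator H = ⊤ := by
    have := congrArg (Subgroup.map eH.symm.toMonoidHom) commutator_sl25
    rwa [commutator_def, Subgroup.map_commutator, Subgroup.map_top_of_surjective _ eH.symm.surjective,
      ← commutator_def] at this
  have hntH : Nontrivial H := Finite.one_lt_card_iff_nontrivial.1 (by rw [hH120]; norm_num)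
  have hsolH : ¬ Group.IsSolvable H := fun _ =>
    absurd hperf (IsSolvable.commutator_lt_top_of_nontrivial (G := H)).ne
  have hQH : quat hf ≤ H := by
    rw [quat_eq_closure hf, Subgroup.closure_le]
    rintro x (rfl | rfl)
    · exact hiH
    · exact hjH
  set Q := (quat hf).subgroupOf H with hQ
  have hQc : Nat.card Q = 8 :=
    (Nat.card_congr (Subgroup.subgroupOfEquivOfLe hQH).toEquiv).trans (card_quat hf hn)
  have hQn : ¬ Q.Normal := by
    intro _
    have := Fact.mk (show Nat.Prime 3 by norm_num)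
    have hq : Nat.card (H ⧸ Q) = 15 := by
      have := Subgroup.card_eq_card_quotient_mul_card_subgroup Q
      rw [hQc, hH120] at this; omega
    have hz15 : IsZGroup (H ⧸ Q) := IsZGroup.of_squarefree (by
      rw [hq, show (15 : ℕ) = 3 * 5 by norm_num]
      exact (Nat.squarefree_mul_iff.2 ⟨by norm_num, Nat.prime_three.squarefree, (by norm_num : Nat.Prime 5).squarefree⟩))
    have : Group.IsSolvable Q := by
      have : Group.IsNilpotent Q := (IsPGroup.of_card (n := 3) (p := 2) hQc).isNilpotent
      infer_instance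
    have : Group.IsSolvable (H ⧸ Q) := inferInstance
    exact hsolH (Group.isSolvable_of_ker_le_range Q.subtype (QuotientGroup.mk' Q) (by simp))
  have hP8 : Nat.card Q = 2 ^ (Nat.card H).factorization 2 := by
    rw [hQc, hH120, show (120 : ℕ) = 2 ^ 3 * 15 by norm_num,
        Nat.factorization_mul (by norm_num) (by norm_num), Finsupp.coe_add, Pi.add_apply,
        Nat.Prime.factorization_pow Nat.prime_two, Finsupp.single_eq_same,
        Nat.factorization_eq_zero_of_not_dvd (by norm_num)]
    norm_num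
  set P : Sylow 2 H := Sylow.ofCard Q hP8 with hPdef
  -- five Sylow 2-subgroups
  have h5 : Nat.card (Sylow 2 H) = 5 := by
    rw [P.card_eq_index_normalizer]
    set M := Subgroup.normalizer ((P : Subgroup H) : Set H) with hM
    have hQM : Q ≤ M := by
      rw [hM, hPdef, Sylow.coe_ofCard]; exact Subgroup.le_normalizer
    have haM : (⟨a, haH⟩ : H) ∈ M := by
      rw [hM, hPdef, Sylow.coe_ofCard, Subgroup.mem_normalizer_iff]
      intro x
      simp only [hQ, Subgroup.mem_subgroupOf]
      exact (Subgroup.mem_normalizer_iff.1 hf.a_mem_normalizer_quat) x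
    have h8 : 8 ∣ Nat.card M := hQc ▸ Subgroup.card_dvd_of_le hQM
    have h3 : 3 ∣ Nat.card M := by
      have := Subgroup.orderOf_dvd_natCard M haM
      rwa [Subgroup.orderOf_mk, hf.ha] at this
    have h120 := Subgroup.card_mul_index M
    rw [hH120] at h120
    have hd : Nat.card M ∣ 120 := h120 ▸ dvd_mul_right _ _
    have hne : Nat.card M ≠ 120 := fun e => hQn (by
      have : M = ⊤ := Subgroup.eq_top_of_card_eq _ (by rw [e, hH120])
      rw [hM, hPdef, Sylow.coe_ofCard] at this
      exact Subgroup.normalizer_eq_top_iff.1 this)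
    obtain ⟨k, hk⟩ : 24 ∣ Nat.card M := Nat.Coprime.mul_dvd_of_dvd_of_dvd (by norm_num) h8 h3
    have h5 : k * M.index = 5 := by rw [hk, mul_assoc] at h120; omega
    rcases (Nat.dvd_prime (show Nat.Prime 5 by norm_num)).1 (Dvd.intro _ h5) with e | e
    · rw [e, one_mul] at h5; exact h5
    · rw [e] at hk; omega
  let F : G →* Equiv.Perm (Sylow 2 H) :=
    (MulAction.toPermHom (MulAut H) (Sylow 2 H)).comp MulAut.conjNormal
  set K := F.ker with hK
  have hfix : ∀ k ∈ K, ∀ (S : Sylow 2 H) (x : H), x ∈ (S : Subgroup H) →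
      MulAut.conjNormal k x ∈ (S : Subgroup H) := by
    intro k hk S x hx
    have h1 : (MulAut.conjNormal k : MulAut H) • S = S := DFunLike.congr_fun (MonoidHom.mem_ker.1 hk) S
    have h2 : (MulAut.conjNormal k : MulAut H) • (S : Subgroup H) = S := congrArg Sylow.toSubgroup h1
    exact h2.le (Subgroup.smul_mem_pointwise_smul x _ _ hx)
  -- elements of `K` inside `H`
  set z := i * i with hz
  have hRz : ρ.R z = -1 := by rw [hz, map_mul, hf.pair.II]
  have hz2 : z * z = 1 := ρ.R_injective (by rw [map_mul, hRz, neg_one_mul, neg_neg, map_one])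
  have hzC : ∀ g : G, g * z = z * g := fun g => ρ.R_injective (by
    rw [map_mul ρ.R g z, map_mul ρ.R z g, hRz, mul_neg_one, neg_one_mul])
  have hno3 : ∀ x ∈ K, x ∈ H → orderOf x ≠ 3 := by
    intro x hxK hxH hx
    have := Fact.mk Nat.prime_three
    have hHK : H ≤ K := by
      rw [hH, core_eq hn, Subgroup.closure_le]
      intro y hy
      have hyH : y ∈ H := mem_core hn hy
      -- the subgroups of order three are conjugate in `H`
      have hs : ∀ (w : H), orderOf w = 3 → ∃ S : Sylow 3 H, Subgroup.zpowers w = S := fun w hw =>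
        ⟨Sylow.ofCard (Subgroup.zpowers w) (by
          rw [Nat.card_zpowers, hw, hH120, show (120 : ℕ) = 3 ^ 1 * 40 by norm_num,
            Nat.factorization_mul (by norm_num) (by norm_num), Finsupp.coe_add, Pi.add_apply,
            Nat.Prime.factorization_pow Nat.prime_three, Finsupp.single_eq_same,
            Nat.factorization_eq_zero_of_not_dvd (by norm_num)]
          norm_num), (Sylow.coe_ofCard _ _).symm⟩
      obtain ⟨S, hS⟩ := hs ⟨x, hxH⟩ (by rw [Subgroup.orderOf_mk, hx])
      obtain ⟨T, hT⟩ := hs ⟨y, hyH⟩ (by rw [Subgroup.orderOf_mk]; exact hy)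
      obtain ⟨g, hg⟩ := MulAction.exists_smul_eq H S T
      have hymem : (⟨y, hyH⟩ : H) ∈ ((g • S : Sylow 3 H) : Subgroup H) := by
        rw [hg, ← hT]; exact Subgroup.mem_zpowers _
      rw [Sylow.coe_subgroup_smul, ← hS] at hymem
      obtain ⟨w, ⟨n, rfl⟩, hw⟩ := hymem
      have hw' : (g : G) * x ^ n * (g : G)⁻¹ = y := by simpa using congrArg Subtype.val hw
      rw [SetLike.mem_coe, ← hw']
      exact (MonoidHom.normal_ker F).conj_mem _ (zpow_mem hxK n) _
    refine hQn ⟨fun q hq g => ?_⟩
    have h1 := hfix (g : G) (hHK g.2) P q (by rw [hPdef, Sylow.coe_ofCard]; exact hq)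
    rw [hPdef, Sylow.coe_ofCard] at h1
    convert h1 using 1
    exact Subtype.ext (by simp)
  have hKH : ∀ x ∈ K, x ∈ H → x = 1 ∨ x = z := by
    intro x hxK hxH
    have hKn : (K.subgroupOf H).Normal := inferInstance
    have hcard : Nat.card (K.subgroupOf H) ∣ 120 := hH120 ▸ Subgroup.card_subgroup_dvd_card _
    have h2 : IsPGroup 2 (K.subgroupOf H) := by
      have h3 : ¬ 3 ∣ Nat.card (K.subgroupOf H) := fun h => by
        have := Fact.mk Nat.prime_three
        obtain ⟨w, hw⟩ := exists_prime_orderOf_dvd_card' 3 h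
        exact hno3 w.1.1 w.2 w.1.2 (by rw [Subgroup.orderOf_coe, Subgroup.orderOf_coe, hw])
      have h5 : ¬ 5 ∣ Nat.card (K.subgroupOf H) := fun h => by
        have := Fact.mk (show Nat.Prime 5 by norm_num)
        obtain ⟨w, hw⟩ := exists_prime_orderOf_dvd_card' 5 h
        -- an element of order five fixing every Sylow 2-subgroup normalizes `Q`
        have hwM : w.1 ∈ Subgroup.normalizer ((P : Subgroup H) : Set H) := by
          rw [Subgroup.mem_normalizer_iff_map_conj_eq]
          refine Subgroup.eq_of_le_of_card_ge ?_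
            (Subgroup.card_map_of_injective (MulEquiv.injective (MulAut.conj w.1))).ge
          rintro _ ⟨q, hq, rfl⟩
          have h1 := hfix (w.1 : G) w.2 P q hq
          convert h1 using 1
          exact Subtype.ext (by simp)
        have := Subgroup.orderOf_dvd_natCard _ hwM
        rw [Subgroup.orderOf_coe, hw] at this
        have h120 := Subgroup.card_mul_index (Subgroup.normalizer ((P : Subgroup H) : Set H))
        rw [show (Subgroup.normalizer ((P : Subgroup H) : Set H)).index = 5 from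
          P.card_eq_index_normalizer.symm.trans ‹Nat.card (Sylow 2 H) = 5›, hH120] at h120
        omega
      have hd := hcard
      have h8 : Nat.card (K.subgroupOf H) ∣ 2 ^ 3 :=
        (((Nat.Prime.coprime_iff_not_dvd Nat.prime_three).2 h3).symm.mul_right
          ((Nat.Prime.coprime_iff_not_dvd (by norm_num : Nat.Prime 5)).2 h5).symm).dvd_of_dvd_mul_right
            (by rw [show (2 : ℕ) ^ 3 * (3 * 5) = 120 by norm_num]; exact hcard)
      obtain ⟨j, -, hj⟩ := (Nat.dvd_prime_pow Nat.prime_two).1 h8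
      exact IsPGroup.of_card hj
    have hKQ : K.subgroupOf H ≤ Q := by
      obtain ⟨S, hS⟩ := h2.exists_le_sylow
      obtain ⟨g, hg⟩ := MulAction.exists_smul_eq H S P
      intro w hw
      have h1 : g⁻¹ * w * g ∈ K.subgroupOf H := by
        simpa using hKn.conj_mem w hw g⁻¹
      have h3 : MulAut.conj g (g⁻¹ * w * g) ∈ ((g • S : Sylow 2 H) : Subgroup H) := by
        rw [Sylow.coe_subgroup_smul]
        exact Subgroup.smul_mem_pointwise_smul _ _ _ (hS h1)
      rw [hg, hPdef, Sylow.coe_ofCard] at h3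
      simpa [mul_assoc] using h3
    by_contra hcon
    push Not at hcon
    have hxQ : x ∈ quat hf := hKQ (show (⟨x, hxH⟩ : H) ∈ K.subgroupOf H from hxK)
    have hconj : ∀ y, y ∈ K → a * y * a⁻¹ ∈ K := fun y hy => (MonoidHom.normal_ker F).conj_mem _ hy a
    have hk : ∀ {y w : G}, y ∈ K → (ρ.R w = ρ.R y ∨ ρ.R w = -ρ.R y) → w ∈ K := by
      intro y w hy hw
      rcases hw with e | e
      · rw [ρ.R_injective e]; exact hy
      · -- `z` is in `K`
        have hzK : z ∈ K := by
          rw [hK, MonoidHom.mem_ker]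
          refine Equiv.ext fun S => ?_
          show ((MulAut.conjNormal z : MulAut H) • S : Sylow 2 H) = S
          have : (MulAut.conjNormal z : MulAut H) = 1 := by
            ext u
            simp only [MulAut.conjNormal_apply, MulAut.one_apply]
            rw [← hzC, mul_inv_cancel_right]
          rw [this, one_smul]
        rw [show w = z * y from ρ.R_injective (by rw [e, map_mul, hRz, neg_one_mul])]
        exact mul_mem hzK hy
    have eA : ρ.R (a * i * a⁻¹) = ρ.R (fj i a) := rfl
    have eJ : ρ.R (a * fj i a * a⁻¹) = ρ.R i * ρ.R (fj i a) := by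
      have q := hf.pair
      rw [map_mul, map_mul, hf.R_a, hf.R_a_inv]
      simp only [smul_mul_assoc, mul_smul_comm, mul_sub, sub_mul, mul_neg, neg_mul, mul_add,
        add_mul, mul_assoc, mul_one, one_mul, smul_add, smul_sub, smul_neg, neg_neg,
        q.II, q.II', q.JJ, q.JI, q.JI']
      module
    have eK : ρ.R (a * (i * fj i a) * a⁻¹) = ρ.R i := by
      rw [show a * (i * fj i a) * a⁻¹ = (a * i * a⁻¹) * (a * fj i a * a⁻¹) by group, map_mul, eA, eJ,
        hf.pair.JI', hf.pair.JJ, mul_neg, mul_one, neg_neg]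
    have hij : i ∈ K ∧ fj i a ∈ K := by
      have hxQ' : ρ.R x ∈ eight hf := hxQ
      simp only [eight, Set.mem_insert_iff, Set.mem_singleton_iff] at hxQ'
      have hfromI : i ∈ K → i ∈ K ∧ fj i a ∈ K := fun h => ⟨h, hconj i h⟩
      have hfromK : ρ.R (i * fj i a) = ρ.R i * ρ.R (fj i a) := map_mul _ _ _
      rcases hxQ' with e | e | e | e | e | e | e | e
      · exact absurd (ρ.R_injective (e.trans (map_one ρ.R).symm)) hcon.1
      · exact absurd (ρ.R_injective (e.trans hRz.symm)) hcon.2
      · exact hfromI (hk hxK (Or.inl e.symm))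
      · exact hfromI (hk hxK (Or.inr (by rw [e, neg_neg])))
      · exact hfromI (hk (hconj _ (hconj _ (hk hxK (w := fj i a) (Or.inl e.symm))))
          (Or.inl (by
            rw [show a * (a * fj i a * a⁻¹) * a⁻¹ = a * (i * fj i a) * a⁻¹ by
              rw [ρ.R_injective (eJ.trans hfromK.symm)], eK])))
      · exact hfromI (hk (hconj _ (hconj _ (hk hxK (w := fj i a) (Or.inr (by rw [e, neg_neg])))))
          (Or.inl (by
            rw [show a * (a * fj i a * a⁻¹) * a⁻¹ = a * (i * fj i a) * a⁻¹ by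
              rw [ρ.R_injective (eJ.trans hfromK.symm)], eK])))
      · exact hfromI (hk (hconj _ (hk hxK (w := i * fj i a) (Or.inl (by rw [hfromK, e]))))
          (Or.inl eK.symm))
      · exact hfromI (hk (hconj _ (hk hxK (w := i * fj i a) (Or.inr (by rw [hfromK, e, neg_neg]))))
          (Or.inl eK.symm))
    have hle : quat hf ≤ K := by
      rw [quat_eq_closure hf, Subgroup.closure_le]
      rintro y (rfl | rfl)
      · exact hij.1
      · exact hij.2
    rw [show Q = K.subgroupOf H from le_antisymm (Subgroup.comap_mono hle) hKQ] at hQn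
    exact hQn hKn
  -- so `K` centralizes `H`
  have hKC : K ≤ Subgroup.centralizer (H : Set G) := by
    intro k hk
    rw [hH, core_eq hn, Subgroup.centralizer_closure, Subgroup.mem_centralizer_iff]
    intro y hy
    have hyH : y ∈ H := mem_core hn hy
    have h1 : k * y * k⁻¹ * y⁻¹ ∈ H := mul_mem (hN.conj_mem y hyH k) (inv_mem hyH)
    have h2 : k * y * k⁻¹ * y⁻¹ ∈ K := by
      have := (MonoidHom.normal_ker F).conj_mem k⁻¹ (inv_mem hk) y
      rw [show k * y * k⁻¹ * y⁻¹ = k * (y * k⁻¹ * y⁻¹) by group]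
      exact mul_mem hk this
    rcases hKH _ h2 h1 with e | e
    · rw [mul_inv_eq_one, mul_inv_eq_iff_eq_mul] at e
      exact e.symm
    · exfalso
      rw [mul_inv_eq_iff_eq_mul] at e
      have h3 : (z * y) ^ 3 = 1 := by
        rw [← e, conj_pow, show y ^ 3 = 1 by rw [← (show orderOf y = 3 from hy), pow_orderOf_eq_one],
          mul_one, mul_inv_cancel]
      rw [(show Commute z y from (hzC y).symm).mul_pow,
        show y ^ 3 = 1 by rw [← (show orderOf y = 3 from hy), pow_orderOf_eq_one], mul_one,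
        pow_succ, sq, hz2, one_mul] at h3
      rw [h3, map_one] at hRz
      exact ρ.one_ne_zero' (by
        have : (2 : ℝ) • (1 : ρ.E) = 0 := by linear_combination (norm := module) hRz
        exact (smul_eq_zero.1 this).resolve_left two_ne_zero)
  -- the kernel is a Z-group
  have hsc : SmallCyclic K := ρ.smallCyclic.of_injective K.subtype_injective
  have hKZ : IsZGroup K := by
    rw [isZGroup_iff]
    intro p hp S
    have := Fact.mk hp
    by_cases hp2 : p = 2
    · subst hp2
      have hel : ∀ u : (S : Subgroup K), ((u : K) : G) = 1 ∨ ((u : K) : G) = z := by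
        intro u
        obtain ⟨k, hk⟩ := IsPGroup.iff_orderOf.1 S.isPGroup' u
        rw [← Subgroup.orderOf_coe, ← Subgroup.orderOf_coe] at hk
        match k, hk with
        | 0, hk => exact Or.inl (orderOf_eq_one_iff.1 (by simpa using hk))
        | 1, hk =>
          right
          have h1 : ((u : K) : G) ≠ 1 := fun e => by simp [e] at hk
          have h2 : ((u : K) : G) * ((u : K) : G) = 1 := by
            rw [← sq]
            exact orderOf_dvd_iff_pow_eq_one.1 (dvd_of_eq (by simpa using hk))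
          exact ρ.R_injective (by rw [ρ.eq_neg_one h1 h2, hRz])
        | k + 2, hk =>
          exfalso
          refine (orderOf_ne_of_centralizer hn
            ((Subgroup.centralizer (H : Set G)).pow_mem (hKC (u : K).2) (2 ^ k))).2.1 ?_
          rw [orderOf_pow_of_dvd (by positivity) (hk ▸ pow_dvd_pow 2 (Nat.le_add_right k 2)), hk,
            Nat.pow_div (Nat.le_add_right k 2) (by norm_num)]
          norm_num
      by_cases hs : ∀ u : (S : Subgroup K), ((u : K) : G) = 1
      · have : Subsingleton (S : Subgroup K) :=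
          ⟨fun u v => Subtype.ext (Subtype.ext ((hs u).trans (hs v).symm))⟩
        exact isCyclic_of_subsingleton
      · push Not at hs
        obtain ⟨u, hu⟩ := hs
        refine ⟨u, fun v => ?_⟩
        rcases hel v with e | e
        · rw [show v = 1 from Subtype.ext (Subtype.ext e)]; exact ⟨0, zpow_zero _⟩
        · rw [show v = u from Subtype.ext (Subtype.ext (e.trans ((hel u).resolve_left hu).symm))]
          exact ⟨1, zpow_one _⟩
    · exact hsc.isCyclic_sylow hp2 S
  -- the image is `A₅` or `S₅`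
  have hKH2 : Nat.card (K.subgroupOf H) ≤ 2 := by
    refine (Nat.card_le_card_of_injective (fun w : K.subgroupOf H => decide ((w.1 : G) = 1)) ?_).trans
      (by simp)
    intro u v e
    simp only [decide_eq_decide] at e
    refine Subtype.ext (Subtype.ext ?_)
    rcases hKH (u.1 : G) u.2 u.1.2 with h1 | h1 <;> rcases hKH (v.1 : G) v.2 v.1.2 with h2 | h2
    · rw [h1, h2]
    · rw [h1, e.1 h1]
    · rw [h2, e.2 h2]
    · rw [h1, h2]
  have hidx : (F.comp H.subtype).ker = K.subgroupOf H := (MonoidHom.comap_ker F H.subtype).symm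
  have hr : 60 ∣ Nat.card F.range := by
    have h1 := Subgroup.card_mul_index (F.comp H.subtype).ker
    rw [Subgroup.index_ker, hH120, hidx] at h1
    have h2 : Nat.card (F.comp H.subtype).range ∣ Nat.card F.range :=
      Subgroup.card_dvd_of_le (by rintro _ ⟨x, rfl⟩; exact ⟨x, rfl⟩)
    refine dvd_trans ?_ h2
    have h0 : 0 < Nat.card (K.subgroupOf H) := Nat.card_pos
    interval_cases Nat.card (K.subgroupOf H) <;> omega
  obtain ⟨eF⟩ : Nonempty (Sylow 2 H ≃ Fin 5) := ⟨Finite.equivFinOfCardEq h5⟩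
  let Φ := eF.permCongrHom.toMonoidHom.comp F
  have hΦk : Φ.ker = K := MonoidHom.ker_mulEquiv_comp F eF.permCongrHom
  have hΦr : Nat.card Φ.range = Nat.card F.range := by
    rw [MonoidHom.range_comp]
    exact Subgroup.card_map_of_injective eF.permCongrHom.injective
  have h120 : Nat.card Φ.range ∣ 120 := by
    have := Subgroup.card_subgroup_dvd_card Φ.range
    rwa [Nat.card_perm, Nat.card_fin] at this
  rw [← hΦr] at hr
  obtain ⟨m, hm⟩ := hr
  rw [hm] at h120
  have hm2 : m ∣ 2 := Nat.dvd_of_mul_dvd_mul_left (by norm_num : 0 < 60) (by norm_num at h120 ⊢; exact h120)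
  rcases (Nat.dvd_prime Nat.prime_two).1 hm2 with rfl | rfl
  · have hA : Φ.range = alternatingGroup (Fin 5) := by
      refine Equiv.Perm.eq_alternatingGroup_of_index_eq_two ?_
      have := Subgroup.card_mul_index Φ.range
      rw [hm, Nat.card_perm, Nat.card_fin, show Nat.factorial 5 = 120 from rfl] at this
      omega
    let f := Φ.codRestrict (alternatingGroup (Fin 5)) fun g => hA ▸ ⟨g, rfl⟩
    have hfk : f.ker = K := (MonoidHom.ker_codRestrict _ _ _).trans hΦk
    refine ⟨K, inferInstance, hKZ, Or.inr (Or.inr (Or.inr (Or.inr (Or.inl ⟨f, ?_, hfk⟩))))⟩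
    rintro ⟨y, hy⟩
    rw [← hA] at hy
    obtain ⟨g, rfl⟩ := hy
    exact ⟨g, rfl⟩
  · refine ⟨K, inferInstance, hKZ, Or.inr (Or.inr (Or.inr (Or.inr (Or.inr ⟨Φ, ?_, hΦk⟩))))⟩
    exact MonoidHom.range_eq_top.1 (Subgroup.eq_top_of_card_eq _
      (by rw [hm, Nat.card_perm, Nat.card_fin]; rfl))

end Cfsg.Agent.Frobenius.FPFRep
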