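import Mathlib
import Cfsg.Agent.EqLemmas

/-!
`-1` as a sum of two squares in fields containing a root of unity of odd prime order and `√5`.

Main results (namespace `Cfsg.Agent.Frobenius.Level`):
* `exists_cyclotomic_eval_eq` : `Φ_p(t) = A² + p B²` for primes `p % 4 = 3`
* `exists_neg_one_eq` : `-1 = A² + p B²` if `p` is a non-residue modulo the order of a root of unity
* `exists_two_squares_prime` : primes `p ≡ 3 [MOD 20]` are sums of two squares over `√5`
* `neg_one_sum_two_squares` : the level is at most two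
-/

namespace Cfsg.Agent.Frobenius.Level

open Finset

variable {k : Type*} [Field k] [CharZero k]

/-- `x` is of the form `A² + p B²`. -/
def Rep (p : ℕ) (x : k) : Prop := ∃ A B : k, x = A ^ 2 + (p : k) * B ^ 2

omit [CharZero k] in
theorem Rep.mul {p : ℕ} {x y : k} (hx : Rep p x) (hy : Rep p y) : Rep p (x * y) := by
  obtain ⟨A, B, rfl⟩ := hx
  obtain ⟨C, D, rfl⟩ := hy
  exact ⟨A * C - (p : k) * (B * D), A * D + B * C, by ring⟩

omit [CharZero k] in
theorem Rep.prod {p : ℕ} {ι : Type*} (s : Finset ι) (f : ι → k) (h : ∀ i ∈ s, Rep p (f i)) :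
    Rep p (∏ i ∈ s, f i) := by
  classical
  induction s using Finset.induction_on with
  | empty => exact ⟨1, 0, by simp⟩
  | insert x s hx ih =>
    rw [Finset.prod_insert hx]
    exact (h x (Finset.mem_insert_self x s)).mul (ih fun i hi => h i (Finset.mem_insert_of_mem hi))

theorem addChar_sum {M L : Type*} [AddCommMonoid M] [CommMonoid L] (φ : AddChar M L) (S : Finset M) :
    φ (∑ i ∈ S, i) = ∏ i ∈ S, φ i := by
  classical
  induction S using Finset.induction_on with
  | empty => simp
  | insert x s hx ih => rw [Finset.sum_insert hx, Finset.prod_insert hx, AddChar.map_add_eq_mul, ih]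

/-- The cyclotomic polynomial as a product over the non-zero classes. -/
theorem eval_cyclotomic_eq_prod {L : Type*} [Field L] {p : ℕ} [Fact p.Prime]
    {ψ : AddChar (ZMod p) L} (hψ : ψ.IsPrimitive) (x : L) :
    (Polynomial.cyclotomic p L).eval x = ∏ a ∈ univ.erase (0 : ZMod p), (x - ψ a) := by
  classical
  have hp : p.Prime := Fact.out
  have h1 : ∀ a, ψ a ^ p = 1 := fun a => by
    rw [← AddChar.map_nsmul_eq_pow, nsmul_eq_mul, ZMod.natCast_self, zero_mul, AddChar.map_zero_eq_one]
  have hprim : ∀ a, a ≠ 0 → IsPrimitiveRoot (ψ a) p := fun a ha => by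
    exact IsPrimitiveRoot.iff_orderOf.2
      (orderOf_eq_prime (h1 a) (fun e => ha ((hψ.zmod_char_eq_one_iff p a).1 e)))
  have hz := hprim 1 one_ne_zero
  have hinj : Function.Injective ψ := by
    intro a b e
    have h : ψ (a - b) = 1 := by
      rw [sub_eq_add_neg, AddChar.map_add_eq_mul, AddChar.map_neg_eq_inv, e,
        mul_inv_cancel₀ (fun h0 => by have := h1 b; rw [h0, zero_pow hp.ne_zero] at this
                                      exact zero_ne_one this)]
    exact sub_eq_zero.1 ((hψ.zmod_char_eq_one_iff p _).1 h)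
  rw [Polynomial.cyclotomic_eq_prod_X_sub_primitiveRoots hz, Polynomial.eval_prod]
  have hset : primitiveRoots p L = (univ.erase (0 : ZMod p)).image ψ := by
    refine (Finset.eq_of_subset_of_card_le ?_ ?_).symm
    · intro y hy
      obtain ⟨a, ha, rfl⟩ := Finset.mem_image.1 hy
      exact (mem_primitiveRoots hp.pos).2 (hprim a (Finset.ne_of_mem_erase ha))
    · rw [hz.card_primitiveRoots, Nat.totient_prime hp, Finset.card_image_of_injective _ hinj,
        Finset.card_erase_of_mem (Finset.mem_univ _), Finset.card_univ, ZMod.card]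
  rw [hset, Finset.prod_image (fun a _ b _ e => hinj e)]
  simp

theorem eval_one_eq {L : Type*} [Field L] {p : ℕ} [Fact p.Prime]
    {ψ : AddChar (ZMod p) L} (hψ : ψ.IsPrimitive) :
    ∏ a ∈ univ.erase (0 : ZMod p), (1 - ψ a) = (p : L) := by
  rw [← eval_cyclotomic_eq_prod hψ, Polynomial.eval_one_cyclotomic_prime]

/-- Gauss' decomposition of the cyclotomic polynomial at a point. -/
theorem exists_cyclotomic_eval_eq {p : ℕ} [hpf : Fact p.Prime] (hp4 : p % 4 = 3) (t : k) :
    Rep p ((Polynomial.cyclotomic p k).eval t) := by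
  classical
  have hp : p.Prime := hpf.out
  have hp2 : ringChar (ZMod p) ≠ 2 := by rw [ZMod.ringChar_zmod_n]; omega
  let L := AlgebraicClosure k
  have : CharZero L := charZero_of_injective_algebraMap (algebraMap k L).injective
  have : NeZero (p : L) := ⟨Nat.cast_ne_zero.2 hp.ne_zero⟩
  obtain ⟨ζ, hζ⟩ := HasEnoughRootsOfUnity.exists_primitiveRoot L p
  let ψ : AddChar (ZMod p) L := AddChar.zmodChar p ((IsPrimitiveRoot.iff_def ζ p).mp hζ).left
  have hψ : ψ.IsPrimitive := AddChar.zmodChar_primitive_of_primitive_root p hζ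
  let χ := quadraticChar (ZMod p)
  have hneg : χ (-1) = -1 := by
    rw [quadraticChar_neg_one_iff_not_isSquare, FiniteField.isSquare_neg_one_iff, ZMod.card]
    omega
  have hodd : ∀ a, χ (-a) = -χ a := fun a => by rw [← neg_one_mul, map_mul, hneg, neg_one_mul]
  set H : Finset (ZMod p) := univ.filter (fun a => χ a = 1) with hH
  -- the coefficients of the half product
  let c : ZMod p → k := fun a =>
    ∑ S ∈ H.powerset.filter (fun S => ∑ i ∈ S, i = a), (-1) ^ #S * t ^ #(H \ S)
  have hexp : ∀ φ : AddChar (ZMod p) L,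
      ∏ a ∈ H, (algebraMap k L t - φ a) = ∑ a, algebraMap k L (c a) * φ a := by
    intro φ
    rw [Finset.prod_sub, ← Finset.sum_fiberwise H.powerset (fun S => ∑ i ∈ S, i)]
    refine Finset.sum_congr rfl fun a _ => ?_
    rw [map_sum, Finset.sum_mul]
    refine Finset.sum_congr rfl fun S hS => ?_
    rw [Finset.prod_const, map_mul, map_pow, map_pow, map_neg, map_one, ← (Finset.mem_filter.1 hS).2,
      addChar_sum]
  have hcinv : ∀ h, χ h = 1 → ∀ a, c (h * a) = c a := by
    intro h hh a
    have h0 : h ≠ 0 := fun e => by rw [e, MulChar.map_zero] at hh; exact zero_ne_one hh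
    let e : ZMod p ↪ ZMod p := ⟨(h * ·), mul_right_injective₀ h0⟩
    have hHe : H.map e = H := by
      refine Finset.eq_of_subset_of_card_le (fun y hy => ?_) (by rw [Finset.card_map])
      obtain ⟨x, hx, rfl⟩ := Finset.mem_map.1 hy
      rw [hH, Finset.mem_filter] at hx ⊢
      exact ⟨Finset.mem_univ _, by show χ (h * x) = 1; rw [map_mul, hh, hx.2, one_mul]⟩
    symm
    refine Finset.sum_bij (fun S _ => S.map e) (fun S hS => ?_)
      (fun S _ T _ hST => Finset.map_injective e hST) (fun T hT => ?_) (fun S hS => ?_)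
    · rw [Finset.mem_filter, Finset.mem_powerset] at hS ⊢
      refine ⟨(Finset.map_subset_map.2 hS.1).trans hHe.le, ?_⟩
      rw [Finset.sum_map, ← hS.2, Finset.mul_sum]
      rfl
    · rw [Finset.mem_filter, Finset.mem_powerset] at hT
      obtain ⟨S, hS, rfl⟩ := Finset.subset_map_iff.1 (hT.1.trans hHe.ge)
      refine ⟨S, Finset.mem_filter.2 ⟨Finset.mem_powerset.2 hS, mul_left_cancel₀ h0 ?_⟩, rfl⟩
      rw [Finset.mul_sum, ← hT.2, Finset.sum_map]
      rfl
    · rw [Finset.mem_filter, Finset.mem_powerset] at hS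
      rw [Finset.card_map]
      congr 2
      rw [Finset.card_sdiff_of_subset hS.1,
        Finset.card_sdiff_of_subset ((Finset.map_subset_map.2 hS.1).trans hHe.le), Finset.card_map]
  let u : k := (c 1 + c (-1)) / 2
  let v : k := (c 1 - c (-1)) / 2
  have hval : ∀ a, a ≠ 0 → c a = u + v * (χ a : k) := by
    intro a ha
    rcases quadraticChar_dichotomy ha with h | h
    · have := hcinv a h 1
      rw [mul_one] at this
      simp only [χ, u, v, h, this, Int.cast_one]
      ring
    · have hna : χ (-a) = 1 := by rw [hodd, show χ a = -1 from h, neg_neg]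
      have := hcinv (-a) hna (-1)
      rw [neg_mul_neg, mul_one] at this
      simp only [χ, u, v, h, this, Int.cast_neg, Int.cast_one]
      ring
  let χL := χ.ringHomComp (Int.castRingHom L)
  have hχL : ∀ a, χL a = (χ a : L) := fun a => rfl
  set g := gaussSum χL ψ with hg
  have hg2 : g ^ 2 = -(p : L) := by
    have hq : χL.IsQuadratic := (quadraticChar_isQuadratic (ZMod p)).comp _
    have h1 : χL ≠ 1 := by
      intro e
      have h2 : χL (-1) = (1 : MulChar (ZMod p) L) (-1) := by rw [e]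
      rw [hχL, hneg, MulChar.one_apply isUnit_one.neg, Int.cast_neg, Int.cast_one] at h2
      exact two_ne_zero (α := L) (by linear_combination -h2)
    rw [hg, gaussSum_sq h1 hq hψ, hχL, hneg, ZMod.card, Int.cast_neg, Int.cast_one, neg_one_mul]
  -- both half products have coordinates in the base field
  have hhalf : ∀ φ : AddChar (ZMod p) L, φ ≠ 1 →
      ∏ a ∈ H, (algebraMap k L t - φ a) =
        algebraMap k L (c 0 - u) + algebraMap k L v * gaussSum χL φ := by
    intro φ hφ
    have hc0 : c 0 = u + v * (χ 0 : k) + (c 0 - u) := by simp [χ]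
    rw [hexp, ← Finset.add_sum_erase _ _ (Finset.mem_univ (0 : ZMod p)),
      Finset.sum_congr rfl fun a ha => by rw [hval a (Finset.ne_of_mem_erase ha)], hc0, map_add,
      add_mul, add_comm (algebraMap k L (u + v * _) * _), add_assoc,
      Finset.add_sum_erase _ (fun a => algebraMap k L (u + v * (χ a : k)) * φ a) (Finset.mem_univ 0)]
    simp only [map_add, map_mul, map_intCast, add_mul, Finset.sum_add_distrib, ← Finset.mul_sum,
      mul_assoc, AddChar.map_zero_eq_one, mul_one, AddChar.sum_eq_zero_of_ne_one hφ, mul_zero,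
      zero_add, gaussSum, hχL]
    simp [χ]
  have hψ1 : ψ ≠ 1 := fun e => one_ne_zero ((hψ.zmod_char_eq_one_iff p 1).1 (by rw [e]; rfl))
  have hψ2 : ψ⁻¹ ≠ 1 := fun e => hψ1 (inv_eq_one.1 e)
  have hgneg : gaussSum χL ψ⁻¹ = -g := by
    rw [hg, gaussSum, gaussSum, ← Finset.sum_neg_distrib]
    refine Fintype.sum_equiv (Equiv.neg _) _ _ fun a => ?_
    rw [Equiv.neg_apply, AddChar.inv_apply, hχL, hχL, hodd, Int.cast_neg, neg_mul, neg_neg]
  refine ⟨c 0 - u, v, (algebraMap k L).injective ?_⟩
  have hlhs : algebraMap k L ((Polynomial.cyclotomic p k).eval t) =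
      (Polynomial.cyclotomic p L).eval (algebraMap k L t) := by
    rw [← Polynomial.map_cyclotomic p (algebraMap k L), Polynomial.eval_map_algebraMap,
      Polynomial.aeval_algebraMap_apply_eq_algebraMap_eval]
  have hsplit : ∏ a ∈ univ.erase (0 : ZMod p), (algebraMap k L t - ψ a) =
      (∏ a ∈ H, (algebraMap k L t - ψ a)) * ∏ a ∈ H, (algebraMap k L t - ψ⁻¹ a) := by
    have hu : univ.erase (0 : ZMod p) = H ∪ H.image (fun a => -a) := by
      ext a
      simp only [hH, Finset.mem_erase, Finset.mem_univ, and_true, Finset.mem_union,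
        Finset.mem_filter, true_and, Finset.mem_image]
      constructor
      · intro ha
        rcases quadraticChar_dichotomy ha with h | h
        · exact Or.inl h
        · exact Or.inr ⟨-a, by rw [hodd, show χ a = -1 from h, neg_neg], neg_neg a⟩
      · rintro (h | ⟨b, hb, rfl⟩)
        · rintro rfl
          rw [MulChar.map_zero] at h
          exact zero_ne_one h
        · intro e
          rw [neg_eq_zero] at e
          rw [e, MulChar.map_zero] at hb
          exact zero_ne_one hb
    have hd : Disjoint H (H.image (fun a => -a)) := by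
      rw [Finset.disjoint_left]
      intro a ha ha'
      obtain ⟨b, hb, rfl⟩ := Finset.mem_image.1 ha'
      rw [hH, Finset.mem_filter] at ha hb
      rw [hodd, hb.2] at ha
      exact absurd ha.2 (by norm_num)
    rw [hu, Finset.prod_union hd, Finset.prod_image (fun a _ b _ e => neg_injective e)]
    simp only [AddChar.inv_apply]
  rw [hlhs, eval_cyclotomic_eq_prod hψ, hsplit, hhalf ψ hψ1, hhalf ψ⁻¹ hψ2, hgneg, map_add,
    map_mul, map_pow, map_pow, map_natCast, ← hg]
  linear_combination (-(algebraMap k L v) ^ 2) * hg2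

omit [CharZero k] in
theorem eval_cyclotomic_inv {p : ℕ} [Fact p.Prime] (x : k) (hx : x ≠ 0) :
    x ^ (p - 1) * (Polynomial.cyclotomic p k).eval x⁻¹ = (Polynomial.cyclotomic p k).eval x := by
  simp only [Polynomial.cyclotomic_prime, Polynomial.eval_finsetSum, Polynomial.eval_pow,
    Polynomial.eval_X, Finset.mul_sum]
  rw [← Finset.sum_range_reflect (fun i => x ^ i) p]
  refine Finset.sum_congr rfl fun i hi => ?_
  have hi' : i ≤ p - 1 := Nat.le_sub_one_of_lt (Finset.mem_range.1 hi)
  rw [inv_pow, pow_sub₀ _ hx hi']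

/-- If `p` is a non-residue modulo `q` then `-1 = A² + p B²` next to a root of unity of order `q`. -/
theorem exists_neg_one_eq {q p : ℕ} [hqf : Fact q.Prime] [hpf : Fact p.Prime] (hq2 : q ≠ 2)
    (hp4 : p % 4 = 3) (hns : ¬ IsSquare (p : ZMod q)) {μ : k} (hμ : IsPrimitiveRoot μ q) :
    Rep p (-1 : k) := by
  classical
  have hq : q.Prime := hqf.out
  have hp : p.Prime := hpf.out
  have hqodd : q % 2 = 1 := hq.eq_two_or_odd.resolve_left hq2
  have hpq0 : (p : ZMod q) ≠ 0 := fun e => hns (e ▸ IsSquare.zero)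
  let ψ : AddChar (ZMod q) k := AddChar.zmodChar q ((IsPrimitiveRoot.iff_def μ q).mp hμ).left
  have hψ : ψ.IsPrimitive := AddChar.zmodChar_primitive_of_primitive_root q hμ
  have hψ' : ∀ i : ℕ, ψ (i : ZMod q) = μ ^ i := fun i => AddChar.zmodChar_apply' _ i
  have hψne : ∀ a, ψ a ≠ 0 := fun a e => by
    have h := AddChar.map_add_eq_mul ψ a (-a)
    rw [add_neg_cancel, AddChar.map_zero_eq_one, e, zero_mul] at h
    exact one_ne_zero h
  set h := q / 2 with hh
  set T : Finset (ZMod q) := (Finset.Icc 1 h).image (fun i : ℕ => (i : ZMod q)) with hT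
  have hTinj : Set.InjOn (fun i : ℕ => (i : ZMod q)) (Finset.Icc 1 h : Set ℕ) := by
    intro i hi j hj e
    have hi' := Finset.mem_Icc.1 (Finset.mem_coe.1 hi)
    have hj' := Finset.mem_Icc.1 (Finset.mem_coe.1 hj)
    have := congrArg ZMod.val e
    rwa [ZMod.val_natCast_of_lt (by omega), ZMod.val_natCast_of_lt (by omega)] at this
  let Φ : k → k := fun x => (Polynomial.cyclotomic p k).eval x
  set W := ∏ a ∈ T, Φ (ψ a) with hW
  have hWRep : Rep p W := Rep.prod _ _ fun a _ => exists_cyclotomic_eval_eq hp4 _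
  -- the full product is one
  have hfull : ∏ a ∈ univ.erase (0 : ZMod q), Φ (ψ a) = 1 := by
    have h1 : ∀ a, Φ (ψ a) * (ψ a - 1) = ψ ((p : ZMod q) * a) - 1 := by
      intro a
      have h2 := congrArg (Polynomial.eval (ψ a)) (Polynomial.cyclotomic_prime_mul_X_sub_one k p)
      simp only [Polynomial.eval_mul, Polynomial.eval_sub, Polynomial.eval_X, Polynomial.eval_pow,
        Polynomial.eval_one] at h2
      rw [← nsmul_eq_mul, AddChar.map_nsmul_eq_pow]
      exact h2
    have hne : ∏ a ∈ univ.erase (0 : ZMod q), (ψ a - 1) ≠ 0 := Finset.prod_ne_zero_iff.2 fun a ha e =>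
      Finset.ne_of_mem_erase ha ((hψ.zmod_char_eq_one_iff q a).1 (sub_eq_zero.1 e))
    refine mul_right_cancel₀ hne ?_
    rw [← Finset.prod_mul_distrib, one_mul, Finset.prod_congr rfl fun a _ => h1 a]
    refine Finset.prod_bij (fun a _ => (p : ZMod q) * a) ?_ ?_ ?_ ?_
    · intro a ha
      exact Finset.mem_erase.2 ⟨mul_ne_zero hpq0 (Finset.ne_of_mem_erase ha), Finset.mem_univ _⟩
    · exact fun a _ b _ e => mul_left_cancel₀ hpq0 e
    · intro b hb
      exact ⟨(p : ZMod q)⁻¹ * b, Finset.mem_erase.2 ⟨mul_ne_zero (inv_ne_zero hpq0)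
        (Finset.ne_of_mem_erase hb), Finset.mem_univ _⟩, by rw [mul_inv_cancel_left₀ hpq0]⟩
    · exact fun a _ => rfl
  have hsplit : univ.erase (0 : ZMod q) = T ∪ T.image (fun a => -a) := by
    refine (Finset.eq_of_subset_of_card_le ?_ ?_).symm
    · intro a ha
      have hT0 : ∀ b ∈ T, b ≠ 0 := by
        intro b hb e
        obtain ⟨i, hi, rfl⟩ := Finset.mem_image.1 hb
        have hi' := Finset.mem_Icc.1 hi
        have := congrArg ZMod.val e
        rw [ZMod.val_natCast_of_lt (by omega), ZMod.val_zero] at this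
        omega
      refine Finset.mem_erase.2 ⟨?_, Finset.mem_univ _⟩
      rcases Finset.mem_union.1 ha with h' | h'
      · exact hT0 a h'
      · obtain ⟨b, hb, rfl⟩ := Finset.mem_image.1 h'
        exact neg_ne_zero.2 (hT0 b hb)
    · have hd : Disjoint T (T.image (fun a => -a)) := by
        rw [Finset.disjoint_left]
        intro a ha ha'
        obtain ⟨i, hi, rfl⟩ := Finset.mem_image.1 ha
        obtain ⟨b, hb, hb'⟩ := Finset.mem_image.1 ha'
        obtain ⟨j, hj, rfl⟩ := Finset.mem_image.1 hb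
        have hi' := Finset.mem_Icc.1 hi
        have hj' := Finset.mem_Icc.1 hj
        have e : ((i + j : ℕ) : ZMod q) = 0 := by rw [Nat.cast_add, ← hb', neg_add_cancel]
        have := congrArg ZMod.val e
        rw [ZMod.val_natCast_of_lt (by omega), ZMod.val_zero] at this
        omega
      rw [Finset.card_union_of_disjoint hd, Finset.card_image_of_injective _ neg_injective, hT,
        Finset.card_image_of_injOn hTinj, Nat.card_Icc, Finset.card_erase_of_mem (Finset.mem_univ _),
        Finset.card_univ, ZMod.card]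
      omega
  set S : ℕ := ∑ i ∈ Finset.Icc 1 h, i with hS
  set d : ℕ := (p - 1) / 2 with hd
  set M : k := μ ^ (d * S) with hM
  have hM0 : M ≠ 0 := pow_ne_zero _ (hμ.ne_zero hq.ne_zero)
  have hWW : W * W = M * M := by
    have hd' : Disjoint T (T.image (fun a => -a)) := by
      have hc := congrArg Finset.card hsplit
      rw [Finset.card_erase_of_mem (Finset.mem_univ _), Finset.card_univ, ZMod.card] at hc
      refine Finset.card_union_eq_card_add_card.1 (le_antisymm (Finset.card_union_le _ _) ?_)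
      rw [← hc, Finset.card_image_of_injective _ neg_injective, hT,
        Finset.card_image_of_injOn hTinj, Nat.card_Icc]
      omega
    have hTprod : ∏ a ∈ T, ψ a ^ (p - 1) = M * M := by
      rw [hT, Finset.prod_image hTinj, Finset.prod_congr rfl fun i _ => by
        rw [hψ', ← pow_mul], Finset.prod_pow_eq_pow_sum, ← Finset.sum_mul, ← hS, hM, ← pow_add]
      congr 1
      have : p - 1 = 2 * d := by omega
      rw [this]; ring
    calc W * W = (∏ a ∈ T, Φ (ψ a)) * ∏ a ∈ T, (ψ a ^ (p - 1) * Φ (ψ (-a))) := by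
          rw [hW]
          congr 1
          refine Finset.prod_congr rfl fun a _ => ?_
          rw [AddChar.map_neg_eq_inv]
          exact (eval_cyclotomic_inv _ (hψne a)).symm
      _ = M * M := by
          rw [Finset.prod_mul_distrib, hTprod, mul_left_comm,
            ← Finset.prod_image (f := fun a => Φ (ψ a)) (g := fun a => -a)
              (fun a _ b _ e => neg_injective e), ← Finset.prod_union hd', ← hsplit, hfull, mul_one]
  have hWne : W ≠ M := by
    intro e
    let P : Polynomial ℤ := (∏ i ∈ Finset.Icc 1 h,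
      ∑ j ∈ Finset.range p, (Polynomial.X ^ i) ^ j) - Polynomial.X ^ (d * S)
    have hP : Polynomial.aeval μ P = 0 := by
      simp only [P, map_sub, map_prod, map_sum, map_pow, Polynomial.aeval_X]
      rw [← hM, sub_eq_zero, ← e, hW, hT, Finset.prod_image hTinj]
      refine Finset.prod_congr rfl fun i _ => ?_
      simp [Φ, hψ', Polynomial.cyclotomic_prime, Polynomial.eval_finsetSum]
    have hdvd : Polynomial.cyclotomic q ℤ ∣ P := by
      rw [Polynomial.cyclotomic_eq_minpoly hμ hq.pos]
      exact minpoly.isIntegrallyClosed_dvd (IsPrimitiveRoot.isIntegral hμ hq.pos) hP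
    have h1 := Polynomial.eval_dvd (x := (1 : ℤ)) hdvd
    simp only [P, Polynomial.eval_one_cyclotomic_prime, Polynomial.eval_sub, Polynomial.eval_prod,
      Polynomial.eval_finsetSum, Polynomial.eval_pow, Polynomial.eval_X, one_pow, Finset.sum_const,
      Finset.prod_const, Finset.card_range, Nat.card_Icc, nsmul_eq_mul, mul_one] at h1
    rw [← ZMod.intCast_zmod_eq_zero_iff_dvd] at h1
    push_cast at h1
    rw [sub_eq_zero] at h1
    exact hns ((ZMod.euler_criterion q hpq0).2 h1)
  have hWM : W = -M := by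
    rcases mul_self_eq_mul_self_iff.1 hWW with h' | h'
    · exact absurd h' hWne
    · exact h'
  obtain ⟨A, B, hAB⟩ := hWRep
  set N : k := μ ^ (d * S * (h + 1)) with hN
  have hNM : N ^ 2 = M := by
    rw [hN, hM, ← pow_mul]
    rw [show d * S * (h + 1) * 2 = d * S + q * (d * S) by
      have : (h + 1) * 2 = q + 1 := by omega
      rw [mul_assoc, this]; ring, pow_add, pow_mul μ q, hμ.pow_eq_one, one_pow, mul_one]
  refine ⟨A / N, B / N, ?_⟩
  have hN0 : N ≠ 0 := pow_ne_zero _ (hμ.ne_zero hq.ne_zero)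
  field_simp
  rw [hNM]
  linear_combination hAB - hWM

/-- A prime `p ≡ 3 [MOD 20]` is a sum of two squares next to `√5`. -/
theorem exists_two_squares_prime {p : ℕ} [hpf : Fact p.Prime] (hp20 : p % 20 = 3) {r : k}
    (hr : r * r = 5) : ∃ a b : k, (p : k) = a ^ 2 + b ^ 2 := by
  classical
  have hp : p.Prime := hpf.out
  have hp2 : ringChar (ZMod p) ≠ 2 := by rw [ZMod.ringChar_zmod_n]; omega
  have : Fact (Nat.Prime 5) := ⟨by norm_num⟩
  have h5 : IsSquare (-5 : ZMod p) := by
    have h0 : ((-5 : ℤ) : ZMod p) ≠ 0 := by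
      rw [Ne, ZMod.intCast_zmod_eq_zero_iff_dvd]
      intro hd
      have : p ∣ 5 := by exact_mod_cast (dvd_neg.1 hd)
      have := Nat.le_of_dvd (by norm_num) this
      interval_cases p <;> simp_all
    have hl : legendreSym p (-5) = 1 := by
      rw [show (-5 : ℤ) = -1 * 5 by norm_num, legendreSym.mul]
      have hm1 : legendreSym p (-1) = -1 := by
        rw [legendreSym.at_neg_one (by omega), ZMod.χ₄_nat_three_mod_four (by omega)]
      have h55 : legendreSym p 5 = -1 := by
        rw [show (5 : ℤ) = ((5 : ℕ) : ℤ) by norm_num,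
          legendreSym.quadratic_reciprocity_one_mod_four (p := 5) (by norm_num) (by omega),
          legendreSym.mod 5 (p : ℤ)]
        have : ((p : ℤ) % ((5 : ℕ) : ℤ)) = 3 := by omega
        rw [this]
        exact (by decide : @legendreSym 5 ⟨by norm_num⟩ 3 = -1)
      rw [hm1, h55]; norm_num
    have := (legendreSym.eq_one_iff p h0).1 hl
    simpa using this
  obtain ⟨w, hw⟩ := h5
  set n := Nat.sqrt p with hn
  obtain ⟨⟨x₁, y₁⟩, ⟨x₂, y₂⟩, hne, he⟩ := Fintype.exists_ne_map_eq_of_card_lt
    (fun xy : Fin (n + 1) × Fin (n + 1) => ((xy.1 : ℕ) : ZMod p) + w * ((xy.2 : ℕ) : ZMod p))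
    (by rw [ZMod.card, Fintype.card_prod, Fintype.card_fin]; exact Nat.lt_succ_sqrt p)
  set X : ℤ := (x₁ : ℤ) - x₂ with hX
  set Y : ℤ := (y₁ : ℤ) - y₂ with hY
  have hXY : ((X ^ 2 + 5 * Y ^ 2 : ℤ) : ZMod p) = 0 := by
    simp only [hX, hY]
    push_cast
    have h1 : (((x₁ : ℕ) : ZMod p) - ((x₂ : ℕ) : ZMod p)) =
        -w * (((y₁ : ℕ) : ZMod p) - ((y₂ : ℕ) : ZMod p)) := by
      have he' : ((x₁ : ℕ) : ZMod p) + w * ((y₁ : ℕ) : ZMod p) =
          ((x₂ : ℕ) : ZMod p) + w * ((y₂ : ℕ) : ZMod p) := he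
      linear_combination he'
    rw [h1]
    linear_combination (-(((y₁ : ℕ) : ZMod p) - ((y₂ : ℕ) : ZMod p)) ^ 2) * hw
  obtain ⟨K, hK⟩ := (ZMod.intCast_zmod_eq_zero_iff_dvd _ _).1 hXY
  have hnn : ((n : ℤ)) ^ 2 < p := by
    have h1 : n ^ 2 ≤ p := Nat.sqrt_le' p
    have h2 : n ^ 2 ≠ p := by
      intro e
      rcases (Nat.dvd_prime hp).1 ⟨n, by rw [← sq, e]⟩ with h' | h'
      · exact hp.ne_one (by rw [← e, h']; rfl)
      · rw [h', sq] at e
        nlinarith [hp.two_le]
    exact_mod_cast lt_of_le_of_ne h1 h2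
  have hbX : X ^ 2 ≤ (n : ℤ) ^ 2 := by
    have := x₁.2; have := x₂.2
    refine sq_le_sq' ?_ ?_ <;> omega
  have hbY : Y ^ 2 ≤ (n : ℤ) ^ 2 := by
    have := y₁.2; have := y₂.2
    refine sq_le_sq' ?_ ?_ <;> omega
  have hp0 : (0 : ℤ) < p := by exact_mod_cast hp.pos
  have hpos : 0 < X ^ 2 + 5 * Y ^ 2 := by
    by_contra h'
    have hX0 : X = 0 := by nlinarith [sq_nonneg X, sq_nonneg Y]
    have hY0 : Y = 0 := by nlinarith [sq_nonneg X, sq_nonneg Y]
    refine hne (Prod.ext (Fin.ext ?_) (Fin.ext ?_))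
    · show (x₁ : ℕ) = x₂; omega
    · show (y₁ : ℕ) = y₂; omega
  have hK1 : 1 ≤ K := by nlinarith
  have hK5 : K ≤ 5 := by nlinarith
  obtain ⟨u, v, huv⟩ : ∃ u v : k, (K : k) = u ^ 2 + v ^ 2 := by
    interval_cases K
    · exact ⟨1, 0, by norm_num⟩
    · exact ⟨1, 1, by norm_num⟩
    · exact ⟨(r + 1) / 2, (r - 1) / 2, by push_cast; linear_combination (-1 / 2 : k) * hr⟩
    · exact ⟨2, 0, by norm_num⟩
    · exact ⟨2, 1, by norm_num⟩
  have hK0 : (K : k) ≠ 0 := by exact_mod_cast (by omega : K ≠ 0)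
  refine ⟨((X : k) * u - r * (Y : k) * v) / K, ((X : k) * v + r * (Y : k) * u) / K, ?_⟩
  have hK' : (X : k) ^ 2 + 5 * (Y : k) ^ 2 = (p : k) * K := by exact_mod_cast hK
  field_simp
  rw [huv]
  linear_combination (-(u ^ 2 + v ^ 2)) * hK' - (u ^ 2 + v ^ 2) * (Y : k) ^ 2 * hr -
    (p : k) * (u ^ 2 + v ^ 2) * huv

/-- Next to a root of unity of odd prime order `q ≠ 5` and `√5`, `-1` is a sum of two squares. -/
theorem neg_one_sum_two_squares {q : ℕ} [hqf : Fact q.Prime] (hq2 : q ≠ 2) (hq5 : q ≠ 5) {μ r : k}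
    (hμ : IsPrimitiveRoot μ q) (hr : r * r = 5) : ∃ a b : k, a ^ 2 + b ^ 2 = -1 := by
  classical
  have hq : q.Prime := hqf.out
  obtain ⟨b₀, hb₀⟩ := FiniteField.exists_nonsquare (F := ZMod q) (by
    rw [ZMod.ringChar_zmod_n]; exact hq2)
  have hb0 : b₀ ≠ 0 := fun e => hb₀ (e ▸ IsSquare.zero)
  have hco : Nat.Coprime 20 q := by
    rw [Nat.coprime_comm, hq.coprime_iff_not_dvd]
    intro hd
    rcases hq.dvd_mul.1 (show q ∣ 4 * 5 by simpa using hd) with h4 | h5
    · exact hq2 ((Nat.prime_dvd_prime_iff_eq hq Nat.prime_two).1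
        (hq.dvd_of_dvd_pow (n := 2) (by simpa using h4)))
    · exact hq5 ((Nat.prime_dvd_prime_iff_eq hq (by norm_num)).1 h5)
  obtain ⟨a, ha1, ha2⟩ : ∃ a : ℕ, a ≡ 3 [MOD 20] ∧ a ≡ b₀.val [MOD q] :=
    ⟨_, (Nat.chineseRemainder hco 3 b₀.val).2⟩
  have hacop : a.Coprime (20 * q) := by
    refine Nat.Coprime.mul_right ?_ ?_
    · rw [Nat.Coprime, ha1.gcd_eq]; rfl
    · rw [Nat.Coprime, ha2.gcd_eq, ← Nat.Coprime, Nat.coprime_comm, hq.coprime_iff_not_dvd]
      intro hd
      have := Nat.eq_zero_of_dvd_of_lt hd (ZMod.val_lt b₀)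
      exact hb0 ((ZMod.val_eq_zero b₀).1 this)
  obtain ⟨p, -, hp, hpa⟩ := Nat.forall_exists_prime_gt_and_modEq 0
    (Nat.mul_ne_zero (by norm_num) hq.ne_zero) hacop
  have := Fact.mk hp
  have hp20 : p % 20 = 3 := (hpa.of_mul_right q).trans ha1
  have hpq : (p : ZMod q) = b₀ := by
    rw [← ZMod.natCast_zmod_val b₀, ZMod.natCast_eq_natCast_iff]
    exact (hpa.of_mul_left 20).trans ha2
  obtain ⟨A, B, hAB⟩ := exists_neg_one_eq (q := q) (p := p) hq2 (by omega) (hpq ▸ hb₀) hμ
  obtain ⟨r₁, r₂, hr12⟩ := exists_two_squares_prime (p := p) hp20 hr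
  have h3 : A ^ 2 + (r₁ * B) ^ 2 + (r₂ * B) ^ 2 = -1 := by
    rw [hr12] at hAB; linear_combination -hAB
  by_cases h1 : 1 + A ^ 2 = 0
  · exact ⟨A, 0, by linear_combination h1⟩
  · refine ⟨((r₁ * B) + (r₂ * B) * A) / (1 + A ^ 2), ((r₂ * B) - (r₁ * B) * A) / (1 + A ^ 2), ?_⟩
    field_simp
    linear_combination (1 + A ^ 2) * h3

end Cfsg.Agent.Frobenius.Level
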