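import Cfsg.Agent.EqLemmas

/-!
Decomposition of an algebra along an anticommuting pair of square roots of `-1`.

Main results (namespace `Cfsg.Agent.Frobenius`):
* `IsQPair I J`, `IsQPair.Comm`, `qsum`, `IsQPair.sc` (the component in the commutant)
* `IsQPair.decomp`, `IsQPair.sc_qsum`, `IsQPair.qsum_inj`
-/

namespace Cfsg.Agent.Frobenius

variable {E : Type*} [Ring E]

/-- `I`, `J` generate a quaternion algebra. -/
structure IsQPair (I J : E) : Prop where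
  II : I * I = -1
  JJ : J * J = -1
  JI : J * I = -(I * J)

/-- The combination `x₀ + I x₁ + J x₂ + I J x₃`. -/
def qsum (I J x₀ x₁ x₂ x₃ : E) : E := x₀ + I * x₁ + J * x₂ + I * J * x₃

namespace IsQPair

variable {I J : E} (h : IsQPair I J)
include h

theorem II' (x : E) : I * (I * x) = -x := by rw [← mul_assoc, h.II, neg_one_mul]

theorem JJ' (x : E) : J * (J * x) = -x := by rw [← mul_assoc, h.JJ, neg_one_mul]

theorem JI' (x : E) : J * (I * x) = -(I * (J * x)) := by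
  rw [← mul_assoc, h.JI, neg_mul, mul_assoc]

/-- Commuting with both generators. -/
def Comm (_ : IsQPair I J) (x : E) : Prop := x * I = I * x ∧ x * J = J * x

theorem Comm.mul_I' {x : E} (hx : h.Comm x) (y : E) : x * (I * y) = I * (x * y) := by
  rw [← mul_assoc, hx.1, mul_assoc]

theorem Comm.mul_J' {x : E} (hx : h.Comm x) (y : E) : x * (J * y) = J * (x * y) := by
  rw [← mul_assoc, hx.2, mul_assoc]

theorem Comm.zero : h.Comm 0 := ⟨by simp, by simp⟩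

theorem Comm.one : h.Comm 1 := ⟨by simp, by simp⟩

theorem Comm.add {x y : E} (hx : h.Comm x) (hy : h.Comm y) : h.Comm (x + y) :=
  ⟨by rw [add_mul, mul_add, hx.1, hy.1], by rw [add_mul, mul_add, hx.2, hy.2]⟩

theorem Comm.neg {x : E} (hx : h.Comm x) : h.Comm (-x) :=
  ⟨by rw [neg_mul, mul_neg, hx.1], by rw [neg_mul, mul_neg, hx.2]⟩

theorem Comm.sub {x y : E} (hx : h.Comm x) (hy : h.Comm y) : h.Comm (x - y) := by
  rw [sub_eq_add_neg]; exact Comm.add h hx (Comm.neg h hy)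

theorem Comm.mul {x y : E} (hx : h.Comm x) (hy : h.Comm y) : h.Comm (x * y) :=
  ⟨by rw [mul_assoc, hy.1, Comm.mul_I' h hx], by rw [mul_assoc, hy.2, Comm.mul_J' h hx]⟩

variable [Algebra ℝ E]

theorem Comm.smul {x : E} (r : ℝ) (hx : h.Comm x) : h.Comm (r • x) :=
  ⟨by rw [smul_mul_assoc, mul_smul_comm, hx.1], by rw [smul_mul_assoc, mul_smul_comm, hx.2]⟩

/-- The component commuting with `I` and `J`. -/
noncomputable def sc (_ : IsQPair I J) (X : E) : E :=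
  (1 / 4 : ℝ) • (X - I * X * I - J * X * J - I * J * X * (I * J))

theorem sc_neg (X : E) : h.sc (-X) = -h.sc X := by
  simp only [sc, mul_neg, neg_mul]
  module

theorem sc_comm (X : E) : h.Comm (h.sc X) := by
  constructor <;>
  · simp only [sc, smul_mul_assoc, mul_smul_comm, sub_mul, mul_sub, mul_assoc, h.II, h.JJ, h.JI,
      h.II', h.JJ', h.JI', mul_neg, mul_one]
    module

/-- The four components. -/
theorem decomp (X : E) :
    X = qsum I J (h.sc X) (h.sc (-(I * X))) (h.sc (-(J * X))) (h.sc (-(I * J * X))) := by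
  simp only [qsum, sc, smul_mul_assoc, mul_smul_comm, sub_mul, mul_sub, mul_assoc,
    h.II', h.JJ', h.JI', mul_neg, neg_mul]
  module

theorem sc_qsum {x₀ x₁ x₂ x₃ : E} (h₀ : h.Comm x₀) (h₁ : h.Comm x₁) (h₂ : h.Comm x₂)
    (h₃ : h.Comm x₃) : h.sc (qsum I J x₀ x₁ x₂ x₃) = x₀ := by
  simp only [qsum, sc, add_mul, mul_add, mul_assoc, h₀.1, h₁.1, h₂.1, h₃.1, h₀.2, h₁.2, h₂.2,
    h₃.2, h₀.mul_I' h, h₁.mul_I' h, h₂.mul_I' h, h₃.mul_I' h, h.II, h.JJ,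
    h.JI, h.II', h.JJ', h.JI', mul_neg, neg_mul, neg_neg, mul_one, sub_eq_add_neg]
  module

theorem qsum_eq_zero {x₀ x₁ x₂ x₃ : E} (h₀ : h.Comm x₀) (h₁ : h.Comm x₁) (h₂ : h.Comm x₂)
    (h₃ : h.Comm x₃) (e : qsum I J x₀ x₁ x₂ x₃ = 0) : x₀ = 0 ∧ x₁ = 0 ∧ x₂ = 0 ∧ x₃ = 0 := by
  have key : ∀ {y₀ y₁ y₂ y₃ : E}, h.Comm y₀ → h.Comm y₁ → h.Comm y₂ → h.Comm y₃ →
      qsum I J y₀ y₁ y₂ y₃ = 0 → y₀ = 0 := fun {y₀ y₁ y₂ y₃} a b c d e => by
    rw [← h.sc_qsum a b c d, e]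
    simp [sc]
  refine ⟨key h₀ h₁ h₂ h₃ e, key h₁ (h₀.neg h) h₃ (h₂.neg h) ?_, key h₂ (h₃.neg h) (h₀.neg h) h₁ ?_,
    key h₃ h₂ (h₁.neg h) (h₀.neg h) ?_⟩
  · have : qsum I J x₁ (-x₀) x₃ (-x₂) = -(I * qsum I J x₀ x₁ x₂ x₃) := by
      simp only [qsum, mul_add, mul_assoc, h.II', mul_neg]
      abel
    rw [this, e, mul_zero, neg_zero]
  · have : qsum I J x₂ (-x₃) (-x₀) x₁ = -(J * qsum I J x₀ x₁ x₂ x₃) := by
      simp only [qsum, mul_add, mul_assoc, h.JJ', h.JI', mul_neg]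
      abel
    rw [this, e, mul_zero, neg_zero]
  · have : qsum I J x₃ x₂ (-x₁) (-x₀) = -(I * J * qsum I J x₀ x₁ x₂ x₃) := by
      simp only [qsum, mul_add, mul_assoc, h.II', h.JJ', h.JI', mul_neg]
      abel
    rw [this, e, mul_zero, neg_zero]

theorem qsum_inj {x₀ x₁ x₂ x₃ y₀ y₁ y₂ y₃ : E} (h₀ : h.Comm x₀) (h₁ : h.Comm x₁) (h₂ : h.Comm x₂)
    (h₃ : h.Comm x₃) (g₀ : h.Comm y₀) (g₁ : h.Comm y₁) (g₂ : h.Comm y₂) (g₃ : h.Comm y₃)
    (e : qsum I J x₀ x₁ x₂ x₃ = qsum I J y₀ y₁ y₂ y₃) :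
    x₀ = y₀ ∧ x₁ = y₁ ∧ x₂ = y₂ ∧ x₃ = y₃ := by
  have h0 : qsum I J (x₀ - y₀) (x₁ - y₁) (x₂ - y₂) (x₃ - y₃) = 0 := by
    rw [← sub_eq_zero.2 e]
    simp only [qsum, mul_sub]
    abel
  obtain ⟨a, b, c, d⟩ := h.qsum_eq_zero (h₀.sub h g₀) (h₁.sub h g₁) (h₂.sub h g₂) (h₃.sub h g₃) h0
  exact ⟨sub_eq_zero.1 a, sub_eq_zero.1 b, sub_eq_zero.1 c, sub_eq_zero.1 d⟩

end IsQPair

end Cfsg.Agent.Frobenius
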