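import Cfsg.Agent.Lib.Frobenius.Complement
import Mathlib.GroupTheory.SpecificGroups.ZGroup
import Mathlib.GroupTheory.PresentedGroup

/-! Presentation of a Z-group all of whose subgroups of order `pq` are cyclic. -/

set_option autoImplicit false

namespace Cfsg.Agent.Frobenius

open Subgroup

/-- `s ^ q ≡ 1` and `s ≡ 1` modulo every prime divisor gives `s ≡ 1`, for `q` prime to `m`. -/
theorem int_eq_one_of_pow {s : ℤ} {m q : ℕ} (hq : q.Coprime m)
    (hpow : (m : ℤ) ∣ s ^ q - 1) (hprime : ∀ p : ℕ, p.Prime → p ∣ m → (p : ℤ) ∣ s - 1) :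
    (m : ℤ) ∣ s - 1 := by
  have hgeom := geom_sum_mul s q
  rw [← hgeom] at hpow
  refine IsCoprime.dvd_of_dvd_mul_left ?_ hpow
  rw [Int.isCoprime_iff_nat_coprime, Int.natAbs_natCast]
  refine Nat.coprime_of_dvd fun p hp hpm hpS => ?_
  have h1 : (p : ℤ) ∣ ∑ i ∈ Finset.range q, s ^ i := Int.natCast_dvd.mpr hpS
  have hmod : (s : ZMod p) = 1 := by
    have := (ZMod.intCast_zmod_eq_zero_iff_dvd _ p).mpr (hprime p hp hpm)
    rw [Int.cast_sub, Int.cast_one, sub_eq_zero] at this
    exact this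
  have h2 := (ZMod.intCast_zmod_eq_zero_iff_dvd _ p).mpr h1
  rw [Int.cast_sum] at h2
  simp only [Int.cast_pow, hmod, one_pow, Finset.sum_const, Finset.card_range, nsmul_eq_mul, mul_one] at h2
  exact hp.one_lt.ne' (Nat.eq_one_of_dvd_coprimes hq ((ZMod.natCast_eq_zero_iff q p).mp h2) hpm)

/-- An element of prime order centralises a cyclic group of coprime order that it normalises. -/
theorem SmallCyclic.commute_of_coprime {A : Type*} [Group A] [Finite A] (h : SmallCyclic A) {g y : A}
    (hg : (orderOf g).Prime) (hcop : (orderOf g).Coprime (orderOf y)) (hn : g * y * g⁻¹ ∈ zpowers y) :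
    Commute g y := by
  obtain ⟨s, hs⟩ := mem_zpowers_iff.mp hn
  have hiter : ∀ k : ℕ, g ^ k * y * (g ^ k)⁻¹ = y ^ s ^ k := by
    intro k
    induction k with
    | zero => simp
    | succ k ih =>
      calc g ^ (k + 1) * y * (g ^ (k + 1))⁻¹ = g * (g ^ k * y * (g ^ k)⁻¹) * g⁻¹ := by rw [pow_succ']; group
        _ = (g * y * g⁻¹) ^ (s ^ k) := by rw [ih, conj_zpow]
        _ = _ := by rw [← hs, ← zpow_mul, pow_succ']
  have hpow : (orderOf y : ℤ) ∣ s ^ orderOf g - 1 := by
    have h1 := hiter (orderOf g)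
    rw [pow_orderOf_eq_one, one_mul, inv_one, mul_one] at h1
    rw [orderOf_dvd_iff_zpow_eq_one, zpow_sub, zpow_one, ← h1, mul_inv_cancel]
  have hprime : ∀ p : ℕ, p.Prime → p ∣ orderOf y → (p : ℤ) ∣ s - 1 := by
    intro p hp hpd
    set w := y ^ (orderOf y / p) with hw
    have hwo : orderOf w = p := orderOf_pow_orderOf_div (orderOf_pos y).ne' hpd
    have hgw : g * w * g⁻¹ = w ^ s := by
      rw [hw, ← conj_pow, ← hs, ← zpow_natCast (y ^ s), ← zpow_mul, mul_comm, zpow_mul, zpow_natCast]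
    have hc := h.commute_of_prime_order (x := g) (y := w) hg (by rw [hwo]; exact hp)
      (by rw [hgw]; exact zpow_mem (mem_zpowers w) s)
    rw [hc.eq, mul_inv_cancel_right] at hgw
    rw [← hwo, orderOf_dvd_iff_zpow_eq_one, zpow_sub, zpow_one, ← hgw, mul_inv_cancel]
  have hdiv := int_eq_one_of_pow hcop hpow hprime
  rw [orderOf_dvd_iff_zpow_eq_one, zpow_sub, zpow_one, mul_inv_eq_one] at hdiv
  exact mul_inv_eq_iff_eq_mul.mp (hs.symm.trans hdiv)

/-- The elements `x ^ i * y ^ j`. -/
theorem range_mul_pow_eq_top {P : Type*} [Group P] {x y : P} {n m r : ℕ} (hn : 0 < n) (hm : 0 < m)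
    (hx : x ^ n = 1) (hy : y ^ m = 1) (hr : x⁻¹ * y * x = y ^ r) (hgen : closure ({x, y} : Set P) = ⊤) :
    Function.Surjective (fun p : Fin n × Fin m => x ^ (p.1 : ℕ) * y ^ (p.2 : ℕ)) := by
  have hyx : ∀ j : ℕ, y ^ j * x = x * y ^ (r * j) := by
    intro j
    rw [pow_mul, ← hr]
    have : (x⁻¹ * y * x) ^ j = x⁻¹ * y ^ j * x := by
      have := conj_pow (i := j) (a := x⁻¹) (b := y)
      rwa [inv_inv] at this
    rw [this]; group
  have hyxi : ∀ i j : ℕ, y ^ j * x ^ i = x ^ i * y ^ (r ^ i * j) := by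
    intro i
    induction i with
    | zero => intro j; simp
    | succ i ih =>
      intro j
      rw [pow_succ, ← mul_assoc, ih, mul_assoc, hyx, ← mul_assoc, pow_succ' r, mul_assoc r]
  let T : Subgroup P :=
    { carrier := {g | ∃ i j : ℕ, g = x ^ i * y ^ j}
      one_mem' := ⟨0, 0, by simp⟩
      mul_mem' := by
        rintro _ _ ⟨i, j, rfl⟩ ⟨k, l, rfl⟩
        refine ⟨i + k, r ^ k * j + l, ?_⟩
        rw [pow_add, pow_add, mul_assoc, ← mul_assoc (y ^ j), hyxi]
        group
      inv_mem' := by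
        rintro _ ⟨i, j, rfl⟩
        refine ⟨(n - 1) * i, r ^ ((n - 1) * i) * ((m - 1) * j), ?_⟩
        rw [← hyxi, mul_inv_rev]
        have e : ∀ (g : P) (a : ℕ), 0 < a → g ^ a = 1 → ∀ b : ℕ, (g ^ b)⁻¹ = g ^ ((a - 1) * b) := by
          intro g a ha hga b
          refine inv_eq_of_mul_eq_one_right ?_
          rw [← pow_add, show b + (a - 1) * b = a * b by
            obtain ⟨a, rfl⟩ := Nat.exists_eq_add_of_lt ha
            simp; ring, pow_mul, hga, one_pow]
        rw [e y m hm hy, e x n hn hx] }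
  have hT : T = ⊤ := by
    rw [eq_top_iff, ← hgen, closure_le]
    rintro _ (rfl | rfl)
    · exact ⟨1, 0, by simp⟩
    · exact ⟨0, 1, by simp⟩
  intro g
  obtain ⟨i, j, rfl⟩ := hT.ge (mem_top g)
  exact ⟨(⟨i % n, Nat.mod_lt _ hn⟩, ⟨j % m, Nat.mod_lt _ hm⟩), by
    show x ^ (i % n) * y ^ (j % m) = _
    rw [← pow_eq_pow_mod i hx, ← pow_eq_pow_mod j hy]⟩

theorem zGroup_presentation {A : Type*} [Group A] [Finite A] [IsZGroup A] (h : SmallCyclic A) :
    ∃ n m r : ℕ, 0 < n ∧ 0 < m ∧ Nat.Coprime (r - 1) m ∧ Nat.Coprime n m ∧ 1 ≤ r ∧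
      r ^ (n / ∏ p ∈ n.primeFactors, p) % m = 1 % m ∧
      Nonempty (A ≃* PresentedGroup
        ({FreeGroup.of (0 : Fin 2) ^ n, FreeGroup.of (1 : Fin 2) ^ m,
          (FreeGroup.of (0 : Fin 2))⁻¹ * FreeGroup.of 1 * FreeGroup.of 0 * (FreeGroup.of (1 : Fin 2) ^ r)⁻¹} :
          Set (FreeGroup (Fin 2)))) := by
  have hNc := IsZGroup.isCyclic_commutator A
  have hcop := IsZGroup.coprime_commutator_index (G := A)
  obtain ⟨H, hH⟩ := Subgroup.exists_right_complement'_of_coprime hcop
  have hHc : IsCyclic H := by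
    have e : A ⧸ commutator A ≃* H := hH.symm.QuotientMulEquiv
    haveI : IsCyclic (A ⧸ commutator A) := IsZGroup.isCyclic_abelianization
    exact isCyclic_of_surjective e e.surjective
  obtain ⟨y', hy'⟩ := hNc.exists_generator
  obtain ⟨x', hx'⟩ := hHc.exists_generator
  set y : A := (y' : A)
  set x : A := (x' : A)
  have hNy : commutator A = zpowers y := by
    refine le_antisymm (fun g hg => ?_) (zpowers_le.mpr y'.2)
    obtain ⟨i, hi⟩ := mem_zpowers_iff.mp (hy' ⟨g, hg⟩)
    exact ⟨i, congrArg Subtype.val hi⟩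
  have hHx : H = zpowers x := by
    refine le_antisymm (fun g hg => ?_) (zpowers_le.mpr x'.2)
    obtain ⟨i, hi⟩ := mem_zpowers_iff.mp (hx' ⟨g, hg⟩)
    exact ⟨i, congrArg Subtype.val hi⟩
  set n := orderOf x
  set m := orderOf y
  have hn : 0 < n := orderOf_pos x
  have hm : 0 < m := orderOf_pos y
  have hcardN : Nat.card (commutator A) = m := by rw [hNy, Nat.card_zpowers]
  have hcardH : Nat.card H = n := by rw [hHx, Nat.card_zpowers]
  have hcard : Nat.card A = m * n := by rw [← hH.card_mul, hcardN, hcardH]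
  have hnm : Nat.Coprime n m := by
    have h2 := (commutator A).card_mul_index
    rw [hcard, hcardN] at h2
    rw [hcardN, Nat.eq_of_mul_eq_mul_left hm h2] at hcop
    exact hcop.symm
  have hnorm : ∀ g : A, ∀ w ∈ zpowers y, g * w * g⁻¹ ∈ zpowers y := fun g w hw => by
    rw [← hNy] at hw ⊢
    exact (inferInstance : (commutator A).Normal).conj_mem w hw g
  obtain ⟨r0, hr0⟩ := mem_powers_iff_mem_zpowers.mpr (hnorm x⁻¹ y (mem_zpowers y))
  set r := r0 + m with hrdef
  have hr : x⁻¹ * y * x = y ^ r := by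
    rw [hrdef, pow_add, pow_orderOf_eq_one, mul_one]
    simpa using hr0.symm
  have hgen : closure ({x, y} : Set A) = ⊤ := by
    have hx1 : x ∈ closure ({x, y} : Set A) := subset_closure (by simp)
    have hy1 : y ∈ closure ({x, y} : Set A) := subset_closure (by simp)
    rw [eq_top_iff]
    intro g _
    obtain ⟨⟨⟨a, ha⟩, ⟨b, hb⟩⟩, hab⟩ := hH.2 g
    rw [← hab]
    exact mul_mem ((zpowers_le.mpr hy1) (hNy.le ha)) ((zpowers_le.mpr hx1) (hHx.le hb))
  have hsurj := range_mul_pow_eq_top hn hm (pow_orderOf_eq_one x) (pow_orderOf_eq_one y) hr hgen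
  refine ⟨n, m, r, hn, hm, ?_, hnm, by omega, ?_, ?_⟩
  · -- `y ^ (r - 1)` generates the commutator subgroup
    set w := y ^ (r - 1)
    have hMn : (zpowers w).Normal := by
      constructor
      intro a ha g
      obtain ⟨i, rfl⟩ := mem_zpowers_iff.mp ha
      obtain ⟨j, hj⟩ := mem_zpowers_iff.mp (hnorm g y (mem_zpowers y))
      rw [← conj_zpow]
      refine zpow_mem ?_ _
      simp only [w]
      rw [← conj_pow, ← hj, ← zpow_natCast (y ^ j), ← zpow_mul, mul_comm, zpow_mul, zpow_natCast]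
      exact zpow_mem (mem_zpowers _) j
    have hc : ∀ a b : A ⧸ zpowers w, a * b = b * a := by
      intro a b
      have hgen' : closure ({(x : A ⧸ zpowers w), (y : A ⧸ zpowers w)} : Set (A ⧸ zpowers w)) = ⊤ := by
        have := congrArg (Subgroup.map (QuotientGroup.mk' (zpowers w))) hgen
        rwa [MonoidHom.map_closure, Subgroup.map_top_of_surjective _ (QuotientGroup.mk'_surjective _),
          Set.image_pair] at this
      have hxy : (x : A ⧸ zpowers w) * y = y * x := by
        rw [← QuotientGroup.mk_mul, ← QuotientGroup.mk_mul]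
        symm
        rw [QuotientGroup.eq]
        have e : (y * x)⁻¹ * (x * y) = y ^ (-((r : ℤ) - 1)) := by
          calc (y * x)⁻¹ * (x * y) = (x⁻¹ * y * x)⁻¹ * y := by group
            _ = _ := by rw [hr, ← zpow_natCast, ← zpow_neg, ← zpow_add_one]; congr 1; ring
        rw [e, zpow_neg, inv_mem_iff, show (r : ℤ) - 1 = ((r - 1 : ℕ) : ℤ) by omega, zpow_natCast]
        exact mem_zpowers _
      have hmc : IsMulCommutative (closure ({(x : A ⧸ zpowers w), (y : A ⧸ zpowers w)} : Set (A ⧸ zpowers w))) :=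
        Subgroup.isMulCommutative_closure (by
          rintro u (rfl | rfl) v (rfl | rfl)
          · rfl
          · exact hxy
          · exact hxy.symm
          · rfl)
      exact congrArg Subtype.val (mul_comm' (⟨a, hgen'.ge (mem_top a)⟩ :
        closure ({(x : A ⧸ zpowers w), (y : A ⧸ zpowers w)} : Set (A ⧸ zpowers w))) ⟨b, hgen'.ge (mem_top b)⟩)
    have hle : commutator A ≤ zpowers w := by
      rw [_root_.commutator_def, commutator_le]
      intro a _ b _
      rw [← QuotientGroup.eq_one_iff]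
      have := hc (a : A ⧸ zpowers w) (b : A ⧸ zpowers w)
      simp only [commutatorElement_def, QuotientGroup.mk_mul, QuotientGroup.mk_inv]
      rw [this]; group
    have hwy : orderOf w = m := by
      refine Nat.dvd_antisymm (orderOf_dvd_of_pow_eq_one ?_) ?_
      · rw [← pow_mul, mul_comm, pow_mul, pow_orderOf_eq_one, one_pow]
      · rw [← hcardN, ← Nat.card_zpowers]
        exact Subgroup.card_dvd_of_le hle
    rw [orderOf_pow, Nat.div_eq_self] at hwy
    rcases hwy with h0 | h0
    · omega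
    · exact Nat.coprime_comm.mp h0
  · -- the squarefree part centralises the commutator subgroup
    set k := n / ∏ p ∈ n.primeFactors, p with hk
    have hd : (∏ p ∈ n.primeFactors, p) ∣ n := Nat.prod_primeFactors_dvd n
    have hP0 : 0 < ∏ p ∈ n.primeFactors, p := Finset.prod_pos fun p hp => (Nat.prime_of_mem_primeFactors hp).pos
    have hkn : k * (∏ p ∈ n.primeFactors, p) = n := Nat.div_mul_cancel hd
    have hk0 : 0 < k := Nat.pos_of_ne_zero fun h0 => by rw [h0, zero_mul] at hkn; omega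
    have hord : orderOf (x ^ k) = ∏ p ∈ n.primeFactors, p := by
      rw [orderOf_pow_of_dvd hk0.ne' ⟨_, hkn.symm⟩]
      exact Nat.div_eq_of_eq_mul_right hk0 hkn.symm
    set g := x ^ k with hg
    let D : Subgroup A := zpowers g ⊓ centralizer {y}
    have hD : (∏ p ∈ n.primeFactors, p) ∣ Nat.card D := by
      refine Finset.prod_primes_dvd _ (fun p hp => (Nat.prime_of_mem_primeFactors hp).prime) fun p hp => ?_
      have hpp := Nat.prime_of_mem_primeFactors hp
      have hpd : p ∣ orderOf g := hord ▸ Finset.dvd_prod_of_mem _ hp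
      set w := g ^ (orderOf g / p)
      have hwo : orderOf w = p := orderOf_pow_orderOf_div (orderOf_pos g).ne' hpd
      have hcw : Commute w y := by
        refine h.commute_of_coprime (by rw [hwo]; exact hpp) ?_ (hnorm w y (mem_zpowers y))
        rw [hwo]
        exact hnm.coprime_dvd_left (Nat.dvd_of_mem_primeFactors hp)
      have hwD : w ∈ D := ⟨pow_mem (mem_zpowers g) _, mem_centralizer_singleton_iff.mpr hcw.eq⟩
      exact hwo ▸ orderOf_dvd_natCard D hwD
    have hDg : D = zpowers g := eq_of_le_of_card_ge inf_le_left (by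
      rw [Nat.card_zpowers, hord]; exact Nat.le_of_dvd Nat.card_pos hD)
    have hgy : Commute g y := mem_centralizer_singleton_iff.mp (hDg.ge (mem_zpowers g)).2
    have hyr : ∀ i : ℕ, (x ^ i)⁻¹ * y * x ^ i = y ^ r ^ i := by
      intro i
      induction i with
      | zero => simp
      | succ i ih =>
        calc (x ^ (i + 1))⁻¹ * y * x ^ (i + 1) = x⁻¹ * ((x ^ i)⁻¹ * y * x ^ i) * x := by rw [pow_succ]; group
          _ = x⁻¹ * y ^ r ^ i * (x⁻¹)⁻¹ := by rw [ih, inv_inv]
          _ = _ := by rw [← conj_pow, inv_inv, hr, ← pow_mul, pow_succ']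
    have h1 := hyr k
    rw [← hg, mul_assoc, ← hgy.eq, inv_mul_cancel_left] at h1
    exact (pow_eq_pow_iff_modEq.mp (h1.symm.trans (pow_one y).symm) : r ^ k ≡ 1 [MOD m])
  · set rels : Set (FreeGroup (Fin 2)) := {FreeGroup.of (0 : Fin 2) ^ n, FreeGroup.of (1 : Fin 2) ^ m,
      (FreeGroup.of (0 : Fin 2))⁻¹ * FreeGroup.of 1 * FreeGroup.of 0 * (FreeGroup.of (1 : Fin 2) ^ r)⁻¹}
    have hrels : ∀ w ∈ rels, FreeGroup.lift ![x, y] w = 1 := by
      rintro w (rfl | rfl | rfl)
      · simp [n, pow_orderOf_eq_one]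
      · simp [m, pow_orderOf_eq_one]
      · simp only [map_mul, map_inv, map_pow, FreeGroup.lift_apply_of, Matrix.cons_val_zero, Matrix.cons_val_one]
        rw [hr, mul_inv_cancel]
    let φ := PresentedGroup.toGroup hrels
    let X : PresentedGroup rels := PresentedGroup.of 0
    let Y : PresentedGroup rels := PresentedGroup.of 1
    have hrel : ∀ w ∈ rels, PresentedGroup.mk rels w = 1 := fun w hw => PresentedGroup.one_of_mem hw
    have hX : X ^ n = 1 := by
      have := hrel (FreeGroup.of (0 : Fin 2) ^ n) (by simp [rels])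
      rwa [map_pow] at this
    have hY : Y ^ m = 1 := by
      have := hrel (FreeGroup.of (1 : Fin 2) ^ m) (by simp [rels])
      rwa [map_pow] at this
    have hR : X⁻¹ * Y * X = Y ^ r := by
      have := hrel _ (show (FreeGroup.of (0 : Fin 2))⁻¹ * FreeGroup.of 1 * FreeGroup.of 0 *
        (FreeGroup.of (1 : Fin 2) ^ r)⁻¹ ∈ rels by simp [rels])
      simp only [map_mul, map_inv, map_pow] at this
      exact mul_inv_eq_one.mp this
    have hP : closure ({X, Y} : Set (PresentedGroup rels)) = ⊤ := by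
      rw [eq_top_iff, ← PresentedGroup.closure_range_of rels]
      refine closure_mono ?_
      rintro _ ⟨i, rfl⟩
      fin_cases i <;> simp [X, Y]
    have hsP := range_mul_pow_eq_top hn hm hX hY hR hP
    have hφ : ∀ p : Fin n × Fin m, φ (X ^ (p.1 : ℕ) * Y ^ (p.2 : ℕ)) = x ^ (p.1 : ℕ) * y ^ (p.2 : ℕ) := fun p => by
      simp [φ, X, Y, PresentedGroup.toGroup.of]
    have hbij : Function.Bijective (fun p : Fin n × Fin m => x ^ (p.1 : ℕ) * y ^ (p.2 : ℕ)) :=
      hsurj.bijective_of_nat_card_le (by rw [hcard, Nat.card_prod, Nat.card_fin, Nat.card_fin, mul_comm])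
    refine ⟨(MulEquiv.ofBijective φ ⟨?_, ?_⟩).symm⟩
    · intro a b hab
      obtain ⟨p, rfl⟩ := hsP a
      obtain ⟨q, rfl⟩ := hsP b
      rw [hφ, hφ] at hab
      rw [show p = q from hbij.1 hab]
    · intro a
      obtain ⟨p, rfl⟩ := hsurj a
      exact ⟨_, hφ p⟩

end Cfsg.Agent.Frobenius
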