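import Cfsg.Agent.Lib.Frobenius.ZassRep
import Cfsg.Agent.Lib.Frobenius.Complement

/-!
Groups with a fixed-point-free representation have cyclic subgroups of order `p * q`.

Main results (namespace `Cfsg.Agent.Frobenius.FPFRep`):
* `restrict`, `sum_eq_zero`, `smallCyclic`
-/

namespace Cfsg.Agent.Frobenius.FPFRep

open Matrix

variable {G : Type*} [Group G] (ρ : FPFRep G)

/-- Restriction to a subgroup. -/
def restrict (B : Subgroup G) : FPFRep B where
  n := ρ.n
  M := ρ.M.comp B.subtype
  pos := ρ.pos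
  fpf b hb := ρ.fpf b (fun h => hb (Subtype.ext h))

theorem sum_eq_zero {B : Subgroup G} [Fintype B] (hB : B ≠ ⊥) :
    ∑ b : B, ρ.R b = 0 := by
  obtain ⟨b₀, hb₀, hne⟩ := B.ne_bot_iff_exists_ne_one.1 hB |>.elim fun b hb =>
    (⟨b, b.2, fun h => hb (Subtype.ext h)⟩ : ∃ x, x ∈ B ∧ x ≠ 1)
  refine ρ.mul_eq_zero_of_ne_one hne ?_
  rw [sub_mul, one_mul, Finset.mul_sum, sub_eq_zero]
  exact Fintype.sum_equiv (Equiv.mulLeft (⟨b₀, hb₀⟩ : B)) _ _ fun b => by simp [map_mul]

include ρ in
/-- Groups with a fixed-point-free representation have cyclic subgroups of order `p * q`. -/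
theorem smallCyclic [Finite G] : SmallCyclic G := by
  intro p q hp hq B hB
  classical
  wlog hpq : p ≤ q generalizing p q
  · exact this q p hq hp (by rw [hB, mul_comm]) (le_of_not_ge hpq)
  by_contra hc
  obtain ⟨S, hScard, hSne, hSuniq⟩ := exists_prime_subgroup_count hp hq hpq hB hc
  have : Fintype B := Fintype.ofFinite B
  set σ := ρ.restrict B with hσ
  have hz : ∀ K : Subgroup B, K ≠ ⊥ →
      ∑ a ∈ Finset.univ.filter (fun a : B => a ∈ K), σ.R a = 0 := by
    intro K hK
    rw [Finset.sum_subtype _ (p := (· ∈ K)) (by simp)]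
    exact σ.sum_eq_zero hK
  have hBne : (⊤ : Subgroup B) ≠ ⊥ := by
    intro h
    have h1 := congrArg (fun K : Subgroup B => Nat.card K) h
    simp only [Subgroup.card_top, Subgroup.card_bot, hB] at h1
    exact hp.ne_one (Nat.eq_one_of_mul_eq_one_right h1)
  have htot : ∑ a : B, σ.R a = 0 := by
    have := hz ⊤ hBne
    simpa using this
  have hcount : ∀ a : B, (S.filter fun K => a ∈ K).card = if a = 1 then q + 1 else 1 := by
    intro a
    split_ifs with h
    · subst h
      rw [Finset.filter_true_of_mem (fun K _ => K.one_mem), hScard]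
    · obtain ⟨K, hK, huniq⟩ := hSuniq a h
      rw [Finset.card_eq_one]
      exact ⟨K, Finset.eq_singleton_iff_unique_mem.2 ⟨Finset.mem_filter.2 hK,
        fun K' hK' => huniq K' (Finset.mem_filter.1 hK')⟩⟩
  have h0 : ∑ K ∈ S, ∑ a ∈ Finset.univ.filter (fun a : B => a ∈ K), σ.R a = 0 :=
    Finset.sum_eq_zero fun K hK => hz K (hSne K hK)
  simp only [Finset.sum_filter] at h0
  rw [Finset.sum_comm] at h0
  have h1 : ∀ a : B, (∑ K ∈ S, if a ∈ K then σ.R a else 0) =
      σ.R a + if a = 1 then q • (1 : σ.E) else 0 := by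
    intro a
    rw [← Finset.sum_filter, Finset.sum_const, hcount]
    split_ifs with h
    · subst h
      rw [map_one, add_nsmul, one_nsmul, add_comm]
    · rw [one_nsmul, add_zero]
  rw [Finset.sum_congr rfl (fun a _ => h1 a), Finset.sum_add_distrib, htot, zero_add,
    Finset.sum_ite_eq' Finset.univ (1 : B)] at h0
  simp only [Finset.mem_univ, if_true, nsmul_one] at h0
  have := σ.charZero
  exact hq.ne_zero (Nat.cast_eq_zero.1 h0)

end Cfsg.Agent.Frobenius.FPFRep
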