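import Cfsg.Agent.Lib.Frobenius.ZassFrame

/-!
Elements of order three outside a frame: normal form and uniqueness.

Main results (namespace `Cfsg.Agent.Frobenius.FPFRep`):
* `Normal` : axis `J D + K (D - 1)` with `D * D = D + 1`
* `exists_normal` : every outside element has a conjugate (by the frame) or inverse of one in normal
  form
* `normal_unique` : there is at most one element in normal form
-/

namespace Cfsg.Agent.Frobenius.FPFRep

open Matrix

variable {G : Type*} [Group G] [Fintype G] {ρ : FPFRep G} {i a c : G}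

/-- `c` is in normal form with parameter `D`. -/
structure Normal (hf : ρ.Frame i a) (c : G) (D : ρ.E) : Prop where
  hc : orderOf c = 3
  comm : hf.pair.Comm D
  sym : ρ.IsSym D
  golden : D * D = D + 1
  axis_eq : ρ.axis c = qsum (ρ.R i) (ρ.R (fj i a)) 0 0 D (D - 1)

theorem Frame.R_a (hf : ρ.Frame i a) : ρ.R a =
    (1 / 2 : ℝ) • (-(ρ.R i + ρ.R (fj i a) + ρ.R i * ρ.R (fj i a)) - 1) := by
  have h : ρ.R a + ρ.R a + 1 = -(ρ.R i + ρ.R (fj i a) + ρ.R i * ρ.R (fj i a)) := hf.axis_a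
  linear_combination (norm := module) (1 / 2 : ℝ) • h

theorem Frame.R_a_inv (hf : ρ.Frame i a) : ρ.R a⁻¹ =
    (1 / 2 : ℝ) • ((ρ.R i + ρ.R (fj i a) + ρ.R i * ρ.R (fj i a)) - 1) := by
  rw [ρ.R_inv_order_three hf.ha, hf.R_a]
  module

theorem Frame.axis_conj_a (hf : ρ.Frame i a) {D₁ D₂ D₃ : ρ.E} (h₁ : hf.pair.Comm D₁)
    (h₂ : hf.pair.Comm D₂) (h₃ : hf.pair.Comm D₃)
    (hc : ρ.axis c = qsum (ρ.R i) (ρ.R (fj i a)) 0 D₁ D₂ D₃) :
    ρ.axis (a * c * a⁻¹) = qsum (ρ.R i) (ρ.R (fj i a)) 0 D₃ D₁ D₂ := by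
  rw [ρ.axis_conj, hc, hf.R_a, hf.R_a_inv]
  have q := hf.pair
  set I := ρ.R i
  set J := ρ.R (fj i a)
  have a₁ : D₁ * I = I * D₁ ∧ D₁ * J = J * D₁ := h₁
  have a₂ : D₂ * I = I * D₂ ∧ D₂ * J = J * D₂ := h₂
  have a₃ : D₃ * I = I * D₃ ∧ D₃ * J = J * D₃ := h₃
  replace h₁ : q.Comm D₁ := h₁
  replace h₂ : q.Comm D₂ := h₂
  replace h₃ : q.Comm D₃ := h₃
  simp only [qsum, zero_add, smul_mul_assoc, mul_smul_comm, sub_mul, mul_sub, add_mul, mul_add,
    neg_mul, mul_neg, mul_assoc, smul_add, smul_sub, smul_neg, neg_neg, mul_one, one_mul, q.II,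
    q.JJ, q.JI, q.II', q.JJ', q.JI', a₁.1, a₂.1, a₃.1, a₁.2, a₂.2, a₃.2, h₁.mul_I' q, h₂.mul_I' q,
    h₃.mul_I' q, h₁.mul_J' q, h₂.mul_J' q, h₃.mul_J' q]
  module

theorem Frame.axis_conj_j (hf : ρ.Frame i a) {D₁ D₂ D₃ : ρ.E} (h₁ : hf.pair.Comm D₁)
    (h₂ : hf.pair.Comm D₂) (h₃ : hf.pair.Comm D₃)
    (hc : ρ.axis c = qsum (ρ.R i) (ρ.R (fj i a)) 0 D₁ D₂ D₃) :
    ρ.axis (fj i a * c * (fj i a)⁻¹) = qsum (ρ.R i) (ρ.R (fj i a)) 0 (-D₁) D₂ (-D₃) := by
  rw [ρ.axis_conj, hc, hf.R_inv_j]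
  have q := hf.pair
  set I := ρ.R i
  set J := ρ.R (fj i a)
  have a₁ : D₁ * I = I * D₁ ∧ D₁ * J = J * D₁ := h₁
  have a₂ : D₂ * I = I * D₂ ∧ D₂ * J = J * D₂ := h₂
  have a₃ : D₃ * I = I * D₃ ∧ D₃ * J = J * D₃ := h₃
  simp only [qsum, zero_add, mul_add, add_mul, neg_mul, mul_neg, mul_assoc, neg_neg, mul_one,
    q.JJ, q.JI, q.JJ', q.JI', a₁.2, a₂.2, a₃.2]
  module

theorem exists_normal (hf : ρ.Frame i a) (ho : Outside i a c) :
    ∃ t ∈ Subgroup.closure ({i, a} : Set G), ∃ D : ρ.E,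
      Normal hf (t * c * t⁻¹) D ∨ Normal hf (t * c⁻¹ * t⁻¹) D := by
  obtain ⟨D₁, D₂, D₃, h₁, h₂, h₃, s₁, s₂, s₃, c23, c13, c12, hS, hC, e, he, hcase⟩ :=
    axis_components hf ho
  have hia : a ∈ Subgroup.closure ({i, a} : Set G) := Subgroup.subset_closure (by simp)
  have hii : i ∈ Subgroup.closure ({i, a} : Set G) := Subgroup.subset_closure (by simp)
  -- first move the vanishing coordinate to the front
  obtain ⟨t, ht, E₂, E₃, g₂, g₃, u₂, u₃, hprod, hcomm, hsum, hEC⟩ : ∃ t ∈ Subgroup.closure ({i, a} : Set G),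
      ∃ E₂ E₃ : ρ.E, hf.pair.Comm E₂ ∧ hf.pair.Comm E₃ ∧ ρ.IsSym E₂ ∧ ρ.IsSym E₃ ∧
        E₂ * E₃ = (1 : ℝ) • 1 ∧ E₃ * E₂ = (1 : ℝ) • 1 ∧ E₂ * E₂ + E₃ * E₃ = (3 : ℝ) • 1 ∧
        ρ.axis (t * c * t⁻¹) = qsum (ρ.R i) (ρ.R (fj i a)) 0 0 E₂ E₃ := by
    have hflip : ∀ (t : G), t ∈ Subgroup.closure ({i, a} : Set G) → ∀ (E₂ E₃ : ρ.E),
        hf.pair.Comm E₂ → hf.pair.Comm E₃ → ρ.IsSym E₂ → ρ.IsSym E₃ →
        E₂ * E₃ = e • 1 → E₃ * E₂ = e • 1 → E₂ * E₂ + E₃ * E₃ = (3 : ℝ) • 1 →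
        ρ.axis (t * c * t⁻¹) = qsum (ρ.R i) (ρ.R (fj i a)) 0 0 E₂ E₃ →
        ∃ t ∈ Subgroup.closure ({i, a} : Set G), ∃ E₂ E₃ : ρ.E, hf.pair.Comm E₂ ∧
          hf.pair.Comm E₃ ∧ ρ.IsSym E₂ ∧ ρ.IsSym E₃ ∧ E₂ * E₃ = (1 : ℝ) • 1 ∧
          E₃ * E₂ = (1 : ℝ) • 1 ∧ E₂ * E₂ + E₃ * E₃ = (3 : ℝ) • 1 ∧
          ρ.axis (t * c * t⁻¹) = qsum (ρ.R i) (ρ.R (fj i a)) 0 0 E₂ E₃ := by
      intro t ht E₂ E₃ g₂ g₃ u₂ u₃ hp hp' hsum hEC
      rcases he with rfl | rfl
      · exact ⟨t, ht, E₂, E₃, g₂, g₃, u₂, u₃, hp, hp', hsum, hEC⟩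
      refine ⟨fj i a * t, mul_mem (mul_mem (mul_mem hia hii) (inv_mem hia)) ht, E₂, -E₃, g₂,
        g₃.neg hf.pair, u₂, u₃.adj.neg, ?_, ?_, ?_, ?_⟩
      · rw [mul_neg, hp]; module
      · rw [neg_mul, hp']; module
      · rw [neg_mul_neg, hsum]
      · rw [show fj i a * t * c * (fj i a * t)⁻¹ = fj i a * (t * c * t⁻¹) * (fj i a)⁻¹ by group,
          hf.axis_conj_j (IsQPair.Comm.zero hf.pair) g₂ g₃ hEC, neg_zero]
    rcases hcase with ⟨rfl, hp⟩ | ⟨rfl, hp⟩ | ⟨rfl, hp⟩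
    · refine hflip 1 (one_mem _) D₂ D₃ h₂ h₃ s₂ s₃ hp (c23 ▸ hp) ?_ (by simpa using hC)
      simpa using hS
    · refine hflip (a * a) (mul_mem hia hia) D₃ D₁ h₃ h₁ s₃ s₁ (c13 ▸ hp) hp ?_ ?_
      · rw [← hS]; simp [add_comm]
      · rw [show a * a * c * (a * a)⁻¹ = a * (a * c * a⁻¹) * a⁻¹ by group]
        exact hf.axis_conj_a h₃ h₁ h₂ (hf.axis_conj_a h₁ h₂ h₃ hC)
    · refine hflip a hia D₁ D₂ h₁ h₂ s₁ s₂ hp (c12 ▸ hp) ?_ (hf.axis_conj_a h₁ h₂ h₃ hC)
      simpa using hS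
  rw [one_smul] at hprod hcomm
  -- the parameter satisfies one of the two golden equations
  have hord : orderOf (t * c * t⁻¹) = 3 := by
    rw [← MulAut.conj_apply, MulEquiv.orderOf_eq, ho.hc]
  have hg : ρ.tr (fj i a * (t * c * t⁻¹)) = -E₂ := by
    have h := two_mul_tr (ρ := ρ) hf.hj hord
    rw [hEC] at h
    have a₂ : E₂ * ρ.R (fj i a) = ρ.R (fj i a) * E₂ := g₂.2
    have a₃ : E₃ * ρ.R (fj i a) = ρ.R (fj i a) * E₃ := g₃.2
    refine smul_right_injective ρ.E (two_ne_zero (α := ℝ)) (h.trans ?_)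
    simp only [qsum, zero_add, mul_zero, mul_add, add_mul, mul_assoc, a₂, a₃, hf.pair.JJ',
      hf.pair.JI']
    module
  have h4 : E₂ * (E₂ * (E₂ * E₂)) = (3 : ℝ) • (E₂ * E₂) - 1 := by
    have h2 : E₂ * E₂ = (3 : ℝ) • 1 - E₃ * E₃ := eq_sub_of_add_eq hsum
    calc E₂ * (E₂ * (E₂ * E₂)) = E₂ * (E₂ * ((3 : ℝ) • 1 - E₃ * E₃)) := by rw [← h2]
      _ = (3 : ℝ) • (E₂ * E₂) - (E₂ * (E₂ * E₃)) * E₃ := by
          simp only [mul_sub, mul_smul_comm, mul_one, mul_assoc]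
      _ = _ := by rw [hprod, mul_one, hprod]
  have hgold := ρ.five_or_ten (g := fj i a * (t * c * t⁻¹)) (by
    rw [hg]
    simp only [mul_neg, neg_mul, neg_neg, sub_neg_eq_add, mul_add, add_mul, mul_sub, sub_mul,
      mul_one, one_mul, mul_assoc, h4]
    module)
  rw [hg] at hgold
  simp only [mul_neg, neg_mul, neg_neg, sub_neg_eq_add] at hgold
  have hE3 : ∀ {F F' : ρ.E}, F' * F = 1 → F * F = F + 1 → F' = F - 1 := by
    intro F F' h1 h2
    calc F' = F' * (F * F - F) := by rw [h2, add_sub_cancel_left, mul_one]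
      _ = F - 1 := by rw [mul_sub, ← mul_assoc, h1, one_mul]
  rcases hgold with hq | hq
  · -- `E₂ * E₂ + E₂ = 1`: pass to the inverse
    refine ⟨t, ht, -E₂, Or.inr ⟨?_, g₂.neg hf.pair, u₂.adj.neg, ?_, ?_⟩⟩
    · rw [← MulAut.conj_apply, MulEquiv.orderOf_eq, orderOf_inv, ho.hc]
    · rw [neg_mul_neg]
      linear_combination (norm := module) hq
    · have h3 : -E₃ = -E₂ - 1 := hE3 (by rw [neg_mul_neg, hcomm]) (by
        rw [neg_mul_neg]; linear_combination (norm := module) hq)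
      rw [show t * c⁻¹ * t⁻¹ = (t * c * t⁻¹)⁻¹ by group, ρ.axis_inv hord, hEC, ← h3]
      simp only [qsum, mul_zero, mul_neg]
      abel
  · refine ⟨t, ht, E₂, Or.inl ⟨hord, g₂, u₂, ?_, ?_⟩⟩
    · linear_combination (norm := module) hq
    · rw [← hE3 hcomm (by linear_combination (norm := module) hq)]
      exact hEC

/-- At most one element is in normal form. -/
theorem normal_unique (hf : ρ.Frame i a) {d : G} {D E : ρ.E} (hn : Normal hf c D)
    (hm : Normal hf d E) : c = d ∧ D = E := by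
  by_cases hcd : c = d
  · subst hcd
    exact ⟨rfl, (hf.pair.qsum_inj (IsQPair.Comm.zero _) (IsQPair.Comm.zero _) hn.comm
      (hn.comm.sub _ (IsQPair.Comm.one _)) (IsQPair.Comm.zero _) (IsQPair.Comm.zero _) hm.comm
      (hm.comm.sub _ (IsQPair.Comm.one _)) (hn.axis_eq.symm.trans hm.axis_eq)).2.2.1⟩
  exfalso
  have q := hf.pair
  set I := ρ.R i with hIdef
  set J := ρ.R (fj i a) with hJdef
  have hD : q.Comm D := hn.comm
  have hE : q.Comm E := hm.comm
  have aD : D * I = I * D ∧ D * J = J * D := hn.comm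
  have aE : E * I = I * E ∧ E * J = J * E := hm.comm
  have c0 := IsQPair.Comm.zero q
  have c1 := IsQPair.Comm.one q
  have hnax : ρ.axis c = qsum I J 0 0 D (D - 1) := hn.axis_eq
  have hmax : ρ.axis d = qsum I J 0 0 E (E - 1) := hm.axis_eq
  have hcd' : c ≠ d⁻¹ := by
    intro e
    have h := hn.axis_eq
    rw [e, ρ.axis_inv hm.hc, hm.axis_eq] at h
    have h' : qsum I J 0 0 (-E) (-(E - 1)) = qsum I J 0 0 D (D - 1) := by
      rw [← h]; simp only [qsum, mul_zero, mul_neg]; abel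
    obtain ⟨-, -, e1, e2⟩ := q.qsum_inj c0 c0 (hE.neg q) ((hE.sub q c1).neg q) c0 c0 hD
      (hD.sub q c1) h'
    apply ρ.one_ne_zero'
    have : (2 : ℝ) • (1 : ρ.E) = 0 := by linear_combination (norm := module) e2 - e1
    exact (smul_eq_zero.1 this).resolve_left two_ne_zero
  -- the anticommutator of the axes
  have hP : ρ.axis d * ρ.axis c + ρ.axis c * ρ.axis d =
      (2 : ℝ) • ((D - E) * (D - E)) - (6 : ℝ) • 1 := by
    rw [hnax, hmax]
    simp only [qsum, zero_add, mul_zero, mul_add, add_mul, mul_sub, sub_mul, mul_neg, neg_mul,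
      mul_assoc, mul_one, one_mul, q.II', q.JJ', q.JI', q.II, q.JJ, q.JI, aD.1, aD.2, aE.1, aE.2,
      hD.mul_I' q, hD.mul_J' q, hE.mul_I' q, hE.mul_J' q, hn.golden, hm.golden]
    module
  -- excluded values
  have hnot : ∀ r : ℝ, (r = 2 ∨ r = 4) → (D - E) * (D - E) ≠ r • 1 := by
    intro r hr hX
    have hDD : ∀ x, D * (D * x) = D * x + x := fun x => by
      rw [← mul_assoc, hn.golden, add_mul, one_mul]
    have hEE : ∀ x, E * (E * x) = E * x + x := fun x => by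
      rw [← mul_assoc, hm.golden, add_mul, one_mul]
    have hED : E * D = D + E + (2 - r) • 1 - D * E := by
      simp only [mul_sub, sub_mul, hn.golden, hm.golden] at hX
      linear_combination (norm := module) -hX
    have hED' : ∀ x, E * (D * x) = D * x + E * x + (2 - r) • x - D * (E * x) := fun x => by
      rw [← mul_assoc, hED, sub_mul, add_mul, add_mul, smul_mul_assoc, one_mul, mul_assoc]
    set N := D * E - E * D with hNdef
    have hN : q.Comm N := (hD.mul q hE).sub q (hE.mul q hD)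
    have aN : N * I = I * N ∧ N * J = J * N := hN
    have hNN : N * N = (r * r - 5 * r) • 1 := by
      simp only [hNdef, mul_add, add_mul, mul_sub, sub_mul, smul_mul_assoc, mul_smul_comm, mul_assoc,
        smul_add, smul_sub, mul_one, one_mul, hED, hED', hDD, hEE, hn.golden, hm.golden]
      module
    have hdj : orderOf (fj i a * d * (fj i a)⁻¹) = 3 := by
      rw [← MulAut.conj_apply, MulEquiv.orderOf_eq, hm.hc]
    have hda : orderOf (a * d * a⁻¹) = 3 := by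
      rw [← MulAut.conj_apply, MulEquiv.orderOf_eq, hm.hc]
    have hone : ∀ s : ℝ, s ≠ 0 → s • (1 : ρ.E) = 0 → False := fun s hs h =>
      ρ.one_ne_zero' ((smul_eq_zero.1 h).resolve_left hs)
    rcases hr with rfl | rfl
    · -- `r = 2`: compare with the conjugate by `j`
      have hax : ρ.axis (fj i a * d * (fj i a)⁻¹) = qsum I J 0 0 E (-(E - 1)) := by
        rw [hf.axis_conj_j c0 hE (hE.sub q c1) hm.axis_eq, neg_zero]
      have n1 : c ≠ fj i a * d * (fj i a)⁻¹ := by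
        intro e
        have h := hn.axis_eq
        rw [e, hax] at h
        obtain ⟨-, -, e1, e2⟩ := q.qsum_inj c0 c0 hE ((hE.sub q c1).neg q) c0 c0 hD (hD.sub q c1) h
        have e3 : D = 1 := by linear_combination (norm := module) (-1 / 2 : ℝ) • e1 - (1 / 2 : ℝ) • e2
        have h9 := hn.golden
        rw [e3, mul_one] at h9
        exact ρ.one_ne_zero' (by linear_combination (norm := module) -h9)
      have n2 : c ≠ (fj i a * d * (fj i a)⁻¹)⁻¹ := by
        intro e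
        have h := hn.axis_eq
        rw [e, ρ.axis_inv hdj, hax] at h
        have h' : qsum I J 0 0 (-E) (E - 1) = qsum I J 0 0 D (D - 1) := by
          rw [← h]; simp only [qsum, mul_zero, mul_neg]; abel
        obtain ⟨-, -, e1, e2⟩ := q.qsum_inj c0 c0 (hE.neg q) (hE.sub q c1) c0 c0 hD (hD.sub q c1) h'
        have e3 : D = 0 := by linear_combination (norm := module) (-1 / 2 : ℝ) • e1 - (1 / 2 : ℝ) • e2
        have h9 := hn.golden
        rw [e3, mul_zero, zero_add] at h9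
        exact ρ.one_ne_zero' h9.symm
      obtain ⟨σ, hσ, hσ'⟩ := sq_value (ρ.pair_trichotomy hdj hn.hc n1 n2)
      have hsq : ρ.axis (fj i a * d * (fj i a)⁻¹) * ρ.axis c + ρ.axis c *
          ρ.axis (fj i a * d * (fj i a)⁻¹) =
          (-2 : ℝ) • (D + E - 1 + I * N) := by
        rw [hax, hnax]
        simp only [hNdef, qsum, zero_add, mul_zero, mul_add, add_mul, mul_sub, sub_mul, mul_neg,
          neg_mul, mul_assoc, mul_one, one_mul, q.II', q.JJ', q.JI', q.II, q.JJ, q.JI, aD.1, aD.2,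
          aE.1, aE.2, hD.mul_I' q, hD.mul_J' q, hE.mul_I' q, hE.mul_J' q]
        module
      rw [hsq] at hσ'
      have hval : ((-2 : ℝ) • (D + E - 1 + I * N)) * ((-2 : ℝ) • (D + E - 1 + I * N)) =
          (36 : ℝ) • 1 := by
        simp only [hNdef, mul_add, add_mul, mul_sub, sub_mul, smul_mul_assoc, mul_smul_comm,
          mul_assoc, mul_neg, neg_mul, smul_add, smul_sub, smul_neg, mul_one, one_mul, q.II, q.II', aD.1,
          aE.1, hD.mul_I' q, hE.mul_I' q, hED, hED', hDD, hEE, hn.golden, hm.golden]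
        module
      rw [hval] at hσ'
      refine hone (36 - σ) ?_ (by linear_combination (norm := module) hσ')
      rcases hσ with rfl | rfl <;> norm_num
    · -- `r = 4`: compare with the conjugate by `a`
      have hax : ρ.axis (a * d * a⁻¹) = qsum I J 0 (E - 1) 0 E :=
        hf.axis_conj_a c0 hE (hE.sub q c1) hm.axis_eq
      have hD0 : D ≠ 0 := fun e3 => by
        have h9 := hn.golden
        rw [e3, mul_zero, zero_add] at h9
        exact ρ.one_ne_zero' h9.symm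
      have n1 : c ≠ a * d * a⁻¹ := by
        intro e
        have h := hn.axis_eq
        rw [e, hax] at h
        exact hD0 (q.qsum_inj c0 (hE.sub q c1) c0 hE c0 c0 hD (hD.sub q c1) h).2.2.1.symm
      have n2 : c ≠ (a * d * a⁻¹)⁻¹ := by
        intro e
        have h := hn.axis_eq
        rw [e, ρ.axis_inv hda, hax] at h
        have h' : qsum I J 0 (-(E - 1)) 0 (-E) = qsum I J 0 0 D (D - 1) := by
          rw [← h]; simp only [qsum, mul_zero, mul_neg]; abel
        exact hD0 (q.qsum_inj c0 ((hE.sub q c1).neg q) c0 (hE.neg q) c0 c0 hD (hD.sub q c1)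
          h').2.2.1.symm
      have hsq : ρ.axis (a * d * a⁻¹) * ρ.axis c + ρ.axis c * ρ.axis (a * d * a⁻¹) =
          qsum I J ((2 : ℝ) • 1 - (D - E)) N N (-N) := by
        rw [hax, hnax]
        simp only [hNdef, qsum, zero_add, mul_zero, mul_add, add_mul, mul_sub, sub_mul, mul_neg,
          neg_mul, mul_assoc, mul_one, one_mul, q.II', q.JJ', q.JI', q.II, q.JJ, q.JI, aD.1, aD.2,
          aE.1, aE.2, hD.mul_I' q, hD.mul_J' q, hE.mul_I' q, hE.mul_J' q, hED, zero_mul, neg_neg,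
          mul_smul_comm, smul_mul_assoc]
        module
      have hscal : ∀ s : ℝ, qsum I J ((2 : ℝ) • 1 - (D - E)) N N (-N) = s • 1 → False := by
        intro s h
        have hz : qsum I J (s • 1) 0 0 0 = s • 1 := by simp [qsum]
        rw [← hz] at h
        have hNz := (q.qsum_inj ((c1.smul q _).sub q (hD.sub q hE)) hN hN (hN.neg q) (c1.smul q _)
          c0 c0 c0 h).2.1
        rw [hNz, mul_zero] at hNN
        exact hone ((4 : ℝ) * 4 - 5 * 4) (by norm_num) hNN.symm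
      have hval : qsum I J (-(D - E)) N N (-N) * qsum I J (-(D - E)) N N (-N) = (16 : ℝ) • 1 := by
        simp only [qsum, hNdef, mul_add, add_mul, mul_sub, sub_mul, mul_assoc, mul_neg, neg_mul,
          smul_mul_assoc, mul_smul_comm, smul_add, smul_sub, smul_neg, mul_one, one_mul, q.II, q.JJ, q.JI, q.II',
          q.JJ', q.JI', aD.1, aE.1, aD.2, aE.2, hD.mul_I' q, hE.mul_I' q, hD.mul_J' q,
          hE.mul_J' q, hED, hED', hDD, hEE, hn.golden, hm.golden]
        module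
      have hsplit : qsum I J (-(D - E)) N N (-N) =
          qsum I J ((2 : ℝ) • 1 - (D - E)) N N (-N) - (2 : ℝ) • 1 := by
        simp only [qsum]; module
      rw [hsplit] at hval
      rcases ρ.pair_trichotomy hda hn.hc n1 n2 with h | h | ⟨h, -⟩ <;> rw [hsq] at h
      · exact hscal 2 (by rw [h, Algebra.smul_def, mul_one, map_ofNat])
      · exact hscal (-2) (by rw [h, neg_smul, Algebra.smul_def, mul_one, map_ofNat])
      · refine hscal 2 ?_
        set Q := qsum I J ((2 : ℝ) • 1 - (D - E)) N N (-N)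
        have h20 : (20 : ρ.E) = (20 : ℝ) • 1 := by rw [Algebra.smul_def, mul_one, map_ofNat]
        simp only [mul_sub, sub_mul, smul_mul_assoc, mul_smul_comm, one_mul, mul_one, h, h20] at hval
        linear_combination (norm := module) (-1 / 4 : ℝ) • hval
  rcases ρ.pair_trichotomy hm.hc hn.hc hcd hcd' with h | h | ⟨-, w, hw, hw'⟩
  · refine hnot 4 (Or.inr rfl) ?_
    rw [hP] at h
    have h2 : (2 : ρ.E) = (2 : ℝ) • 1 := by rw [Algebra.smul_def, mul_one, map_ofNat]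
    rw [h2] at h
    linear_combination (norm := module) (1 / 2 : ℝ) • h
  · refine hnot 2 (Or.inl rfl) ?_
    rw [hP] at h
    have h2 : (2 : ρ.E) = (2 : ℝ) • 1 := by rw [Algebra.smul_def, mul_one, map_ofNat]
    rw [h2] at h
    linear_combination (norm := module) (1 / 2 : ℝ) • h
  · -- an eigenvalue `3 + √5` exceeds the bound
    have hXw : ρ.B (((D - E) * (D - E)) *ᵥ w) w = (3 + Real.sqrt 5) * ρ.B w w := by
      have h1 : ρ.B ((ρ.axis d * ρ.axis c + ρ.axis c * ρ.axis d) *ᵥ w) w =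
          2 * Real.sqrt 5 * ρ.B w w := by rw [hw', B_smul_left]
      rw [hP, sub_mulVec, smul_mulVec, B_sub_left, B_smul_left, ρ.smul_one_mulVec,
        B_smul_left] at h1
      linarith
    have hgold : ∀ {F : ρ.E}, ρ.IsSym F → F * F = F + 1 →
        ρ.B ((2 : ℝ) • (F *ᵥ w) - w) ((2 : ℝ) • (F *ᵥ w) - w) = 5 * ρ.B w w := by
      intro F hF hF2
      have h1 : ρ.B (F *ᵥ w) (F *ᵥ w) = ρ.B w (F *ᵥ w) + ρ.B w w := by
        rw [hF, mulVec_mulVec, hF2, add_mulVec, one_mulVec, B_add_right]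
      simp only [B_sub_left, B_sub_right, B_smul_left, B_smul_right, h1, ρ.B_comm (F *ᵥ w) w]
      ring
    have hle : ρ.B (((D - E) * (D - E)) *ᵥ w) w ≤ 5 * ρ.B w w := by
      rw [← mulVec_mulVec, hn.sym.adj.sub hm.sym.adj]
      set u := (2 : ℝ) • (D *ᵥ w) - w
      set v := (2 : ℝ) • (E *ᵥ w) - w
      have he : (D - E) *ᵥ w = (1 / 2 : ℝ) • (u - v) := by
        rw [sub_mulVec]; simp only [u, v]; module
      have hp := ρ.B_self_nonneg (u + v)
      rw [he, B_smul_left, B_smul_right, ρ.B_sub_left u v, ρ.B_sub_right u u v, ρ.B_sub_right v u v,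
        ρ.B_comm v u, hgold hn.sym hn.golden, hgold hm.sym hm.golden]
      rw [B_add_left, B_add_right, B_add_right, ρ.B_comm v u, hgold hn.sym hn.golden,
        hgold hm.sym hm.golden] at hp
      linarith
    have h5 : (2 : ℝ) < Real.sqrt 5 := by
      rw [Real.lt_sqrt (by norm_num)]; norm_num
    nlinarith [ρ.B_self_pos hw]

end Cfsg.Agent.Frobenius.FPFRep
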