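import Cfsg.Agent.Lib.Frobenius.ZassClassify

/-!
Frames from pairs of elements of order three; the elements of order three seen from a frame.

Main results (namespace `Cfsg.Agent.Frobenius.FPFRep`):
* `frame_of_pair` : two elements of order three generating different subgroups generate a group
  containing a frame
* `mem_core` : with an element in normal form, all elements of order three are in `closure {i, a, c₀}`
* `commute_a_of_commute`, `commute_normal_of_commute` : what centralises the quaternion group of a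
  frame centralises `closure {i, a, c₀}`
-/

namespace Cfsg.Agent.Frobenius.FPFRep

open Matrix

variable {G : Type*} [Group G] [Fintype G] {ρ : FPFRep G} {i a c : G}

theorem frame_of_neg_two {a c : G} (ha : orderOf a = 3) (hc : orderOf c = 3)
    (h : ρ.axis a * ρ.axis c + ρ.axis c * ρ.axis a = -2) : ρ.Frame (a * c) a := by
  set A := ρ.R a with hAdef
  set C := ρ.R c with hCdef
  have h2r : (2 : ρ.E) = (2 : ℝ) • 1 := by rw [Algebra.smul_def, mul_one, map_ofNat]
  rw [h2r] at h
  simp only [axis, ← hAdef, ← hCdef, add_mul, mul_add, one_mul, mul_one] at h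
  have hAA : A * A = -1 - A := by
    have := ρ.cube_relation ha
    linear_combination (norm := module) this
  have hCC : C * C = -1 - C := by
    have := ρ.cube_relation hc
    linear_combination (norm := module) this
  have hCA : C * A = -1 - A - C - A * C := by
    linear_combination (norm := module) (1 / 4 : ℝ) • h
  have hAA' : ∀ x, A * (A * x) = -x - A * x := fun x => by
    rw [← mul_assoc, hAA, sub_mul, neg_one_mul]
  have hCC' : ∀ x, C * (C * x) = -x - C * x := fun x => by
    rw [← mul_assoc, hCC, sub_mul, neg_one_mul]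
  have hCA' : ∀ x, C * (A * x) = -x - A * x - C * x - A * (C * x) := fun x => by
    rw [← mul_assoc, hCA, sub_mul, sub_mul, sub_mul, neg_one_mul, mul_assoc]
  have hI : ρ.R (a * c) = A * C := map_mul _ _ _
  have hJ : ρ.R (fj (a * c) a) = C - A := by
    rw [fj, map_mul, map_mul, map_mul, ρ.R_inv_order_three ha, ← hAdef, ← hCdef]
    simp only [mul_sub, sub_mul, mul_neg, neg_mul, mul_one, one_mul, mul_assoc, hAA, hAA', hCA,
      hCA', mul_add, add_mul]
    abel
  have hII : A * C * (A * C) = -1 := by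
    simp only [mul_sub, sub_mul, mul_neg, neg_mul, mul_one, one_mul, mul_assoc, hAA, hAA', hCC,
      hCC', hCA, hCA']
    abel
  refine ⟨?_, ha, ⟨?_, ?_, ?_⟩, ?_⟩
  · refine orderOf_eq_prime_pow (p := 2) (n := 1) (fun e => ?_) ?_
    · have e' := congrArg ρ.R e
      rw [map_pow, map_one, show 2 ^ 1 = 1 + 1 from rfl, pow_add, pow_one, hI, hII] at e'
      have := ρ.charZero
      norm_num at e'
    · refine ρ.R_injective ?_
      rw [map_pow, map_one, show 2 ^ (1 + 1) = 1 + 1 + 1 + 1 from rfl, pow_add, pow_add, pow_add,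
        pow_one, hI, hII, mul_assoc, hII, neg_one_mul, neg_neg]
  · rw [hI, hII]
  · rw [hJ]
    simp only [mul_sub, sub_mul, mul_neg, neg_mul, mul_one, one_mul, hAA, hCC, hCA]
    abel
  · rw [hI, hJ]
    simp only [mul_sub, sub_mul, mul_neg, neg_mul, mul_one, one_mul, mul_assoc, hAA, hAA', hCC,
      hCC', hCA, hCA']
    abel
  · rw [hI, hJ]
    simp only [axis, ← hAdef, mul_sub, mul_neg, mul_one, mul_assoc, hAA, hAA', hCC, hCA]
    abel

/-- Two elements of order three generating different subgroups give a frame. -/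
theorem frame_of_pair {a c : G} (ha : orderOf a = 3) (hc : orderOf c = 3) (h1 : c ≠ a)
    (h2 : c ≠ a⁻¹) :
    ∃ i' a' : G, i' ∈ Subgroup.closure ({a, c} : Set G) ∧ a' ∈ Subgroup.closure ({a, c} : Set G) ∧
      ρ.Frame i' a' := by
  have hma : a ∈ Subgroup.closure ({a, c} : Set G) := Subgroup.subset_closure (by simp)
  have hmc : c ∈ Subgroup.closure ({a, c} : Set G) := Subgroup.subset_closure (by simp)
  rcases ρ.pair_trichotomy ha hc h1 h2 with h | h | ⟨h, -⟩
  · refine ⟨a * c⁻¹, a, mul_mem hma (inv_mem hmc), hma, frame_of_neg_two ha ?_ ?_⟩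
    · rw [orderOf_inv, hc]
    · rw [ρ.axis_inv hc, mul_neg, neg_mul, ← neg_add, h]
  · exact ⟨a * c, a, mul_mem hma hmc, hma, frame_of_neg_two ha hc h⟩
  · refine ⟨c * (a * c * a⁻¹), c, mul_mem hmc (mul_mem (mul_mem hma hmc) (inv_mem hma)), hmc,
      frame_of_neg_two hc (by rw [← MulAut.conj_apply, MulEquiv.orderOf_eq, hc]) ?_⟩
    set A := ρ.axis a with hA
    set C := ρ.axis c with hC
    set P := A * C + C * A with hP
    have hAA : A * A = (-3 : ℝ) • 1 := by
      rw [hA, ρ.axis_sq ha, neg_smul, Algebra.smul_def, mul_one, map_ofNat]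
    have hCC : C * C = (-3 : ℝ) • 1 := by
      rw [hC, ρ.axis_sq hc, neg_smul, Algebra.smul_def, mul_one, map_ofNat]
    have h20 : P * P = (20 : ℝ) • 1 := by rw [h, Algebra.smul_def, mul_one, map_ofNat]
    have hAA' : ∀ x, A * (A * x) = (-3 : ℝ) • x := fun x => by
      rw [← mul_assoc, hAA, smul_mul_assoc, one_mul]
    have hCC' : ∀ x, C * (C * x) = (-3 : ℝ) • x := fun x => by
      rw [← mul_assoc, hCC, smul_mul_assoc, one_mul]
    have h20' : ∀ x, P * (P * x) = (20 : ℝ) • x := fun x => by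
      rw [← mul_assoc, h20, smul_mul_assoc, one_mul]
    have hAP : A * P = P * A := by
      simp only [hP, mul_add, add_mul, mul_assoc, hAA', hAA, mul_smul_comm, mul_one]
      abel
    have hCP : C * P = P * C := by
      simp only [hP, mul_add, add_mul, mul_assoc, hCC', hCC, mul_smul_comm, mul_one]
      abel
    have hAP' : ∀ x, A * (P * x) = P * (A * x) := fun x => by rw [← mul_assoc, hAP, mul_assoc]
    have hCP' : ∀ x, C * (P * x) = P * (C * x) := fun x => by rw [← mul_assoc, hCP, mul_assoc]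
    have hCA : C * A = P - A * C := by rw [hP]; abel
    have hCA' : ∀ x, C * (A * x) = P * x - A * (C * x) := fun x => by
      rw [← mul_assoc, hCA, sub_mul, mul_assoc A]
    have hRa : ρ.R a = (1 / 2 : ℝ) • (A - 1) := by
      simp only [hA, axis]; module
    have hRi : ρ.R a⁻¹ = (1 / 2 : ℝ) • (-A - 1) := by
      rw [ρ.R_inv_order_three ha, hRa]; module
    clear_value P
    rw [ρ.axis_conj, ← hC, hRa, hRi, show (-2 : ρ.E) = (-2 : ℝ) • 1 by
      rw [neg_smul, Algebra.smul_def, mul_one, map_ofNat]]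
    simp only [smul_mul_assoc, mul_smul_comm, mul_sub, sub_mul, mul_neg, neg_mul, mul_add, add_mul,
      mul_assoc, mul_one, one_mul, smul_sub, smul_neg, smul_smul, hAA, hAA', hCC, hCC', h20, h20',
      hAP, hAP', hCP, hCP', hCA, hCA']
    module

theorem Frame.inv_mul_conj (hf : ρ.Frame i a) : a⁻¹ * (i * a * i⁻¹) = (fj i a)⁻¹ := by
  refine ρ.R_injective ?_
  rw [map_mul, map_mul, map_mul, hf.R_inv_i, hf.R_inv_j, hf.R_a_inv, hf.R_a]
  simp only [smul_mul_assoc, mul_smul_comm, mul_sub, sub_mul, mul_neg, neg_mul, mul_add, add_mul,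
    mul_assoc, mul_one, one_mul, smul_add, smul_sub, smul_neg, neg_neg, hf.pair.II, hf.pair.II',
    hf.pair.JJ, hf.pair.JJ', hf.pair.JI, hf.pair.JI']
  module

omit [Fintype G] in
theorem Frame.inv_conj_fj (a i : G) : a⁻¹ * fj i a * a = i := by
  simp [fj, mul_assoc]

omit [Fintype G] in
theorem mem_closure_of_not_outside (hc : orderOf c = 3) (ho : ¬ Outside i a c) :
    c ∈ Subgroup.closure ({i, a} : Set G) := by
  by_contra hm
  have hi : i ∈ Subgroup.closure ({i, a} : Set G) := Subgroup.subset_closure (by simp)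
  have ha : a ∈ Subgroup.closure ({i, a} : Set G) := Subgroup.subset_closure (by simp)
  have hj : fj i a ∈ Subgroup.closure ({i, a} : Set G) := mul_mem (mul_mem ha hi) (inv_mem ha)
  refine ho ⟨hc, fun t ht => ?_⟩
  have htm : t ∈ Subgroup.closure ({i, a} : Set G) := by
    rcases ht with rfl | rfl | rfl | rfl
    · exact ha
    · exact mul_mem (mul_mem hi ha) (inv_mem hi)
    · exact mul_mem (mul_mem hj ha) (inv_mem hj)
    · exact mul_mem (mul_mem (mul_mem hi hj) ha) (inv_mem (mul_mem hi hj))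
  exact ⟨fun e => hm (e ▸ htm), fun e => hm (e ▸ inv_mem htm)⟩

/-- Every element of order three lies in the group of the normal form. -/
theorem mem_core {hf : ρ.Frame i a} {c₀ : G} {D : ρ.E} (hn : Normal hf c₀ D) (hc : orderOf c = 3) :
    c ∈ Subgroup.closure ({i, a, c₀} : Set G) := by
  have hle : Subgroup.closure ({i, a} : Set G) ≤ Subgroup.closure ({i, a, c₀} : Set G) :=
    Subgroup.closure_mono (by intro x hx; simp at hx ⊢; tauto)
  by_cases ho : Outside i a c
  · obtain ⟨t, ht, E, hE⟩ := exists_normal hf ho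
    have hc₀ : c₀ ∈ Subgroup.closure ({i, a, c₀} : Set G) := Subgroup.subset_closure (by simp)
    rcases hE with hE | hE
    · obtain ⟨e, -⟩ := normal_unique hf hn hE
      rw [show c = t⁻¹ * c₀ * t by rw [e]; group]
      exact mul_mem (mul_mem (inv_mem (hle ht)) hc₀) (hle ht)
    · obtain ⟨e, -⟩ := normal_unique hf hn hE
      rw [show c = (t⁻¹ * c₀ * t)⁻¹ by rw [e]; group]
      exact inv_mem (mul_mem (mul_mem (inv_mem (hle ht)) hc₀) (hle ht))
  · exact hle (mem_closure_of_not_outside hc ho)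

omit [Fintype G] in
theorem R_commute {n x : G} (h : n * x = x * n) : ρ.R n * ρ.R x = ρ.R x * ρ.R n := by
  rw [← map_mul, h, map_mul]

omit [Fintype G] in
/-- What centralises `i` and `j` centralises `a`. -/
theorem commute_a_of_commute (hf : ρ.Frame i a) {n : G} (h1 : n * i = i * n)
    (h2 : n * fj i a = fj i a * n) : n * a = a * n := by
  refine mul_inv_eq_iff_eq_mul.1 (ρ.axis_injective ?_)
  have e1 := R_commute (ρ := ρ) h1
  have e2 := R_commute (ρ := ρ) h2
  rw [ρ.axis_conj, hf.axis_a, mul_neg, neg_mul, mul_add, mul_add, add_mul, add_mul,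
    show ρ.R n * ρ.R i * ρ.R n⁻¹ = ρ.R i by rw [e1, mul_assoc, R_mul_inv, mul_one],
    show ρ.R n * ρ.R (fj i a) * ρ.R n⁻¹ = ρ.R (fj i a) by rw [e2, mul_assoc, R_mul_inv, mul_one],
    show ρ.R n * (ρ.R i * ρ.R (fj i a)) * ρ.R n⁻¹ = ρ.R i * ρ.R (fj i a) by
      rw [← mul_assoc, e1, mul_assoc (ρ.R i), e2, ← mul_assoc, mul_assoc, R_mul_inv, mul_one]]

theorem commute_normal_of_commute {hf : ρ.Frame i a} {c₀ : G} {D : ρ.E} (hn : Normal hf c₀ D)
    {n : G} (h1 : n * i = i * n) (h2 : n * fj i a = fj i a * n) : n * c₀ = c₀ * n := by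
  refine mul_inv_eq_iff_eq_mul.1 ?_
  have e1 := R_commute (ρ := ρ) h1
  have e2 := R_commute (ρ := ρ) h2
  have e1' : ρ.R n⁻¹ * ρ.R i = ρ.R i * ρ.R n⁻¹ :=
    R_commute (Commute.inv_left (show Commute n i from h1))
  have e2' : ρ.R n⁻¹ * ρ.R (fj i a) = ρ.R (fj i a) * ρ.R n⁻¹ :=
    R_commute (Commute.inv_left (show Commute n (fj i a) from h2))
  set N := ρ.R n with hN
  set N' := ρ.R n⁻¹ with hN'
  have hNN : N * N' = 1 := ρ.R_mul_inv n
  have hcN : hf.pair.Comm N := ⟨e1, e2⟩
  have hcN' : hf.pair.Comm N' := ⟨e1', e2'⟩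
  have hadj : ρ.Adj N N' := ρ.B_R_left n
  have hadj' : ρ.Adj N' N := fun u v => by
    rw [hN', B_R_left, inv_inv]
  have hnorm : Normal hf (n * c₀ * n⁻¹) (N * D * N') := by
    refine ⟨by rw [← MulAut.conj_apply, MulEquiv.orderOf_eq, hn.hc],
      (hcN.mul _ hn.comm).mul _ hcN', ?_, ?_, ?_⟩
    · have := (hadj.mul hn.sym.adj).mul hadj'
      rwa [← mul_assoc] at this
    · calc N * D * N' * (N * D * N') = N * (D * D) * N' := by
            simp only [mul_assoc]
            rw [← mul_assoc N', hN, hN', R_inv_mul, one_mul]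
        _ = _ := by rw [hn.golden, mul_add, add_mul, mul_one, hNN]
    · have hsub : N * D * N' - 1 = N * (D - 1) * N' := by rw [mul_sub, mul_one, sub_mul, hNN]
      rw [ρ.axis_conj, hn.axis_eq, ← hN, ← hN', hsub]
      simp only [qsum, zero_add, mul_zero, mul_add, add_mul, mul_assoc, hcN.mul_I' hf.pair,
        hcN.mul_J' hf.pair]
  exact (normal_unique hf hnorm hn).1

end Cfsg.Agent.Frobenius.FPFRep
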