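import Cfsg.Agent.Lib.Frobenius.ZassMain
import Cfsg.Agent.Lib.Frobenius.LevelTwo

/-!
Non-solvable fixed-point-free groups whose matrices lie in a ring without zero divisors.

Main results (namespace `Cfsg.Agent.Frobenius.FPFRep`):
* `core_eq_top_of_domain`, `mulEquiv_sl25_of_domain` : such a group is `SL(2,5)`
-/

namespace Cfsg.Agent.Frobenius.FPFRep

open scoped IsMulCommutative

universe u

variable {G : Type u} [Group G] [Fintype G] {ρ : FPFRep G} {i a c₀ : G} {hf : ρ.Frame i a} {D : ρ.E}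

/-- A rational subring of the matrices without zero divisors. -/
structure DomainEnvelope (ρ : FPFRep G) (A : Subring ρ.E) : Prop where
  mem : ∀ g, ρ.R g ∈ A
  smul : ∀ r : ℚ, ∀ x ∈ A, (r : ℝ) • x ∈ A
  dom : ∀ x ∈ A, ∀ y ∈ A, x * y = 0 → x = 0 ∨ y = 0

variable {A : Subring ρ.E}

theorem DomainEnvelope.normal_mem (hA : DomainEnvelope ρ A) (hn : Normal hf c₀ D) : D ∈ A := by
  have hI : ρ.R i ∈ A := hA.mem i
  have hJ : ρ.R (fj i a) ∈ A := hA.mem _
  have hX : -(ρ.R (fj i a) * ρ.axis c₀) ∈ A :=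
    neg_mem (mul_mem hJ (add_mem (add_mem (hA.mem c₀) (hA.mem c₀)) (one_mem A)))
  have hsc : hf.pair.sc (-(ρ.R (fj i a) * ρ.axis c₀)) ∈ A := by
    have h := hA.smul (1 / 4) _ (sub_mem (sub_mem (sub_mem hX (mul_mem (mul_mem hI hX) hI))
      (mul_mem (mul_mem hJ hX) hJ)) (mul_mem (mul_mem (mul_mem hI hJ) hX) (mul_mem hI hJ)))
    push_cast at h
    exact h
  obtain ⟨-, -, e, -⟩ := hf.pair.qsum_inj (hf.pair.sc_comm _) (hf.pair.sc_comm _)
    (hf.pair.sc_comm _) (hf.pair.sc_comm _) (IsQPair.Comm.zero _) (IsQPair.Comm.zero _) hn.comm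
    (IsQPair.Comm.sub _ hn.comm (IsQPair.Comm.one _)) ((hf.pair.decomp (ρ.axis c₀)).symm.trans hn.axis_eq)
  rwa [e] at hsc

/-- `-(a² + b²)` is no square in the commutant of the frame. -/
theorem DomainEnvelope.eq_zero_of_sq (hA : DomainEnvelope ρ A) (hf : ρ.Frame i a) {x α β : ρ.E}
    (hxA : x ∈ A) (hαA : α ∈ A) (hβA : β ∈ A) (hx : hf.pair.Comm x) (hα : hf.pair.Comm α)
    (hβ : hf.pair.Comm β) (h1 : x * α = α * x) (h2 : x * β = β * x) (h3 : α * β = β * α)
    (h : x * x + α * α + β * β = 0) : x = 0 := by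
  set W := ρ.R i * α + ρ.R (fj i a) * β with hW
  have hWA : W ∈ A := add_mem (mul_mem (hA.mem i) hαA) (mul_mem (hA.mem _) hβA)
  have q := hf.pair
  have aα : α * ρ.R i = ρ.R i * α ∧ α * ρ.R (fj i a) = ρ.R (fj i a) * α := hα
  have aβ : β * ρ.R i = ρ.R i * β ∧ β * ρ.R (fj i a) = ρ.R (fj i a) * β := hβ
  have ax : x * ρ.R i = ρ.R i * x ∧ x * ρ.R (fj i a) = ρ.R (fj i a) * x := hx
  have hxW : x * W = W * x := by
    simp only [hW, mul_add, add_mul, mul_assoc, hx.mul_I' hf.pair, hx.mul_J' hf.pair, h1, h2]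
  have hWW : W * W = -(α * α + β * β) := by
    simp only [hW, mul_add, add_mul, mul_assoc, hα.mul_I' hf.pair, hα.mul_J' hf.pair,
      hβ.mul_I' hf.pair, hβ.mul_J' hf.pair, q.II', q.JJ', q.JI', h3]
    abel
  have hz : (x - W) * (x + W) = 0 := by
    have e : (x - W) * (x + W) = x * x + (x * W - W * x) - W * W := by
      simp only [sub_mul, mul_add]; abel
    rw [e, hxW, sub_self, add_zero, hWW, sub_neg_eq_add, ← add_assoc, h]
  have c0 := IsQPair.Comm.zero hf.pair
  rcases hA.dom _ (sub_mem hxA hWA) _ (add_mem hxA hWA) hz with e | e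
  · exact (hf.pair.qsum_eq_zero hx (hα.neg hf.pair) (hβ.neg hf.pair) c0 (by
      refine Eq.trans ?_ e; simp only [qsum, hW, mul_neg, mul_zero]; abel)).1
  · exact (hf.pair.qsum_eq_zero hx hα hβ c0 (by
      refine Eq.trans ?_ e; simp only [qsum, hW, mul_zero]; abel)).1

theorem commute_D (hn : Normal hf c₀ D) {n : G} (h1 : n * i = i * n)
    (h2 : n * fj i a = fj i a * n) : ρ.R n * D = D * ρ.R n := by
  have hcN : hf.pair.Comm (ρ.R n) := ⟨R_commute h1, R_commute h2⟩
  have hm : hf.pair.Comm (ρ.R n * D) := hcN.mul _ hn.comm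
  have hm' : hf.pair.Comm (D * ρ.R n) := hn.comm.mul _ hcN
  have hsub : ∀ {X : ρ.E}, hf.pair.Comm X → hf.pair.Comm (X - ρ.R n) := fun h => h.sub _ hcN
  have h := R_commute (ρ := ρ) (commute_normal_of_commute hn h1 h2)
  have h' : ρ.R n * ρ.axis c₀ = ρ.axis c₀ * ρ.R n := by
    simp only [axis, mul_add, add_mul, h, mul_one, one_mul]
  rw [hn.axis_eq] at h'
  have e : qsum (ρ.R i) (ρ.R (fj i a)) 0 0 (ρ.R n * D) (ρ.R n * D - ρ.R n) =
      qsum (ρ.R i) (ρ.R (fj i a)) 0 0 (D * ρ.R n) (D * ρ.R n - ρ.R n) := by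
    simp only [qsum, zero_add, mul_zero, mul_add, add_mul, mul_sub, sub_mul, mul_assoc, mul_one,
      one_mul, hcN.mul_I' hf.pair, hcN.mul_J' hf.pair] at h' ⊢
    have hIJ : ρ.R n * ρ.R (fj i a) = ρ.R (fj i a) * ρ.R n := R_commute h2
    simp only [hcN.mul_I' hf.pair, hIJ] at h'
    exact h'
  exact (hf.pair.qsum_inj (IsQPair.Comm.zero _) (IsQPair.Comm.zero _) hm (hsub hm)
    (IsQPair.Comm.zero _) (IsQPair.Comm.zero _) hm' (hsub hm') e).2.2.1

theorem sqrt_five (hn : Normal hf c₀ D) : (D + D - 1) * (D + D - 1) = (5 : ℝ) • 1 := by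
  simp only [mul_sub, sub_mul, mul_add, add_mul, hn.golden, mul_one, one_mul]
  module

theorem no_prime_order (hA : DomainEnvelope ρ A) (hn : Normal hf c₀ D) {m : G}
    (hm : m ∈ Subgroup.centralizer (Subgroup.closure ({i, a, c₀} : Set G) : Set G))
    {q : ℕ} (hq : q.Prime) (hord : orderOf m = q) : q = 2 := by
  by_contra hq2
  have := Fact.mk hq
  have hq5 : q ≠ 5 := fun e => (orderOf_ne_of_centralizer hn hm).2.2 (hord.trans e)
  have h1 : m * i = i * m := (Subgroup.mem_centralizer_iff.1 hm i frame_mem_core.1).symm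
  have h2 : m * fj i a = fj i a * m :=
    (Subgroup.mem_centralizer_iff.1 hm _ frame_mem_core.2.2).symm
  set r := D + D - 1 with hr
  have hmr : ρ.R m * r = r * ρ.R m := by
    have := commute_D hn h1 h2
    simp only [hr, mul_sub, sub_mul, mul_add, add_mul, mul_one, one_mul, this]
  have hcomm : ∀ x ∈ ({ρ.R m, r} : Set ρ.E), ∀ y ∈ ({ρ.R m, r} : Set ρ.E), x * y = y * x := by
    rintro x (rfl | rfl) y (rfl | rfl)
    · rfl
    · exact hmr
    · exact hmr.symm
    · rfl
  set k := Algebra.adjoin ℚ ({ρ.R m, r} : Set ρ.E) with hk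
  have : IsMulCommutative k := Algebra.isMulCommutative_adjoin ℚ hcomm
  have hrA : r ∈ A := sub_mem (add_mem (hA.normal_mem hn) (hA.normal_mem hn)) (one_mem A)
  have halg : ∀ s : ℚ, algebraMap ℚ ρ.E s = (s : ℝ) • 1 := fun s => by
    rw [IsScalarTower.algebraMap_apply ℚ ℝ ρ.E, Algebra.algebraMap_eq_smul_one]
    rfl
  have hkA : ∀ x ∈ k, x ∈ A ∧ hf.pair.Comm x := by
    intro x hx
    induction hx using Algebra.adjoin_induction with
    | mem x hx =>
      rcases hx with rfl | rfl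
      · exact ⟨hA.mem m, R_commute h1, R_commute h2⟩
      · exact ⟨hrA, (hn.comm.add _ hn.comm).sub _ (IsQPair.Comm.one _)⟩
    | algebraMap s =>
      rw [halg]
      exact ⟨hA.smul s 1 (one_mem A), (IsQPair.Comm.one hf.pair).smul _ _⟩
    | add x y _ _ hx hy => exact ⟨add_mem hx.1 hy.1, hx.2.add _ hy.2⟩
    | mul x y _ _ hx hy => exact ⟨mul_mem hx.1 hy.1, hx.2.mul _ hy.2⟩
  have : Nontrivial k := ⟨0, 1, fun e => ρ.one_ne_zero' (congrArg Subtype.val e).symm⟩
  have : NoZeroDivisors k := ⟨fun {x y} e => by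
    rcases hA.dom _ (hkA _ x.2).1 _ (hkA _ y.2).1 (congrArg Subtype.val e) with h | h
    · exact Or.inl (Subtype.ext h)
    · exact Or.inr (Subtype.ext h)⟩
  have : IsDomain k := NoZeroDivisors.to_isDomain _
  set μ : k := ⟨ρ.R m, Algebra.subset_adjoin (by simp)⟩ with hμdef
  set rk : k := ⟨r, Algebra.subset_adjoin (by simp)⟩ with hrkdef
  have hrk : rk * rk = 5 := by
    refine Subtype.ext ?_
    show r * r = ((5 : k) : ρ.E)
    rw [hr, sqrt_five hn, Algebra.smul_def, mul_one, map_ofNat]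
    exact (map_ofNat k.val 5).symm
  have hμq : μ ^ q = 1 := by
    refine Subtype.ext ?_
    show (ρ.R m) ^ q = 1
    rw [← map_pow, ← hord, pow_orderOf_eq_one, map_one]
  have : Algebra.IsIntegral ℚ k := by
    refine ⟨fun x => ?_⟩
    have hle : ⊤ ≤ integralClosure ℚ k := by
      rintro ⟨x, hx⟩ -
      induction hx using Algebra.adjoin_induction with
      | mem x hx =>
        rcases hx with rfl | rfl
        · exact IsIntegral.of_pow hq.pos (show IsIntegral ℚ (μ ^ q) by rw [hμq]; exact isIntegral_one)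
        · exact IsIntegral.of_pow (n := 2) (by norm_num)
            (show IsIntegral ℚ (rk ^ 2) by
              rw [sq, hrk, ← map_ofNat (algebraMap ℚ k)]; exact isIntegral_algebraMap)
      | algebraMap s => exact isIntegral_algebraMap (x := s)
      | add x y hx hy ihx ihy => exact add_mem ihx ihy
      | mul x y hx hy ihx ihy => exact mul_mem ihx ihy
    exact hle Algebra.mem_top
  letI : Field k := (isField_of_isIntegral_of_isField' (R := ℚ) (Field.toIsField ℚ)).toField
  have : CharZero k := charZero_of_injective_algebraMap (algebraMap ℚ k).injective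
  have hμ : IsPrimitiveRoot μ q := IsPrimitiveRoot.iff_orderOf.2 (orderOf_eq_prime hμq (fun e => by
    have e' : ρ.R m = ρ.R 1 := by rw [map_one]; exact congrArg Subtype.val e
    rw [ρ.R_injective e', orderOf_one] at hord
    exact hq.ne_one hord.symm))
  obtain ⟨α, β, hαβ⟩ := Level.neg_one_sum_two_squares hq2 hq5 hμ hrk
  have hsum : (1 : ρ.E) * 1 + (α : ρ.E) * α + (β : ρ.E) * β = 0 := by
    have e : ((1 * 1 + α * α + β * β : k) : ρ.E) = ((0 : k) : ρ.E) := by
      congr 1
      linear_combination hαβ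
    simpa using e
  exact ρ.one_ne_zero' (hA.eq_zero_of_sq hf (one_mem A) (hkA _ α.2).1 (hkA _ β.2).1
    (IsQPair.Comm.one _) (hkA _ α.2).2 (hkA _ β.2).2 (by simp) (by simp)
    (congrArg Subtype.val (mul_comm α β)) hsum)

theorem centralizer_le_core (hA : DomainEnvelope ρ A) (hn : Normal hf c₀ D) :
    Subgroup.centralizer (Subgroup.closure ({i, a, c₀} : Set G) : Set G) ≤
      Subgroup.closure ({i, a, c₀} : Set G) := by
  intro x hx
  have hdiv : ∀ {p : ℕ}, p.Prime → p ∣ orderOf x → p = 2 := by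
    intro p hp hd
    refine no_prime_order hA hn (m := x ^ (orderOf x / p)) (pow_mem hx _) hp ?_
    exact orderOf_pow_orderOf_div (orderOf_pos x).ne' hd
  have hk := Nat.eq_prime_pow_of_unique_prime_dvd (orderOf_pos x).ne' hdiv
  by_cases h1 : x = 1
  · rw [h1]; exact one_mem _
  have h2 : x * x = 1 := by
    set k := (orderOf x).primeFactorsList.length
    rcases Nat.lt_or_ge k 2 with hlt | hge
    · rw [← sq]
      refine orderOf_dvd_iff_pow_eq_one.1 ?_
      rw [hk]
      exact pow_dvd_pow 2 (Nat.le_of_lt_succ hlt) |>.trans (by norm_num)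
    · exfalso
      refine (orderOf_ne_of_centralizer hn (pow_mem hx (orderOf x / 4))).2.1 ?_
      refine orderOf_pow_orderOf_div (orderOf_pos x).ne' ?_
      rw [hk]
      exact (show (4 : ℕ) = 2 ^ 2 by norm_num) ▸ pow_dvd_pow 2 hge
  rw [show x = i * i from ρ.R_injective (by rw [ρ.eq_neg_one h1 h2, map_mul, hf.pair.II])]
  exact mul_mem frame_mem_core.1 frame_mem_core.1

theorem core_eq_top_of_domain (hA : DomainEnvelope ρ A) (hn : Normal hf c₀ D) :
    Subgroup.closure ({i, a, c₀} : Set G) = ⊤ := by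
  have hC := centralizer_le_core hA hn
  refine eq_top_iff.2 fun g _ => ?_
  by_contra hg
  obtain ⟨x, hx, hxi, hxj⟩ := exists_class hn g
  set n := x * g with hndef
  have hnH : n ∉ Subgroup.closure ({i, a, c₀} : Set G) := fun h => hg (by
    have := mul_mem (inv_mem hx) h
    rwa [hndef, inv_mul_cancel_left] at this)
  have hxi' : n * i = i * n := mul_inv_eq_iff_eq_mul.1 hxi
  have hj' : n * fj i a * n⁻¹ = i * fj i a := hxj.resolve_left fun e =>
    hnH (hC (mem_centralizer_core hn hxi' (mul_inv_eq_iff_eq_mul.1 e)))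
  have q := hf.pair
  have e0 : ρ.R n * ρ.R i = ρ.R i * ρ.R n := R_commute hxi'
  have e0' : ρ.R n⁻¹ * ρ.R i = ρ.R i * ρ.R n⁻¹ :=
    R_commute (Commute.inv_left (show Commute n i from hxi'))
  have eJ : ρ.R n * ρ.R (fj i a) = ρ.R i * ρ.R (fj i a) * ρ.R n := by
    rw [← map_mul, ← map_mul ρ.R i, ← map_mul, mul_inv_eq_iff_eq_mul.1 hj']
  set N := ρ.R n with hN
  set N' := ρ.R n⁻¹ with hN'
  set I := ρ.R i with hI
  set J := ρ.R (fj i a) with hJ
  have hNN : N * N' = 1 := ρ.R_mul_inv n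
  have hNN' : N' * N = 1 := ρ.R_inv_mul n
  have eJ2 : J * N = -(N * (I * J)) := by
    rw [← mul_assoc, e0, mul_assoc, eJ, ← mul_assoc, ← mul_assoc, q.II, neg_one_mul, neg_mul, neg_neg]
  have eJ3 : N' * J = -(I * J * N') := by
    calc N' * J = N' * (J * N) * N' := by rw [mul_assoc, mul_assoc, hNN, mul_one]
      _ = _ := by rw [eJ2, mul_neg, neg_mul, ← mul_assoc N', hNN', one_mul]
  have eJ' : ∀ y, N * (J * y) = I * (J * (N * y)) := fun y => by
    rw [← mul_assoc, eJ, mul_assoc, mul_assoc]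
  have eJ1 : N * J = I * (J * N) := eJ.trans (mul_assoc _ _ _)
  have eI' : ∀ y, N * (I * y) = I * (N * y) := fun y => by rw [← mul_assoc, e0, mul_assoc]
  -- the conjugate of the element in normal form
  have aD : D * I = I * D ∧ D * J = J * D := hn.comm
  set D' := N * D * N' with hD'
  have hD'c : hf.pair.Comm D' := by
    constructor
    · simp only [hD', ← hI, mul_assoc, e0']
      rw [← mul_assoc D, aD.1, mul_assoc I, eI']
    · simp only [hD', ← hJ, mul_assoc, eJ3, mul_neg]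
      rw [hn.comm.mul_I' hf.pair, hn.comm.mul_J' hf.pair, ← hI, ← hJ, eI', eJ',
        hf.pair.II', neg_neg]
  have hadj : ρ.Adj N N' := ρ.B_R_left n
  have hadj' : ρ.Adj N' N := fun u v => by rw [hN', B_R_left, inv_inv]
  have hD's : ρ.IsSym D' := by
    have := (hadj.mul hn.sym.adj).mul hadj'
    rwa [← mul_assoc] at this
  have hD'g : D' * D' = D' + 1 := by
    calc N * D * N' * (N * D * N') = N * (D * D) * N' := by
          simp only [mul_assoc]
          rw [← mul_assoc N' N, hNN', one_mul]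
      _ = _ := by rw [hn.golden, mul_add, add_mul, mul_one, hNN]
  have c0 := IsQPair.Comm.zero hf.pair
  have hc1 : hf.pair.Comm (1 - D') := (IsQPair.Comm.one _).sub _ hD'c
  have hconj : ρ.axis (n * c₀ * n⁻¹) = qsum I J 0 0 (1 - D') D' := by
    rw [ρ.axis_conj, hn.axis_eq, ← hN, ← hN', ← hI, ← hJ]
    simp only [qsum, zero_add, mul_zero, mul_add, add_mul, mul_sub, sub_mul, mul_assoc, mul_one,
      one_mul, eI', eJ', q.II', hD', neg_mul, hNN]
    abel
  have hnorm : Normal hf (fj i a * (n * c₀ * n⁻¹) * (fj i a)⁻¹) (1 - D') := by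
    refine ⟨?_, hc1, ?_, ?_, ?_⟩
    · rw [← MulAut.conj_apply, MulEquiv.orderOf_eq, ← MulAut.conj_apply, MulEquiv.orderOf_eq, hn.hc]
    · exact (show ρ.Adj 1 1 from fun u v => by rw [Matrix.one_mulVec, Matrix.one_mulVec]).sub hD's.adj
    · simp only [mul_sub, sub_mul, mul_one, one_mul, hD'g]
      abel
    · rw [hf.axis_conj_j c0 hc1 hD'c hconj, neg_zero, show (1 - D') - 1 = -D' by abel]
  have hDE := (normal_unique hf hn hnorm).2
  set f := D + D - 1 with hf5
  have hff : f * f = (5 : ℝ) • 1 := sqrt_five hn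
  have hNf : N * f = -(f * N) := by
    have e : N * D = N - D * N := by
      calc N * D = D' * N := by rw [hD', mul_assoc, hNN', mul_one]
        _ = (1 - D) * N := by rw [hDE]; abel_nf
        _ = _ := by rw [sub_mul, one_mul]
    simp only [hf5, mul_add, mul_sub, add_mul, sub_mul, mul_one, one_mul, e]
    abel
  have hNf' : ∀ y, N * (f * y) = -(f * (N * y)) := fun y => by
    rw [← mul_assoc, hNf, neg_mul, mul_assoc]
  -- the square of `n`
  have hyC : n * n * i⁻¹ ∈ Subgroup.centralizer (Subgroup.closure ({i, a, c₀} : Set G) : Set G) := by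
    refine mem_centralizer_core hn ?_ (ρ.R_injective ?_)
    · rw [mul_assoc (n * n), inv_mul_cancel, mul_one, ← mul_assoc i, ← mul_assoc i, ← hxi',
        mul_assoc n i n, ← hxi', ← mul_assoc n n i, mul_inv_cancel_right]
    · simp only [map_mul, hf.R_inv_i, ← hN, ← hI, ← hJ, mul_assoc, neg_mul, mul_neg]
      simp only [mul_neg, eI', eJ', e0, eJ1, q.II', q.JI', neg_neg]
  have hy2 := sq_eq_one_of_centralizer hn hyC (hC hyC)
  obtain ⟨ε, hε, hNN2⟩ : ∃ ε : ℚ, (ε = 1 ∨ ε = -1) ∧ N * N = (ε : ℝ) • I := by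
    have e : n * n * i⁻¹ * i = n * n := inv_mul_cancel_right _ _
    have e' : N * N = ρ.R (n * n * i⁻¹) * I := by rw [hN, hI, ← map_mul, ← map_mul, e]
    by_cases h1 : n * n * i⁻¹ = 1
    · exact ⟨1, Or.inl rfl, by rw [e', h1, map_one, one_mul, Rat.cast_one, one_smul]⟩
    · exact ⟨-1, Or.inr rfl, by
        rw [e', ρ.eq_neg_one h1 hy2, neg_one_mul, Rat.cast_neg, Rat.cast_one, neg_one_smul]⟩
  set u := (1 / 2 : ℝ) • (N * (1 - I)) with hu
  have huc : hf.pair.Comm u := by
    constructor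
    · simp only [hu, ← hI, smul_mul_assoc, mul_smul_comm, mul_sub, sub_mul, mul_one, mul_assoc,
        q.II, eI', e0]
    · simp only [hu, ← hJ, smul_mul_assoc, mul_smul_comm, mul_sub, sub_mul, mul_one, mul_assoc]
      simp only [eI', eJ1, q.II', q.JI', e0, mul_neg, sub_neg_eq_add]
      module
  have hfc : hf.pair.Comm f := (hn.comm.add _ hn.comm).sub _ (IsQPair.Comm.one _)
  have huA : u ∈ A := by
    have := hA.smul (1 / 2) _ (mul_mem (hA.mem n) (sub_mem (one_mem A) (hA.mem i)))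
    push_cast at this
    exact this
  have hfA : f ∈ A := sub_mem (add_mem (hA.normal_mem hn) (hA.normal_mem hn)) (one_mem A)
  have hIf : I * f = f * I := (show f * I = I * f from hfc.1).symm
  have huf : u * f = -(f * u) := by
    simp only [hu, smul_mul_assoc, mul_smul_comm, mul_sub, sub_mul, mul_one, mul_assoc, hIf, hNf,
      hNf', mul_neg, smul_neg, smul_sub]
    module
  have huu : u * u = ((-ε / 2 : ℚ) : ℝ) • (-1) := by
    simp only [hu, smul_mul_assoc, mul_smul_comm, mul_sub, sub_mul, mul_one, mul_assoc, eI', e0,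
      hNN2, q.II, q.II', mul_neg, smul_smul, smul_sub, smul_neg, neg_neg]
    push_cast
    module
  have hscal : ∀ s : ℚ, (s : ℝ) • (1 : ρ.E) ∈ A := fun s => hA.smul s 1 (one_mem A)
  have hsc : ∀ (s : ℝ) (y : ρ.E), y * (s • (1 : ρ.E)) = (s • 1) * y := fun s y => by
    rw [mul_smul_comm, smul_mul_assoc, mul_one, one_mul]
  have hscc : ∀ s : ℝ, hf.pair.Comm (s • (1 : ρ.E)) := fun s => (IsQPair.Comm.one _).smul _ s
  have hu0 : u ≠ 0 := fun h => by
    rw [h, mul_zero, eq_comm, smul_eq_zero] at huu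
    rcases huu with h' | h'
    · rcases hε with rfl | rfl <;> norm_num at h'
    · exact ρ.one_ne_zero' (neg_eq_zero.1 h')
  rcases hε with rfl | rfl
  · -- `(f u)² = -5/2`
    have hv : f * u ≠ 0 := fun h => hu0 (by
      rcases hA.dom f hfA u huA h with h' | h'
      · exfalso
        rw [h', mul_zero, eq_comm, smul_eq_zero] at hff
        exact hff.elim (by norm_num) ρ.one_ne_zero'
      · exact h')
    refine hv (hA.eq_zero_of_sq hf (mul_mem hfA huA) (hscal (1 / 2)) (hscal (3 / 2))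
      (hfc.mul _ huc) (hscc _) (hscc _) (hsc _ _) (hsc _ _) (hsc _ _).symm ?_)
    rw [show f * u * (f * u) = f * (u * f) * u by simp only [mul_assoc], huf]
    simp only [neg_mul, mul_neg, mul_assoc, huu, mul_smul_comm, smul_mul_assoc, mul_one, smul_smul,
      hff]
    push_cast
    module
  · refine hu0 (hA.eq_zero_of_sq hf huA (hscal (1 / 2)) (hscal (1 / 2)) huc (hscc _) (hscc _)
      (hsc _ _) (hsc _ _) (hsc _ _).symm ?_)
    rw [huu]
    simp only [mul_smul_comm, smul_mul_assoc, mul_one, smul_smul]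
    push_cast
    module

variable (ρ) in
/-- A non-solvable such group is `SL(2,5)`. -/
theorem mulEquiv_sl25_of_domain {A : Subring ρ.E} (hA : DomainEnvelope ρ A)
    (hns : ¬ Group.IsSolvable G) :
    Nonempty (G ≃* Matrix.SpecialLinearGroup (Fin 2) (ZMod 5)) := by
  obtain ⟨i, a, c₀, hf, D, hn⟩ := ρ.exists_core hns
  obtain ⟨e⟩ := core_mulEquiv hn
  exact ⟨(Subgroup.topEquiv.symm.trans
    (MulEquiv.subgroupCongr (core_eq_top_of_domain hA hn).symm)).trans e⟩

end Cfsg.Agent.Frobenius.FPFRep
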