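import Cfsg.Agent.Lib.Frobenius.ZassPairs
import Cfsg.Agent.Lib.Frobenius.QuatPair

/-!
The position of an element of order three relative to a binary tetrahedral frame.

Main results (namespace `Cfsg.Agent.Frobenius.FPFRep`):
* `Adj`, `Frame`, `Outside`
* `axis_components` : the axis of an element outside the frame has commuting self-adjoint
  coordinates, one of which vanishes and the other two have product `± 1`
-/

namespace Cfsg.Agent.Frobenius.FPFRep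

open Matrix

variable {G : Type*} [Group G] [Fintype G] (ρ : FPFRep G)

/-- `X'` is the adjoint of `X`. -/
def Adj (X X' : ρ.E) : Prop := ∀ u v, ρ.B (X *ᵥ u) v = ρ.B u (X' *ᵥ v)

variable {ρ}

theorem Adj.mul {X X' Y Y' : ρ.E} (h : ρ.Adj X X') (g : ρ.Adj Y Y') :
    ρ.Adj (X * Y) (Y' * X') := fun u v => by
  rw [← mulVec_mulVec, h, g, mulVec_mulVec]

theorem Adj.add {X X' Y Y' : ρ.E} (h : ρ.Adj X X') (g : ρ.Adj Y Y') :
    ρ.Adj (X + Y) (X' + Y') := fun u v => by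
  rw [add_mulVec, add_mulVec, B_add_left, B_add_right, h, g]

theorem Adj.neg {X X' : ρ.E} (h : ρ.Adj X X') : ρ.Adj (-X) (-X') := fun u v => by
  rw [neg_mulVec, neg_mulVec, B_neg_left, B_neg_right, h]

theorem Adj.sub {X X' Y Y' : ρ.E} (h : ρ.Adj X X') (g : ρ.Adj Y Y') :
    ρ.Adj (X - Y) (X' - Y') := by
  rw [sub_eq_add_neg, sub_eq_add_neg]; exact h.add g.neg

theorem Adj.smul {X X' : ρ.E} (r : ℝ) (h : ρ.Adj X X') : ρ.Adj (r • X) (r • X') := fun u v => by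
  rw [smul_mulVec, smul_mulVec, B_smul_left, B_smul_right, h]

theorem IsSkew.adj {X : ρ.E} (h : ρ.IsSkew X) : ρ.Adj X (-X) := fun u v => by
  rw [neg_mulVec, B_neg_right, h]

theorem IsSkew.adj_mul {X Y : ρ.E} (hX : ρ.IsSkew X) (hY : ρ.IsSkew Y) :
    ρ.Adj (X * Y) (Y * X) := by
  have := hX.adj.mul hY.adj
  rwa [neg_mul_neg] at this

theorem IsSym.adj {X : ρ.E} (h : ρ.IsSym X) : ρ.Adj X X := h

theorem IsSym.nonneg {X : ρ.E} (h : ρ.IsSym X) (w) : 0 ≤ ρ.B ((X * X) *ᵥ w) w := by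
  rw [← mulVec_mulVec, h]
  exact ρ.B_self_nonneg _

variable (ρ)

theorem smul_one_mul_sq_nonpos {X : ρ.E} {r : ℝ} (h : ρ.IsSkew X) (hr : X * X = r • 1) : r ≤ 0 := by
  obtain ⟨w, hw⟩ := ρ.exists_vec_ne_zero ρ.one_ne_zero'
  rw [one_mulVec] at hw
  have h1 : ρ.B ((X * X) *ᵥ w) w = r * ρ.B w w := by rw [hr, ρ.smul_one_mulVec, B_smul_left]
  rw [← mulVec_mulVec, h] at h1
  nlinarith [ρ.B_self_nonneg (X *ᵥ w), ρ.B_self_pos hw]

theorem smul_one_mul_sq_nonneg {X : ρ.E} {r : ℝ} (h : ρ.IsSym X) (hr : X * X = r • 1) : 0 ≤ r := by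
  obtain ⟨w, hw⟩ := ρ.exists_vec_ne_zero ρ.one_ne_zero'
  rw [one_mulVec] at hw
  have h1 := h.nonneg (ρ := ρ) w
  rw [hr, ρ.smul_one_mulVec, B_smul_left] at h1
  nlinarith [ρ.B_self_pos hw]

/-- The second quaternion generator of a frame. -/
def fj (i a : G) : G := a * i * a⁻¹

/-- A binary tetrahedral frame. -/
structure Frame (i a : G) : Prop where
  hi : orderOf i = 4
  ha : orderOf a = 3
  pair : IsQPair (ρ.R i) (ρ.R (fj i a))
  axis_a : ρ.axis a = -(ρ.R i + ρ.R (fj i a) + ρ.R i * ρ.R (fj i a))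

/-- An element of order three outside the four subgroups of order three of a frame. -/
structure Outside (i a c : G) : Prop where
  hc : orderOf c = 3
  out : ∀ t : G, (t = a ∨ t = i * a * i⁻¹ ∨ t = (fj i a) * a * (fj i a)⁻¹ ∨
    t = (i * (fj i a)) * a * (i * (fj i a))⁻¹) → c ≠ t ∧ c ≠ t⁻¹

variable {ρ} {i a c : G}

theorem Frame.hj (hf : ρ.Frame i a) : orderOf (fj i a) = 4 := by
  rw [fj, ← MulAut.conj_apply, MulEquiv.orderOf_eq, hf.hi]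

theorem Frame.R_inv_i (hf : ρ.Frame i a) : ρ.R i⁻¹ = -ρ.R i := by
  calc ρ.R i⁻¹ = ρ.R i⁻¹ * -(ρ.R i * ρ.R i) := by rw [hf.pair.II, neg_neg, mul_one]
    _ = _ := by rw [mul_neg, ← mul_assoc, R_inv_mul, one_mul]

theorem Frame.R_inv_j (hf : ρ.Frame i a) :
    ρ.R (fj i a)⁻¹ = -ρ.R (fj i a) := by
  calc ρ.R (fj i a)⁻¹
      = ρ.R (fj i a)⁻¹ * -(ρ.R (fj i a) * ρ.R (fj i a)) := by
        rw [hf.pair.JJ, neg_neg, mul_one]
    _ = _ := by rw [mul_neg, ← mul_assoc, R_inv_mul, one_mul]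

theorem Frame.sc_adj (hf : ρ.Frame i a) {X X' : ρ.E} (h : ρ.Adj X X') :
    ρ.Adj (hf.pair.sc X) (hf.pair.sc X') := by
  have hI := (ρ.isSkew_of_order_four hf.hi).adj
  have hJ := (ρ.isSkew_of_order_four hf.hj).adj
  set I := ρ.R i
  set J := ρ.R (fj i a)
  have hK : ρ.Adj (I * J) (J * I) := (ρ.isSkew_of_order_four hf.hi).adj_mul (ρ.isSkew_of_order_four hf.hj)
  have h1 := (hI.mul h).mul hI
  have h2 := (hJ.mul h).mul hJ
  have h3 := (hK.mul h).mul hK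
  have h4 := (((h.sub h1).sub h2).sub h3).smul (1 / 4 : ℝ)
  have e : (1 / 4 : ℝ) • (X' - -I * (X' * -I) - -J * (X' * -J) - J * I * (X' * (J * I))) =
      hf.pair.sc X' := by
    simp only [IsQPair.sc, I, J, hf.pair.JI, hf.pair.JI', neg_mul, mul_neg, neg_neg, mul_assoc]
  rwa [e] at h4

theorem Frame.sc_mul_I (hf : ρ.Frame i a) (X : ρ.E) :
    hf.pair.sc (X * ρ.R i) = hf.pair.sc (ρ.R i * X) := by
  simp only [IsQPair.sc, mul_assoc, hf.pair.II, hf.pair.II', hf.pair.JI, hf.pair.JI', hf.pair.JJ,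
    mul_neg, neg_mul, neg_neg, mul_one]
  module

theorem Frame.sc_mul_J (hf : ρ.Frame i a) (X : ρ.E) :
    hf.pair.sc (X * ρ.R (fj i a)) = hf.pair.sc (ρ.R (fj i a) * X) := by
  simp only [IsQPair.sc, mul_assoc, hf.pair.II, hf.pair.II', hf.pair.JI, hf.pair.JI', hf.pair.JJ,
    hf.pair.JJ', mul_neg, neg_mul, neg_neg, mul_one]
  module

theorem Frame.sc_mul_K (hf : ρ.Frame i a) (X : ρ.E) :
    hf.pair.sc (X * (ρ.R i * ρ.R (fj i a))) =
      hf.pair.sc (ρ.R i * ρ.R (fj i a) * X) := by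
  simp only [IsQPair.sc, mul_assoc, hf.pair.II, hf.pair.II', hf.pair.JI, hf.pair.JI', hf.pair.JJ,
    hf.pair.JJ', mul_neg, neg_mul, neg_neg, mul_one]
  module

/-- The coordinates of a skew matrix: skew scalar part and self-adjoint vector part. -/
theorem Frame.skew_components (hf : ρ.Frame i a) {C : ρ.E} (hC : ρ.IsSkew C) :
    ∃ D₀ D₁ D₂ D₃ : ρ.E, hf.pair.Comm D₀ ∧ hf.pair.Comm D₁ ∧ hf.pair.Comm D₂ ∧ hf.pair.Comm D₃ ∧
      ρ.IsSkew D₀ ∧ ρ.IsSym D₁ ∧ ρ.IsSym D₂ ∧ ρ.IsSym D₃ ∧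
      C = qsum (ρ.R i) (ρ.R (fj i a)) D₀ D₁ D₂ D₃ := by
  have hI := ρ.isSkew_of_order_four hf.hi
  have hJ := ρ.isSkew_of_order_four hf.hj
  have hK : ρ.IsSkew (ρ.R i * ρ.R (fj i a)) := fun u v => by
    rw [hI.adj_mul hJ, hf.pair.JI, neg_mulVec, B_neg_right]
  refine ⟨_, _, _, _, hf.pair.sc_comm C, hf.pair.sc_comm _, hf.pair.sc_comm _, hf.pair.sc_comm _,
    ?_, ?_, ?_, ?_, hf.pair.decomp C⟩
  · intro u v
    have h := hf.sc_adj hC.adj u v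
    rw [h, show hf.pair.sc (-C) = -hf.pair.sc C by
      simp only [IsQPair.sc, mul_neg, neg_mul]; module, neg_mulVec, B_neg_right]
  · intro u v
    rw [hf.sc_adj (hI.adj_mul hC).neg u v]
    rw [hf.pair.sc_neg, hf.pair.sc_neg, hf.sc_mul_I]
  · intro u v
    rw [hf.sc_adj (hJ.adj_mul hC).neg u v]
    rw [hf.pair.sc_neg, hf.pair.sc_neg, hf.sc_mul_J]
  · intro u v
    rw [hf.sc_adj (hK.adj_mul hC).neg u v]
    rw [hf.pair.sc_neg, hf.pair.sc_neg, hf.sc_mul_K]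

theorem two_mul_tr {u c : G} (hu : orderOf u = 4) (hc : orderOf c = 3) :
    (2 : ℝ) • ρ.tr (u * c) = ρ.R u * ρ.axis c + ρ.axis c * ρ.R u := by
  have hui : ρ.R u⁻¹ = -ρ.R u := by
    calc ρ.R u⁻¹ = ρ.R u⁻¹ * -(ρ.R u * ρ.R u) := by rw [ρ.sq_eq_neg_one hu, neg_neg, mul_one]
      _ = _ := by rw [mul_neg, ← mul_assoc, R_inv_mul, one_mul]
  simp only [tr, axis, map_mul, _root_.mul_inv_rev, ρ.R_inv_order_three hc, hui, mul_add, add_mul,
    mul_one, one_mul, mul_neg, sub_mul, neg_mul]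
  module

theorem sq_value {P : ρ.E} (h : P = 2 ∨ P = -2 ∨ (P * P = 20 ∧
      ∃ w ≠ 0, P *ᵥ w = (2 * Real.sqrt 5) • w)) :
    ∃ σ : ℝ, (σ = 4 ∨ σ = 20) ∧ P * P = σ • 1 := by
  rcases h with rfl | rfl | ⟨h, -⟩
  · exact ⟨4, Or.inl rfl, by rw [Algebra.smul_def, mul_one, map_ofNat]; norm_num⟩
  · exact ⟨4, Or.inl rfl, by rw [Algebra.smul_def, mul_one, map_ofNat]; norm_num⟩
  · exact ⟨20, Or.inr rfl, by rw [h, Algebra.smul_def, mul_one, map_ofNat]⟩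

/-- The key computation. -/
theorem axis_components (hf : ρ.Frame i a) (ho : Outside i a c) :
    ∃ D₁ D₂ D₃ : ρ.E, hf.pair.Comm D₁ ∧ hf.pair.Comm D₂ ∧ hf.pair.Comm D₃ ∧
      ρ.IsSym D₁ ∧ ρ.IsSym D₂ ∧ ρ.IsSym D₃ ∧
      D₂ * D₃ = D₃ * D₂ ∧ D₁ * D₃ = D₃ * D₁ ∧ D₁ * D₂ = D₂ * D₁ ∧
      D₁ * D₁ + D₂ * D₂ + D₃ * D₃ = (3 : ℝ) • 1 ∧
      ρ.axis c = qsum (ρ.R i) (ρ.R (fj i a)) 0 D₁ D₂ D₃ ∧
      ∃ e : ℝ, (e = 1 ∨ e = -1) ∧ ((D₁ = 0 ∧ D₂ * D₃ = e • 1) ∨ (D₂ = 0 ∧ D₁ * D₃ = e • 1) ∨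
        (D₃ = 0 ∧ D₁ * D₂ = e • 1)) := by
  obtain ⟨D₀, D₁, D₂, D₃, h₀, h₁, h₂, h₃, s₀, s₁, s₂, s₃, hC⟩ :=
    hf.skew_components (ρ.axis_skew ho.hc)
  have q := hf.pair
  set I := ρ.R i with hIdef
  set J := ρ.R (fj i a) with hJdef
  set C := ρ.axis c with hCdef
  replace h₀ : q.Comm D₀ := h₀
  replace h₁ : q.Comm D₁ := h₁
  replace h₂ : q.Comm D₂ := h₂
  replace h₃ : q.Comm D₃ := h₃
  have a₀ : D₀ * I = I * D₀ ∧ D₀ * J = J * D₀ := h₀
  have a₁ : D₁ * I = I * D₁ ∧ D₁ * J = J * D₁ := h₁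
  have a₂ : D₂ * I = I * D₂ ∧ D₂ * J = J * D₂ := h₂
  have a₃ : D₃ * I = I * D₃ ∧ D₃ * J = J * D₃ := h₃
  have hsmul1 : ∀ r : ℝ, q.Comm (r • 1) := fun r => (IsQPair.Comm.one q).smul q r
  have hC2 : C * C = (-3 : ℝ) • 1 := by
    rw [hCdef, ρ.axis_sq ho.hc, neg_smul, Algebra.smul_def, mul_one, map_ofNat]
  -- the anticommutator with a tetrahedral axis
  have gen : ∀ (s t u σ : ℝ) (A' : ρ.E), A' = -(s • I + t • J + u • (I * J)) →
      (A' * C + C * A') * (A' * C + C * A') = σ • 1 →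
      (4 : ℝ) • ((s • D₁ + t • D₂ + u • D₃) * (s • D₁ + t • D₂ + u • D₃))
          - (4 * (s * s + t * t + u * u)) • (D₀ * D₀) = σ • 1 ∧
      s • (D₀ * (s • D₁ + t • D₂ + u • D₃) + (s • D₁ + t • D₂ + u • D₃) * D₀) = 0 := by
    intro s t u σ A' hA' hsq
    set L := s • D₁ + t • D₂ + u • D₃ with hL
    have hLc : q.Comm L := ((h₁.smul q s).add q (h₂.smul q t)).add q (h₃.smul q u)
    have aL : L * I = I * L ∧ L * J = J * L := hLc
    have hP : A' * C + C * A' = qsum I J ((2 : ℝ) • L) ((-2 * s) • D₀) ((-2 * t) • D₀)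
        ((-2 * u) • D₀) := by
      rw [hA', hC, hL]
      simp only [qsum, mul_add, add_mul, mul_assoc, smul_mul_assoc, mul_smul_comm, neg_mul, mul_neg,
        smul_add, smul_neg, q.II, q.JJ, q.JI, q.II', q.JJ', q.JI', a₀.1, a₁.1, a₂.1, a₃.1, a₀.2,
        a₁.2, a₂.2, a₃.2, h₀.mul_I' q, h₁.mul_I' q, h₂.mul_I' q, h₃.mul_I' q, mul_one, one_mul, neg_neg]
      module
    have hexp : (A' * C + C * A') * (A' * C + C * A') = qsum I J
        ((4 : ℝ) • (L * L) - (4 * (s * s + t * t + u * u)) • (D₀ * D₀))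
        ((-4 * s) • (D₀ * L + L * D₀)) ((-4 * t) • (D₀ * L + L * D₀))
        ((-4 * u) • (D₀ * L + L * D₀)) := by
      rw [hP]
      simp only [qsum, mul_add, add_mul, mul_assoc, smul_mul_assoc, mul_smul_comm, neg_mul, mul_neg,
        smul_add, smul_neg, q.II, q.JJ, q.JI, q.II', q.JJ', q.JI', a₀.1, a₀.2, aL.1, aL.2,
        h₀.mul_I' q, h₀.mul_J' q, hLc.mul_I' q, hLc.mul_J' q, mul_one, one_mul, neg_neg]
      module
    have hcL : q.Comm (D₀ * L + L * D₀) := (h₀.mul q hLc).add q (hLc.mul q h₀)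
    have hz : qsum I J (σ • 1) 0 0 0 = σ • 1 := by simp [qsum]
    rw [hsq, ← hz] at hexp
    obtain ⟨e0, e1, -, -⟩ := q.qsum_inj (hsmul1 σ) (IsQPair.Comm.zero q) (IsQPair.Comm.zero q)
      (IsQPair.Comm.zero q)
      (((hLc.mul q hLc).smul q _).sub q ((h₀.mul q h₀).smul q _))
      (hcL.smul q _) (hcL.smul q _) (hcL.smul q _) hexp
    refine ⟨e0.symm, ?_⟩
    linear_combination (norm := module) (1 / 4 : ℝ) • e1
  -- the four tetrahedral axes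
  have ax0 : ρ.axis a = -((1 : ℝ) • I + (1 : ℝ) • J + (1 : ℝ) • (I * J)) := by
    simp only [one_smul]; exact hf.axis_a
  have ax1 : ρ.axis (i * a * i⁻¹) = -((1 : ℝ) • I + (-1 : ℝ) • J + (-1 : ℝ) • (I * J)) := by
    rw [ρ.axis_conj, hf.axis_a, hf.R_inv_i]
    simp only [mul_add, add_mul, mul_neg, neg_mul, neg_neg, mul_assoc, q.II, q.JI, q.II', q.JJ,
      mul_one, one_mul, ← hIdef, ← hJdef]
    module
  have ax2 : ρ.axis ((fj i a) * a * (fj i a)⁻¹) =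
      -((-1 : ℝ) • I + (1 : ℝ) • J + (-1 : ℝ) • (I * J)) := by
    rw [ρ.axis_conj, hf.axis_a, hf.R_inv_j]
    simp only [mul_add, add_mul, mul_neg, neg_mul, neg_neg, mul_assoc, q.II, q.JI, q.II', q.JJ,
      q.JI', q.JJ', mul_one, one_mul, ← hIdef, ← hJdef]
    module
  have ax3 : ρ.axis ((i * (fj i a)) * a * (i * (fj i a))⁻¹) =
      -((-1 : ℝ) • I + (-1 : ℝ) • J + (1 : ℝ) • (I * J)) := by
    rw [ρ.axis_conj, hf.axis_a, _root_.mul_inv_rev, map_mul, map_mul ρ.R _ i⁻¹, hf.R_inv_i,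
      hf.R_inv_j]
    simp only [mul_add, add_mul, mul_neg, neg_mul, neg_neg, mul_assoc, q.II, q.JI, q.II', q.JJ,
      q.JI', q.JJ', mul_one, one_mul, ← hIdef, ← hJdef]
    module
  have hord : ∀ g : G, orderOf (g * a * g⁻¹) = 3 := fun g => by
    rw [← MulAut.conj_apply, MulEquiv.orderOf_eq, hf.ha]
  obtain ⟨σ₀, v₀, p₀⟩ := sq_value (ρ.pair_trichotomy hf.ha ho.hc (ho.out a (Or.inl rfl)).1
    (ho.out a (Or.inl rfl)).2)
  obtain ⟨σ₁, v₁, p₁⟩ := sq_value (ρ.pair_trichotomy (hord i) ho.hc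
    (ho.out _ (Or.inr (Or.inl rfl))).1 (ho.out _ (Or.inr (Or.inl rfl))).2)
  obtain ⟨σ₂, v₂, p₂⟩ := sq_value (ρ.pair_trichotomy (hord _) ho.hc
    (ho.out _ (Or.inr (Or.inr (Or.inl rfl)))).1 (ho.out _ (Or.inr (Or.inr (Or.inl rfl)))).2)
  obtain ⟨σ₃, v₃, p₃⟩ := sq_value (ρ.pair_trichotomy (hord _) ho.hc
    (ho.out _ (Or.inr (Or.inr (Or.inr rfl)))).1 (ho.out _ (Or.inr (Or.inr (Or.inr rfl)))).2)
  obtain ⟨e₀, f₀⟩ := gen _ _ _ σ₀ _ ax0 p₀
  obtain ⟨e₁, f₁⟩ := gen _ _ _ σ₁ _ ax1 p₁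
  obtain ⟨e₂, f₂⟩ := gen _ _ _ σ₂ _ ax2 p₂
  obtain ⟨e₃, f₃⟩ := gen _ _ _ σ₃ _ ax3 p₃
  simp only [mul_add, add_mul, mul_smul_comm, smul_mul_assoc, smul_add] at e₀ e₁ e₂ e₃ f₀ f₁ f₂ f₃
  -- the scalar part anticommutes with the vector part
  have k₁ : D₀ * D₁ + D₁ * D₀ = 0 := by
    linear_combination (norm := module) (1 / 2 : ℝ) • f₀ + (1 / 2 : ℝ) • f₁
  have k₂ : D₀ * D₂ + D₂ * D₀ = 0 := by
    linear_combination (norm := module) (1 / 2 : ℝ) • f₀ + (-1 / 2 : ℝ) • f₂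
  have k₃ : D₀ * D₃ + D₃ * D₀ = 0 := by
    linear_combination (norm := module) (1 / 2 : ℝ) • f₀ + (-1 / 2 : ℝ) • f₃
  -- the square of the axis
  have hsq : C * C = qsum I J (D₀ * D₀ - D₁ * D₁ - D₂ * D₂ - D₃ * D₃)
      (D₀ * D₁ + D₁ * D₀ + (D₂ * D₃ - D₃ * D₂)) (D₀ * D₂ + D₂ * D₀ + (D₃ * D₁ - D₁ * D₃))
      (D₀ * D₃ + D₃ * D₀ + (D₁ * D₂ - D₂ * D₁)) := by
    rw [hC]
    simp only [qsum, mul_add, add_mul, mul_sub, mul_assoc, mul_neg, q.II', q.JJ', q.JI', h₀.mul_I' q,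
      h₁.mul_I' q, h₂.mul_I' q, h₃.mul_I' q, h₀.mul_J' q, h₁.mul_J' q, h₂.mul_J' q, h₃.mul_J' q]
    module
  have hz : qsum I J ((-3 : ℝ) • 1) 0 0 0 = (-3 : ℝ) • 1 := by simp [qsum]
  rw [hC2, ← hz, k₁, k₂, k₃, zero_add, zero_add, zero_add] at hsq
  obtain ⟨g0, g1, g2, g3⟩ := q.qsum_inj (hsmul1 _) (IsQPair.Comm.zero q) (IsQPair.Comm.zero q)
    (IsQPair.Comm.zero q)
    ((((h₀.mul q h₀).sub q (h₁.mul q h₁)).sub q (h₂.mul q h₂)).sub q (h₃.mul q h₃))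
    ((h₂.mul q h₃).sub q (h₃.mul q h₂)) ((h₃.mul q h₁).sub q (h₁.mul q h₃))
    ((h₁.mul q h₂).sub q (h₂.mul q h₁)) hsq
  have c23 : D₂ * D₃ = D₃ * D₂ := sub_eq_zero.1 g1.symm
  have c13 : D₁ * D₃ = D₃ * D₁ := (sub_eq_zero.1 g2.symm).symm
  have c12 : D₁ * D₂ = D₂ * D₁ := sub_eq_zero.1 g3.symm
  rw [← c23, ← c13, ← c12] at e₀ e₁ e₂ e₃
  have hD0 : D₀ * D₀ = ((48 - (σ₀ + σ₁ + σ₂ + σ₃)) / 32) • 1 := by
    linear_combination (norm := module) (-1 / 32 : ℝ) • e₀ + (-1 / 32 : ℝ) • e₁ +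
      (-1 / 32 : ℝ) • e₂ + (-1 / 32 : ℝ) • e₃ + (1 / 2 : ℝ) • g0
  have hS : D₁ * D₁ + D₂ * D₂ + D₃ * D₃ =
      (3 + (48 - (σ₀ + σ₁ + σ₂ + σ₃)) / 32) • 1 := by
    linear_combination (norm := module) hD0 + g0
  have hx : D₂ * D₃ = ((σ₀ + σ₁ - σ₂ - σ₃) / 32) • 1 := by
    linear_combination (norm := module) (1 / 32 : ℝ) • e₀ + (1 / 32 : ℝ) • e₁ +
      (-1 / 32 : ℝ) • e₂ + (-1 / 32 : ℝ) • e₃
  have hy : D₁ * D₃ = ((σ₀ - σ₁ + σ₂ - σ₃) / 32) • 1 := by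
    linear_combination (norm := module) (1 / 32 : ℝ) • e₀ + (-1 / 32 : ℝ) • e₁ +
      (1 / 32 : ℝ) • e₂ + (-1 / 32 : ℝ) • e₃
  have hw : D₁ * D₂ = ((σ₀ - σ₁ - σ₂ + σ₃) / 32) • 1 := by
    linear_combination (norm := module) (1 / 32 : ℝ) • e₀ + (-1 / 32 : ℝ) • e₁ +
      (-1 / 32 : ℝ) • e₂ + (1 / 32 : ℝ) • e₃
  have hsum : 48 ≤ σ₀ + σ₁ + σ₂ + σ₃ := by
    have := ρ.smul_one_mul_sq_nonpos s₀ hD0
    linarith
  -- each combination of the coordinates is self-adjoint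
  have hlow : ∀ (σ : ℝ) (L : ρ.E), ρ.IsSym L →
      L * L = (σ / 4 + 3 * ((48 - (σ₀ + σ₁ + σ₂ + σ₃)) / 32)) • 1 →
      0 ≤ σ / 4 + 3 * ((48 - (σ₀ + σ₁ + σ₂ + σ₃)) / 32) :=
    fun σ L hL h => ρ.smul_one_mul_sq_nonneg hL h
  have l₀ := hlow σ₀ (D₁ + D₂ + D₃) ((s₁.adj.add s₂.adj).add s₃.adj) (by
    simp only [mul_add, add_mul, ← c23, ← c13, ← c12]
    linear_combination (norm := module) (1 / 4 : ℝ) • e₀ + (3 : ℝ) • hD0)
  have l₁ := hlow σ₁ (D₁ - D₂ - D₃) ((s₁.adj.sub s₂.adj).sub s₃.adj) (by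
    simp only [mul_sub, sub_mul, ← c23, ← c13, ← c12]
    linear_combination (norm := module) (1 / 4 : ℝ) • e₁ + (3 : ℝ) • hD0)
  have l₂ := hlow σ₂ (-D₁ + D₂ - D₃) ((s₁.adj.neg.add s₂.adj).sub s₃.adj) (by
    simp only [mul_sub, sub_mul, mul_add, add_mul, neg_mul, mul_neg, ← c23, ← c13, ← c12]
    linear_combination (norm := module) (1 / 4 : ℝ) • e₂ + (3 : ℝ) • hD0)
  have l₃ := hlow σ₃ (-D₁ - D₂ + D₃) ((s₁.adj.neg.sub s₂.adj).add s₃.adj) (by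
    simp only [mul_sub, sub_mul, mul_add, add_mul, neg_mul, mul_neg, ← c23, ← c13, ← c12]
    linear_combination (norm := module) (1 / 4 : ℝ) • e₃ + (3 : ℝ) • hD0)
  -- all four pairs icosahedral is impossible
  have hfour : ¬ (σ₀ = 20 ∧ σ₁ = 20 ∧ σ₂ = 20 ∧ σ₃ = 20) := by
    rintro ⟨rfl, rfl, rfl, rfl⟩
    norm_num at hD0 hw
    have htr : ∀ {u : G} {D : ρ.E}, orderOf u = 4 → q.Comm D →
        ρ.R u * C + C * ρ.R u = (2 : ℝ) • (ρ.R u * D₀ - D) → ρ.tr (u * c) = ρ.R u * D₀ - D := by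
      intro u D hu _ he
      have := two_mul_tr (ρ := ρ) hu ho.hc
      rw [← hCdef, he] at this
      exact smul_right_injective ρ.E (two_ne_zero (α := ℝ)) this
    have t₁ : ρ.tr (i * c) = I * D₀ - D₁ := htr hf.hi h₁ (by
      rw [hC]
      simp only [qsum, mul_add, add_mul, mul_assoc, mul_neg, ← hIdef, q.II', q.JI', a₀.1, a₁.1,
        a₂.1, a₃.1, h₁.mul_I' q, h₂.mul_I' q, h₃.mul_I' q, h₂.mul_J' q, h₃.mul_J' q]
      module)
    have t₂ : ρ.tr ((fj i a) * c) = J * D₀ - D₂ := htr hf.hj h₂ (by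
      rw [hC]
      simp only [qsum, mul_add, add_mul, mul_assoc, mul_neg, ← hJdef, q.JJ', q.JI', a₀.2, a₁.2,
        a₂.2, a₃.2, h₁.mul_J' q, h₂.mul_J' q, h₃.mul_J' q, h₁.mul_I' q, h₃.mul_I' q]
      module)
    have hD0' : D₀ ≠ 0 := fun h0 => by
      rw [h0, mul_zero] at hD0
      have h9 := congrArg (fun X : ρ.E => -X) hD0
      simp only [neg_zero, neg_neg] at h9
      exact ρ.one_ne_zero' h9.symm
    have hnot : ∀ (u : G) (U D : ρ.E), ρ.tr u = U * D₀ - D →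
        (U * D₀ - D) * (U * D₀ - D) = 1 + D * D →
        (∀ r : ℝ, U * D₀ - D = r • 1 → D₀ = 0) → ∀ w, D *ᵥ w = 0 → w = 0 := by
      intro u U D hu hsq2 hscal w hw0
      by_contra hne
      refine hD0' ?_
      rcases ρ.axis_dichotomy (g := u) hne (by
        rw [hu, hsq2, add_sub_cancel_left, ← mulVec_mulVec, hw0, mulVec_zero]) with h' | h'
      · exact hscal 1 (by rw [← hu, h', one_smul])
      · exact hscal (-1) (by rw [← hu, h', neg_one_smul])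
    have hinj := hnot _ I D₁ t₁ (by
        simp only [mul_sub, sub_mul, mul_assoc, h₀.mul_I' q, h₁.mul_I' q, q.II']
        rw [hD0]
        linear_combination (norm := (simp only [mul_add, mul_zero]; module)) (-1 : ℝ) • congrArg (I * ·) k₁)
      (fun r hr => by
        have e : qsum I J (-D₁ - r • 1) D₀ 0 0 = 0 := by
          simp only [qsum, mul_zero, add_zero]
          linear_combination (norm := module) hr
        exact (q.qsum_eq_zero ((h₁.neg q).sub q (hsmul1 r)) h₀ (IsQPair.Comm.zero q)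
          (IsQPair.Comm.zero q) e).2.1)
    have hD2 : D₂ = 0 := by
      by_contra hne
      obtain ⟨w, hw'⟩ := ρ.exists_vec_ne_zero hne
      exact hw' (hinj _ (by rw [mulVec_mulVec, hw, zero_mulVec]))
    obtain ⟨w, hw'⟩ := ρ.exists_vec_ne_zero ρ.one_ne_zero'
    rw [one_mulVec] at hw'
    refine hw' (hnot _ J D₂ t₂ ?_ ?_ w (by rw [hD2, zero_mulVec]))
    · rw [hD2, sub_zero, mul_zero, add_zero, mul_assoc, h₀.mul_J' q, q.JJ', hD0, neg_neg]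
    · intro r hr
      have e : qsum I J (-D₂ - r • 1) 0 D₀ 0 = 0 := by
        simp only [qsum, mul_zero, add_zero]
        linear_combination (norm := module) hr
      exact (q.qsum_eq_zero ((h₂.neg q).sub q (hsmul1 r)) (IsQPair.Comm.zero q) h₀
        (IsQPair.Comm.zero q) e).2.2.1
  have hk : σ₀ + σ₁ + σ₂ + σ₃ = 48 := by
    rcases v₀ with rfl | rfl <;> rcases v₁ with rfl | rfl <;> rcases v₂ with rfl | rfl <;>
      rcases v₃ with rfl | rfl <;>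
      first
      | (norm_num; done)
      | (exfalso; linarith)
      | exact absurd ⟨rfl, rfl, rfl, rfl⟩ hfour
  rw [hk] at hD0 hS
  norm_num at hD0 hS
  have hD0z : D₀ = 0 := by
    by_contra hne
    obtain ⟨w, hw'⟩ := ρ.exists_vec_ne_zero hne
    refine hw' (ρ.B_self_eq_zero ?_)
    rw [s₀, mulVec_mulVec, hD0, zero_mulVec, ρ.B_comm, B_zero_left, neg_zero]
  refine ⟨D₁, D₂, D₃, h₁, h₂, h₃, s₁, s₂, s₃, c23, c13, c12, hS, by rw [hC, hD0z], ?_⟩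
  -- exactly two of the pairs are icosahedral
  have hcase : ∀ {A B C' : ρ.E} {e : ℝ}, (e = 1 ∨ e = -1) → B * C' = e • 1 → A * C' = 0 →
      A * B = B * A → A = 0 := by
    intro A B C' e he hBC hAC hAB
    have h9 : e • A = 0 := by
      calc e • A = A * (B * C') := by rw [hBC, mul_smul_comm, mul_one]
        _ = B * (A * C') := by rw [← mul_assoc, hAB, mul_assoc]
        _ = 0 := by rw [hAC, mul_zero]
    exact (smul_eq_zero.1 h9).resolve_left (by rcases he with rfl | rfl <;> norm_num)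
  rcases v₀ with rfl | rfl <;> rcases v₁ with rfl | rfl <;> rcases v₂ with rfl | rfl <;>
    rcases v₃ with rfl | rfl <;> norm_num at hk <;> norm_num at hx hy hw <;>
    first
    | exact ⟨1, Or.inl rfl, Or.inl ⟨hcase (Or.inl rfl) (by rw [one_smul]; exact hx) hy c12,
        by rw [one_smul]; exact hx⟩⟩
    | exact ⟨-1, Or.inr rfl, Or.inl ⟨hcase (Or.inr rfl) (by rw [neg_one_smul]; exact hx) hy c12,
        by rw [neg_one_smul]; exact hx⟩⟩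
    | exact ⟨1, Or.inl rfl, Or.inr (Or.inl ⟨hcase (Or.inl rfl) (by rw [one_smul]; exact hy) hx
        c12.symm, by rw [one_smul]; exact hy⟩)⟩
    | exact ⟨-1, Or.inr rfl, Or.inr (Or.inl ⟨hcase (Or.inr rfl) (by rw [neg_one_smul]; exact hy) hx
        c12.symm, by rw [neg_one_smul]; exact hy⟩)⟩
    | exact ⟨1, Or.inl rfl, Or.inr (Or.inr ⟨hcase (Or.inl rfl) (by rw [one_smul]; exact hw)
        (by rw [← c23]; exact hx) c13.symm, by rw [one_smul]; exact hw⟩)⟩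
    | exact ⟨-1, Or.inr rfl, Or.inr (Or.inr ⟨hcase (Or.inr rfl) (by rw [neg_one_smul]; exact hw)
        (by rw [← c23]; exact hx) c13.symm, by rw [neg_one_smul]; exact hw⟩)⟩

end Cfsg.Agent.Frobenius.FPFRep
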