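import Cfsg.Agent.Lib.Frobenius.ZassBasics
import Cfsg.Agent.Lib.Frobenius.Residual
import Cfsg.Agent.Lib.Frobenius.Structure
import Cfsg.Agent.Lib.PGroup.UniqueOrderP
import Cfsg.Agent.Lib.Transfer.Alperin
import Cfsg.Agent.Lib.Transfer.AbelianHall
import Cfsg.Agent.S5112
import Cfsg.Agent.S5997

/-!
Elements of order three in perfect groups with cyclic subgroups of order `p * q`.

Main results (namespace `Cfsg.Agent.Frobenius.SmallCyclic`):
* `three_dvd_of_perfect`, `exists_noncommuting_three`
-/

namespace Cfsg.Agent.Frobenius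

/-- An element of odd order prime to three acts trivially on a cyclic or quaternion two-group. -/
theorem aut_two_group_trivial {R : Type*} [Group R] [Finite R] (hR : IsPGroup 2 R)
    (h : IsCyclic R ∨ ∃ n : ℕ, Nonempty (R ≃* QuaternionGroup (2 ^ n))) (φ : MulAut R)
    (hφ : (orderOf φ).Coprime 6) : φ = 1 := by
  have h2 : (orderOf φ).Coprime 2 := hφ.coprime_dvd_right (by norm_num)
  have hcyc : IsCyclic R → φ = 1 := by
    intro hc
    have := hc
    have hd : orderOf φ ∣ Nat.card (MulAut R) := orderOf_dvd_natCard φ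
    obtain ⟨k, hk⟩ := hR.exists_card_eq
    rw [IsCyclic.card_mulAut, hk] at hd
    rw [← orderOf_eq_one_iff]
    cases k with
    | zero => simpa using hd
    | succ k =>
      rw [Nat.totient_prime_pow_succ Nat.prime_two, show 2 - 1 = 1 from rfl, mul_one] at hd
      exact Nat.eq_one_of_dvd_coprimes (h2.pow_right k) dvd_rfl hd
  rcases h with h | ⟨n, ⟨e⟩⟩
  · exact hcyc h
  rcases Nat.lt_trichotomy n 1 with hn | hn | hn
  · obtain rfl : n = 0 := by omega
    rw [pow_zero] at e
    have := QuaternionGroup.quaternionGroup_one_isCyclic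
    exact hcyc (isCyclic_of_surjective e.symm.toMonoidHom e.symm.surjective)
  · subst hn
    rw [pow_one] at e
    set ψ := MulAut.congr e φ with hψ
    have ho : orderOf ψ = orderOf φ := MulEquiv.orderOf_eq _ φ
    obtain ⟨f1, f2⟩ := Cfsg.Agent.S5997.mulAut_quat_pow_twelve ψ
    have hgen : ∀ q : QuaternionGroup 2,
        (∃ k : ℕ, q = QuaternionGroup.a 1 ^ k) ∨
          ∃ k : ℕ, q = QuaternionGroup.xa 0 * QuaternionGroup.a 1 ^ k := by
      rintro (l | l)
      · exact Or.inl ⟨l.val, by simp [QuaternionGroup.a_one_pow]⟩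
      · exact Or.inr ⟨l.val, by simp [QuaternionGroup.a_one_pow]⟩
    have h12 : ψ ^ 12 = 1 := by
      refine MulEquiv.ext fun q => ?_
      rw [MulAut.one_apply]
      rcases hgen q with ⟨k, rfl⟩ | ⟨k, rfl⟩
      · rw [map_pow, f1]
      · rw [map_mul, map_pow, f1, f2]
    have hd : orderOf φ ∣ 12 := ho ▸ orderOf_dvd_of_pow_eq_one h12
    exact orderOf_eq_one_iff.1 (Nat.eq_one_of_dvd_coprimes
      ((hφ.mul_right h2).coprime_dvd_right (by norm_num)) dvd_rfl hd)
  · have h2g := Cfsg.Agent.S5112.aut_quaternion n hn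
    obtain ⟨k, hk⟩ := IsPGroup.iff_orderOf.1 h2g (MulAut.congr e φ)
    rw [MulEquiv.orderOf_eq] at hk
    exact orderOf_eq_one_iff.1 (Nat.eq_one_of_dvd_coprimes (h2.pow_right k) dvd_rfl hk.dvd)

variable {G : Type*} [Group G] [Finite G]

namespace SmallCyclic

theorem three_dvd_of_perfect (h : SmallCyclic G) (hp : commutator G = ⊤) [Nontrivial G] :
    3 ∣ Nat.card G := by
  by_contra h3
  have hns : ¬ Group.IsSolvable G := fun _ => absurd hp
    (IsSolvable.commutator_lt_top_of_nontrivial (G := G)).ne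
  have := Fact.mk Nat.prime_two
  obtain ⟨P⟩ : Nonempty (Sylow 2 G) := inferInstance
  have hc : Cfsg.HasNormalPComplement 2 G := by
    refine Transfer.hasNormalPComplement_of_local P fun R hR hR1 n hn hco => ?_
    have hRp : IsPGroup 2 R := P.isPGroup'.to_le hR.1
    have huniq : ∀ x y : R, orderOf x = 2 → y ^ 2 = 1 → y ∈ Subgroup.zpowers x := by
      intro x y hx hy
      by_cases hy1 : y = 1
      · rw [hy1]; exact one_mem _
      · have hy2 : orderOf y = 2 := orderOf_eq_prime hy hy1
        have := h.eq_of_involution (s := (y : G)) (t := (x : G)) (by rw [Subgroup.orderOf_coe, hy2])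
          (by rw [Subgroup.orderOf_coe, hx])
        rw [show y = x from Subtype.ext this]
        exact Subgroup.mem_zpowers x
    have hor : IsCyclic R ∨ ∃ n : ℕ, Nonempty (R ≃* QuaternionGroup (2 ^ n)) :=
      (PGroup.unique_order_p_cases hRp huniq).imp id And.right
    set φ := R.normalizerMonoidHom ⟨n, hn⟩ with hφdef
    have hdn : orderOf φ ∣ orderOf n :=
      (orderOf_map_dvd R.normalizerMonoidHom ⟨n, hn⟩).trans (Subgroup.orderOf_mk n hn).dvd
    have hn3 : (orderOf n).Coprime 3 := ((Nat.Prime.coprime_iff_not_dvd Nat.prime_three).2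
      fun hd => h3 (hd.trans (orderOf_dvd_natCard n))).symm
    have hφ6 : (orderOf φ).Coprime 6 :=
      (hco.mul_right hn3).coprime_dvd_left hdn
    have hφ1 := aut_two_group_trivial hRp hor φ hφ6
    rw [Subgroup.mem_centralizer_iff]
    intro r hr
    have e := congrArg Subtype.val (DFunLike.congr_fun hφ1 ⟨r, hr⟩)
    rw [hφdef] at e
    exact (mul_inv_eq_iff_eq_mul.1 (by simpa using e)).symm
  obtain ⟨Q, N, hN, hNQ⟩ := hc
  have hNtop : N = ⊤ := by
    have hsol : Group.IsSolvable (G ⧸ N) := by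
      have hp2 : IsPGroup 2 (G ⧸ N) :=
        IsPGroup.of_equiv Q.isPGroup' (hNQ.symm.QuotientMulEquiv.symm)
      have := hp2.isNilpotent
      infer_instance
    rw [eq_top_iff]
    exact fun g _ => (QuotientGroup.eq_one_iff g).1 (eq_one_of_perfect hp (QuotientGroup.mk' N) g)
  have hodd : ¬ 2 ∣ Nat.card G := by
    have h1 : Nat.card (Q : Subgroup G) = 1 := by
      have := hNQ.card_mul_card
      rw [hNtop, Subgroup.card_top] at this
      exact Nat.eq_of_mul_eq_mul_left Nat.card_pos (this.trans (mul_one _).symm)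
    intro hd
    have h2 : 2 ∣ Nat.card (Q : Subgroup G) := Sylow.dvd_card_of_dvd_card Q hd
    rw [h1] at h2
    norm_num at h2
  have := h.isZGroup_of_odd hodd
  exact hns inferInstance

/-- A perfect group has two non-commuting elements of order three. -/
theorem exists_noncommuting_three (h : SmallCyclic G) (hp : commutator G = ⊤) [Nontrivial G] :
    ∃ a c : G, orderOf a = 3 ∧ orderOf c = 3 ∧ ¬ Commute a c := by
  have := Fact.mk Nat.prime_three
  obtain ⟨x, hx⟩ := exists_prime_orderOf_dvd_card' (G := G) 3 (h.three_dvd_of_perfect hp)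
  by_contra hne
  push Not at hne
  have hconj : ∀ g : G, orderOf (g * x * g⁻¹) = 3 := fun g => by
    rw [← MulAut.conj_apply, MulEquiv.orderOf_eq, hx]
  have hn : (⊤ : Subgroup G) ≤ Subgroup.normalizer (Subgroup.zpowers x : Set G) := by
    refine (Subgroup.normalizer_eq_top_iff.2 ⟨fun z hz g => ?_⟩).ge
    obtain ⟨k, rfl⟩ := Subgroup.mem_zpowers_iff.1 hz
    rw [← conj_zpow]
    exact zpow_mem (h.mem_zpowers_of_commute Nat.prime_three (hconj g) hx
      (hne _ x (hconj g) hx)) k
  have hcomm : ∀ g : G, Commute g x := fun g =>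
    commute_of_perfect_normalise (by rwa [← commutator_def]) hn (Subgroup.mem_top g)
  obtain ⟨P, hP⟩ : ∃ P : Sylow 3 G, Subgroup.zpowers x ≤ P :=
    IsPGroup.exists_le_sylow (IsPGroup.of_card (n := 1) (by rw [Nat.card_zpowers, hx, pow_one]))
  have hcyc := h.isCyclic_sylow (p := 3) (by norm_num) P
  have hco : Nat.Coprime (Nat.card (P : Subgroup G)) (P : Subgroup G).index := P.card_coprime_index
  have hbot := Transfer.inf_commutator_inf_center_eq_bot (P : Subgroup G) inferInstance hco
  have hxm : x ∈ (P : Subgroup G) ⊓ commutator G ⊓ Subgroup.center G :=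
    ⟨⟨hP (Subgroup.mem_zpowers x), hp ▸ Subgroup.mem_top x⟩,
      Subgroup.mem_center_iff.2 fun g => hcomm g⟩
  rw [hbot, Subgroup.mem_bot] at hxm
  rw [hxm, orderOf_one] at hx
  norm_num at hx

end SmallCyclic

end Cfsg.Agent.Frobenius
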