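import Cfsg.Agent.Lib.Frobenius.ZassSL25
import Cfsg.Agent.Lib.Frobenius.ZassThree
import Cfsg.Agent.Lib.SymOvergroup.Basic
import Cfsg.Agent.Lib.GLOrder.Basic

/-!
Non-solvable groups with a fixed-point-free rational representation.

Main results (namespace `Cfsg.Agent.Frobenius.FPFRep`):
* `exists_core` : a frame and an element in normal form
* `exists_class`, `core_normal`, `mul_centralizer_index` : `closure {i, a, c₀}` is normal and its product with its
  centraliser has index at most two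
-/

namespace Cfsg.Agent.Frobenius.FPFRep

open scoped Pointwise

universe u

variable {G : Type u} [Group G] [Fintype G] {ρ : FPFRep G} {i a c₀ : G}

theorem Frame.not_commute (hf : ρ.Frame i a) : ¬ Commute i (fj i a) := by
  intro h
  have h1 : ρ.R i * ρ.R (fj i a) = -(ρ.R i * ρ.R (fj i a)) :=
    (R_commute h).trans hf.pair.JI
  have h2 : (2 : ℝ) • (ρ.R i * ρ.R (fj i a)) = 0 := by linear_combination (norm := module) h1
  have h3 := (smul_eq_zero.1 h2).resolve_left two_ne_zero
  have h4 : ρ.R i * (ρ.R i * ρ.R (fj i a)) * ρ.R (fj i a) = 0 := by rw [h3, mul_zero, zero_mul]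
  rw [← mul_assoc, hf.pair.II, neg_one_mul, neg_mul, hf.pair.JJ, neg_neg] at h4
  exact ρ.one_ne_zero' h4

theorem Frame.not_commute_a (hf : ρ.Frame i a) : ¬ Commute a i := fun h => hf.not_commute (by
  rw [fj, h.eq, mul_inv_cancel_right])

variable (ρ)

/-- A non-solvable group has a frame with an element in normal form. -/
theorem exists_core (hns : ¬ Group.IsSolvable G) :
    ∃ (i a c₀ : G) (hf : ρ.Frame i a) (D : ρ.E), Normal hf c₀ D := by
  classical
  obtain ⟨P, hPn, hPP, hPker, hPbot⟩ := exists_perfect_residual G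
  have hPne : P ≠ ⊥ := fun h => hns (hPbot h)
  have hnt : Nontrivial P := (Subgroup.nontrivial_iff_ne_bot P).2 hPne
  have hscP : SmallCyclic P := ρ.smallCyclic.of_injective (f := P.subtype) Subtype.val_injective
  obtain ⟨x, y, hx, hy, hxy⟩ := hscP.exists_noncommuting_three (commutator_eq_top_of_perfect hPP)
  have hne1 : (y : G) ≠ x := fun e => hxy (by
    rw [show y = x from Subtype.ext e]; exact Commute.refl x)
  have hne2 : (y : G) ≠ (x : G)⁻¹ := fun e => hxy (by
    rw [show y = x⁻¹ from Subtype.ext e]; exact Commute.inv_right (Commute.refl x))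
  obtain ⟨i, a, hi, ha, hf⟩ := ρ.frame_of_pair (a := (x : G)) (c := (y : G))
    (by rw [Subgroup.orderOf_coe, hx]) (by rw [Subgroup.orderOf_coe, hy]) hne1 hne2
  have hle : Subgroup.closure ({(x : G), (y : G)} : Set G) ≤ P := by
    rw [Subgroup.closure_le]
    simp [Set.insert_subset_iff]
  by_cases hout : ∃ c, Outside i a c
  · obtain ⟨c, hc⟩ := hout
    obtain ⟨t, -, D, hD | hD⟩ := exists_normal hf hc
    · exact ⟨i, a, _, hf, D, hD⟩
    · exact ⟨i, a, _, hf, D, hD⟩
  exfalso
  -- the conjugates of the subgroup generated by `a` are among four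
  let ts : Finset G := {a, i * a * i⁻¹, fj i a * a * (fj i a)⁻¹,
    (i * fj i a) * a * (i * fj i a)⁻¹}
  let S : Finset (Subgroup G) := ts.image Subgroup.zpowers
  have hS : S.card ≤ 4 := Finset.card_image_le.trans Finset.card_le_four
  have hmem : ∀ g : G, orderOf g = 3 → Subgroup.zpowers g ∈ S := by
    intro g hg
    push Not at hout
    have h := hout g
    have h' : ¬ ∀ t : G, (t = a ∨ t = i * a * i⁻¹ ∨ t = (fj i a) * a * (fj i a)⁻¹ ∨
        t = (i * (fj i a)) * a * (i * (fj i a))⁻¹) → g ≠ t ∧ g ≠ t⁻¹ := fun hh => h ⟨hg, hh⟩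
    push Not at h'
    obtain ⟨t, ht, hgt⟩ := h'
    refine Finset.mem_image.2 ⟨t, by simpa [ts] using ht, ?_⟩
    by_cases e : g = t
    · rw [e]
    · rw [hgt e, Subgroup.zpowers_inv]
  have hclosed : ∀ (g : G) (T : Subgroup G), T ∈ S → T.map (MulAut.conj g).toMonoidHom ∈ S := by
    intro g T hT
    obtain ⟨t, ht, rfl⟩ := Finset.mem_image.1 hT
    rw [MonoidHom.map_zpowers]
    refine hmem _ ?_
    rw [MulEquiv.coe_toMonoidHom, MulEquiv.orderOf_eq]
    simp only [ts, Finset.mem_insert, Finset.mem_singleton] at ht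
    rcases ht with rfl | rfl | rfl | rfl <;>
      simp only [← MulAut.conj_apply, MulEquiv.orderOf_eq, hf.ha]
  have hcomp : ∀ (g h : G) (T : Subgroup G), T.map (MulAut.conj (g * h)).toMonoidHom =
      (T.map (MulAut.conj h).toMonoidHom).map (MulAut.conj g).toMonoidHom := by
    intro g h T
    rw [Subgroup.map_map, map_mul]
    rfl
  let act : G → S → S := fun g T => ⟨_, hclosed g T T.2⟩
  have hact1 : ∀ T : S, act 1 T = T := fun T => Subtype.ext (by
    show T.1.map (MulAut.conj (1 : G)).toMonoidHom = T.1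
    rw [map_one]; exact Subgroup.map_id _)
  have hactm : ∀ g h T, act (g * h) T = act g (act h T) := fun g h T => Subtype.ext (hcomp g h T.1)
  let f : G →* Equiv.Perm S :=
    { toFun := fun g =>
        { toFun := act g
          invFun := act g⁻¹
          left_inv := fun T => by rw [← hactm, inv_mul_cancel, hact1]
          right_inv := fun T => by rw [← hactm, mul_inv_cancel, hact1] }
      map_one' := Equiv.ext fun T => hact1 T
      map_mul' := fun g h => Equiv.ext fun T => hactm g h T }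
  have hsol : Group.IsSolvable (Equiv.Perm S) :=
    SymOvergroup.perm_isSolvable_of_card_le_four (by simpa using hS)
  have hnorm : P ≤ Subgroup.normalizer (Subgroup.zpowers a : Set G) := by
    intro g hg
    have h1 : f g = 1 := hPker f hg
    have h2 := congrArg Subtype.val (Equiv.congr_fun h1 ⟨_, hmem a hf.ha⟩)
    exact Subgroup.mem_normalizer_iff_map_conj_eq.2 h2
  exact hf.not_commute_a (commute_of_perfect_normalise hPP hnorm (hle hi)).symm

variable {ρ} {hf : ρ.Frame i a} {D : ρ.E}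

theorem three_mem_core (hn : Normal hf c₀ D) {x : G} (hx : orderOf x = 3) :
    x ∈ Subgroup.closure ({i, a, c₀} : Set G) := mem_core hn hx

theorem core_eq (hn : Normal hf c₀ D) :
    Subgroup.closure ({i, a, c₀} : Set G) = Subgroup.closure {x : G | orderOf x = 3} := by
  refine le_antisymm ?_ ((Subgroup.closure_le _).2 fun x hx => mem_core hn hx)
  have ha : a ∈ Subgroup.closure {x : G | orderOf x = 3} := Subgroup.subset_closure hf.ha
  have h1 : i * a * i⁻¹ ∈ Subgroup.closure {x : G | orderOf x = 3} :=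
    Subgroup.subset_closure (show orderOf (i * a * i⁻¹) = 3 by
      rw [← MulAut.conj_apply, MulEquiv.orderOf_eq, hf.ha])
  have hj : fj i a ∈ Subgroup.closure {x : G | orderOf x = 3} := by
    rw [← inv_inv (fj i a), ← hf.inv_mul_conj]
    exact inv_mem (mul_mem (inv_mem ha) h1)
  have hi : i ∈ Subgroup.closure {x : G | orderOf x = 3} := by
    have := mul_mem (mul_mem (inv_mem ha) hj) ha
    rwa [Frame.inv_conj_fj] at this
  rw [Subgroup.closure_le]
  rintro x (rfl | rfl | rfl)
  · exact hi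
  · exact ha
  · exact Subgroup.subset_closure hn.hc

theorem core_normal (hn : Normal hf c₀ D) :
    (Subgroup.closure ({i, a, c₀} : Set G)).Normal := by
  rw [core_eq hn]
  refine ⟨fun x hx g => ?_⟩
  have : Subgroup.closure {x : G | orderOf x = 3} ≤
      (Subgroup.closure {x : G | orderOf x = 3}).comap (MulAut.conj g).toMonoidHom :=
    (Subgroup.closure_le _).2 fun y hy => Subgroup.subset_closure
      (show orderOf (g * y * g⁻¹) = 3 by rw [← MulAut.conj_apply, MulEquiv.orderOf_eq]; exact hy)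
  exact this hx

theorem card_core (hn : Normal hf c₀ D) :
    Nat.card (Subgroup.closure ({i, a, c₀} : Set G)) = 120 := by
  have := Fact.mk (show Nat.Prime 5 by norm_num)
  obtain ⟨e⟩ := core_mulEquiv hn
  rw [Nat.card_congr e.toEquiv, GLOrder.card_SL_two, Nat.card_zmod]
  norm_num

theorem mem_centralizer_core {n : G} (hn : Normal hf c₀ D) (h1 : n * i = i * n)
    (h2 : n * fj i a = fj i a * n) :
    n ∈ Subgroup.centralizer (Subgroup.closure ({i, a, c₀} : Set G) : Set G) := by
  rw [Subgroup.centralizer_closure, Subgroup.mem_centralizer_iff]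
  rintro x (rfl | rfl | rfl)
  · exact h1.symm
  · exact (commute_a_of_commute hf h1 h2).symm
  · exact (commute_normal_of_commute hn h1 h2).symm

/-- The eight elements of the quaternion group of a frame, seen in the representation. -/
def eight (hf : ρ.Frame i a) : Set ρ.E :=
  {1, -1, ρ.R i, -ρ.R i, ρ.R (fj i a), -ρ.R (fj i a), ρ.R i * ρ.R (fj i a),
    -(ρ.R i * ρ.R (fj i a))}

theorem eight_mul (hf : ρ.Frame i a) {X Y : ρ.E} (hX : X ∈ eight hf) (hY : Y ∈ eight hf) :
    X * Y ∈ eight hf := by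
  simp only [eight, Set.mem_insert_iff, Set.mem_singleton_iff] at hX hY ⊢
  rcases hX with rfl | rfl | rfl | rfl | rfl | rfl | rfl | rfl <;>
    rcases hY with rfl | rfl | rfl | rfl | rfl | rfl | rfl | rfl <;>
    simp [mul_assoc, hf.pair.II, hf.pair.JJ, hf.pair.JI, hf.pair.II', hf.pair.JJ', hf.pair.JI']

/-- The quaternion group of a frame. -/
def quat (hf : ρ.Frame i a) : Subgroup G where
  carrier := {g | ρ.R g ∈ eight hf}
  mul_mem' := fun {g h} hg hh => by
    simp only [Set.mem_ofPred_eq, map_mul]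
    exact eight_mul hf hg hh
  one_mem' := by simp [eight]
  inv_mem' := fun {g} hg => by
    simp only [Set.mem_ofPred_eq] at hg ⊢
    obtain ⟨k, hk⟩ := (isOfFinOrder_of_finite g).mem_powers_iff_mem_zpowers.2
      (Subgroup.inv_mem _ (Subgroup.mem_zpowers g))
    rw [← hk]
    clear hk
    induction k with
    | zero => simp [eight]
    | succ k ih =>
      simp only [pow_succ, map_mul]
      exact eight_mul hf ih hg

theorem i_mem_quat (hf : ρ.Frame i a) : i ∈ quat hf := by
  show ρ.R i ∈ eight hf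
  simp [eight]

theorem j_mem_quat (hf : ρ.Frame i a) : fj i a ∈ quat hf := by
  show ρ.R (fj i a) ∈ eight hf
  simp [eight]

theorem quat_eq_closure (hf : ρ.Frame i a) : quat hf = Subgroup.closure {i, fj i a} := by
  have hi : i ∈ Subgroup.closure ({i, fj i a} : Set G) := Subgroup.subset_closure (by simp)
  have hj : fj i a ∈ Subgroup.closure ({i, fj i a} : Set G) := Subgroup.subset_closure (by simp)
  refine le_antisymm (fun g hg => ?_) ((Subgroup.closure_le _).2 ?_)
  · have hg' : ρ.R g ∈ eight hf := hg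
    simp only [eight, Set.mem_insert_iff, Set.mem_singleton_iff] at hg'
    rcases hg' with h | h | h | h | h | h | h | h
    · rw [show g = 1 from ρ.R_injective (h.trans (map_one ρ.R).symm)]
      exact one_mem _
    · rw [show g = i * i from ρ.R_injective (by rw [h, map_mul, hf.pair.II])]
      exact mul_mem hi hi
    · rw [ρ.R_injective h]; exact hi
    · rw [show g = i⁻¹ from ρ.R_injective (by rw [h, hf.R_inv_i])]
      exact inv_mem hi
    · rw [ρ.R_injective h]; exact hj
    · rw [show g = (fj i a)⁻¹ from ρ.R_injective (by rw [h, hf.R_inv_j])]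
      exact inv_mem hj
    · rw [show g = i * fj i a from ρ.R_injective (by rw [h, map_mul])]
      exact mul_mem hi hj
    · rw [show g = fj i a * i from ρ.R_injective (by rw [h, map_mul, hf.pair.JI])]
      exact mul_mem hj hi
  · rintro x (rfl | rfl)
    · exact i_mem_quat hf
    · exact j_mem_quat hf

theorem card_quat (hf : ρ.Frame i a) (hn : Normal hf c₀ D) : Nat.card (quat hf) = 8 := by
  classical
  have hle : Nat.card (quat hf) ≤ 8 := by
    let T : Finset ρ.E := {1, -1, ρ.R i, -ρ.R i, ρ.R (fj i a), -ρ.R (fj i a),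
      ρ.R i * ρ.R (fj i a), -(ρ.R i * ρ.R (fj i a))}
    have hT : (T : Set ρ.E) = eight hf := by simp [T, eight]
    have hinj : Function.Injective (fun g : quat hf => (⟨ρ.R g, by
        rw [← Finset.mem_coe, hT]; exact g.2⟩ : T)) :=
      fun g h e => Subtype.ext (ρ.R_injective (congrArg Subtype.val e))
    refine (Nat.card_le_card_of_injective _ hinj).trans ?_
    rw [Nat.card_eq_fintype_card, Fintype.card_coe]
    have h1 : ∀ (l : List ρ.E), l.toFinset.card ≤ l.length := fun l => List.toFinset_card_le l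
    simpa [T] using h1 [1, -1, ρ.R i, -ρ.R i, ρ.R (fj i a), -ρ.R (fj i a),
      ρ.R i * ρ.R (fj i a), -(ρ.R i * ρ.R (fj i a))]
  have hz : Subgroup.zpowers i ≤ quat hf := Subgroup.zpowers_le.2 (i_mem_quat hf)
  have hne : Subgroup.zpowers i ≠ quat hf := by
    intro e
    obtain ⟨k, hk⟩ := Subgroup.mem_zpowers_iff.1 (e.symm ▸ j_mem_quat hf : fj i a ∈ Subgroup.zpowers i)
    exact hf.not_commute (hk ▸ Commute.self_zpow i k)
  have h4 : 4 ∣ Nat.card (quat hf) := by
    have := Subgroup.card_dvd_of_le hz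
    rwa [Nat.card_zpowers, hf.hi] at this
  have hgt : 4 < Nat.card (quat hf) := by
    rcases lt_or_eq_of_le (Nat.le_of_dvd Nat.card_pos h4) with h | h
    · exact h
    · exact absurd (Subgroup.eq_of_le_of_card_ge hz (by rw [← h, Nat.card_zpowers, hf.hi])) hne
  obtain ⟨k, hk⟩ := h4
  omega

/-- Up to the group of the normal form every element fixes `i` and sends `j` to `j` or `i j`. -/
theorem exists_class (hn : Normal hf c₀ D) (g : G) :
    ∃ x ∈ Subgroup.closure ({i, a, c₀} : Set G), (x * g) * i * (x * g)⁻¹ = i ∧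
      ((x * g) * fj i a * (x * g)⁻¹ = fj i a ∨
        (x * g) * fj i a * (x * g)⁻¹ = i * fj i a) := by
  classical
  have := Fact.mk Nat.prime_two
  have := core_normal hn
  set H := Subgroup.closure ({i, a, c₀} : Set G) with hH
  set C := Subgroup.centralizer (H : Set G) with hC
  have hiH : i ∈ H := Subgroup.subset_closure (by simp)
  have haH : a ∈ H := Subgroup.subset_closure (by simp)
  have hjH : fj i a ∈ H := mul_mem (mul_mem haH hiH) (inv_mem haH)
  have hQH : quat hf ≤ H := by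
    rw [quat_eq_closure hf, Subgroup.closure_le]
    rintro x (rfl | rfl)
    · exact hiH
    · exact hjH
  have hQ8 : Nat.card ((quat hf).subgroupOf H) = 2 ^ (Nat.card H).factorization 2 := by
    rw [Nat.card_congr (Subgroup.subgroupOfEquivOfLe hQH).toEquiv, card_quat hf hn, card_core hn]
    have h8 : (120 : ℕ).factorization 2 = 3 := by
      rw [show (120 : ℕ) = 2 ^ 3 * 15 by norm_num,
        Nat.factorization_mul (by norm_num) (by norm_num), Finsupp.coe_add, Pi.add_apply,
        Nat.Prime.factorization_pow Nat.prime_two, Finsupp.single_eq_same,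
        Nat.factorization_eq_zero_of_not_dvd (by norm_num)]
    rw [h8]
    norm_num
  have hfr := Sylow.normalizer_sup_eq_top (Sylow.ofCard ((quat hf).subgroupOf H) hQ8)
  rw [Sylow.coe_ofCard, Subgroup.subgroupOf_map_subtype, inf_eq_left.2 hQH] at hfr
  have hg : g ∈ (H : Set G) * (Subgroup.normalizer (quat hf : Set G) : Set G) := by
    rw [← Subgroup.coe_mul_of_right_le_normalizer_left H (Subgroup.normalizer (quat hf : Set G))
      (by rw [Subgroup.normalizer_eq_top (H := H)]; exact le_top), sup_comm, hfr]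
    exact Set.mem_univ _
  obtain ⟨h, hh, n, hn', rfl⟩ := Set.mem_mul.1 hg
  suffices hx : ∃ x ∈ H, (x * n) * i * (x * n)⁻¹ = i ∧
      ((x * n) * fj i a * (x * n)⁻¹ = fj i a ∨ (x * n) * fj i a * (x * n)⁻¹ = i * fj i a) by
    obtain ⟨x, hx, h1, h2⟩ := hx
    refine ⟨x * h⁻¹, mul_mem hx (inv_mem hh), ?_, ?_⟩
    · rwa [mul_assoc x, inv_mul_cancel_left]
    · rwa [mul_assoc x, inv_mul_cancel_left]
  have him : ρ.R (n * i * n⁻¹) ∈ eight hf := ((Subgroup.mem_normalizer_iff.1 hn') i).1 (i_mem_quat hf)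
  have hjm : ρ.R (n * fj i a * n⁻¹) ∈ eight hf :=
    ((Subgroup.mem_normalizer_iff.1 hn') (fj i a)).1 (j_mem_quat hf)
  have haN : a ∈ Subgroup.normalizer (quat hf : Set G) := by
    rw [Subgroup.mem_normalizer_iff_map_conj_eq]
    refine Subgroup.eq_of_le_of_card_ge ?_
      (Subgroup.card_map_of_injective (MulEquiv.injective (MulAut.conj a))).ge
    rw [quat_eq_closure hf, MonoidHom.map_closure, Subgroup.closure_le, ← quat_eq_closure hf]
    rintro _ ⟨y, (rfl | rfl), rfl⟩
    · exact j_mem_quat hf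
    · show ρ.R (a * fj i a * a⁻¹) ∈ eight hf
      have q := hf.pair
      rw [map_mul, map_mul, hf.R_a, hf.R_a_inv]
      have : (1 / 2 : ℝ) • (-(ρ.R i + ρ.R (fj i a) + ρ.R i * ρ.R (fj i a)) - 1) * ρ.R (fj i a) *
          (1 / 2 : ℝ) • (ρ.R i + ρ.R (fj i a) + ρ.R i * ρ.R (fj i a) - 1) =
            ρ.R i * ρ.R (fj i a) := by
        simp only [smul_mul_assoc, mul_smul_comm, mul_sub, sub_mul, mul_neg, neg_mul, mul_add,
          add_mul, mul_assoc, mul_one, one_mul, smul_add, smul_sub, smul_neg, neg_neg,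
          q.II, q.II', q.JJ, q.JI, q.JI']
        module
      rw [this]
      simp [eight]
  have q := hf.pair
  set I := ρ.R i with hI
  set J := ρ.R (fj i a) with hJ
  -- conjugation by `a` permutes the three axes cyclically
  have eA : ρ.R a * I * ρ.R a⁻¹ = J := by rw [hI, hJ, fj, map_mul, map_mul]
  have eA' : ρ.R a * J * ρ.R a⁻¹ = I * J := by
    rw [hf.R_a, hf.R_a_inv]
    simp only [smul_mul_assoc, mul_smul_comm, mul_sub, sub_mul, mul_neg, neg_mul, mul_add,
      add_mul, mul_assoc, mul_one, one_mul, smul_add, smul_sub, smul_neg, neg_neg, ← hI, ← hJ,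
      q.II, q.II', q.JJ, q.JI, q.JI']
    module
  have eA'' : ρ.R a * (I * J) * ρ.R a⁻¹ = I := by
    calc ρ.R a * (I * J) * ρ.R a⁻¹ = (ρ.R a * I * ρ.R a⁻¹) * (ρ.R a * J * ρ.R a⁻¹) := by
          simp only [mul_assoc]
          rw [← mul_assoc (ρ.R a⁻¹) (ρ.R a), R_inv_mul, one_mul]
      _ = J * (I * J) := by rw [eA, eA']
      _ = I := by rw [q.JI', q.JJ, mul_neg, mul_one, neg_neg]
  have eJ : ρ.R (fj i a) * I * ρ.R (fj i a)⁻¹ = -I := by
    rw [hf.R_inv_j, ← hJ, q.JI, neg_mul_neg, mul_assoc, q.JJ, mul_neg_one]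
  have cc : ∀ (x : G) (y : G), ρ.R (x * y * x⁻¹) = ρ.R x * ρ.R y * ρ.R x⁻¹ := fun x y => by
    rw [map_mul, map_mul]
  -- first send `n i n⁻¹` to `± i`
  obtain ⟨x₁, hx₁, hN₁, h₁⟩ : ∃ x ∈ H, x ∈ Subgroup.normalizer (quat hf : Set G) ∧ (ρ.R ((x * n) * i * (x * n)⁻¹) = I ∨
      ρ.R ((x * n) * i * (x * n)⁻¹) = -I) := by
    have key : ∀ x : G, ρ.R ((x * n) * i * (x * n)⁻¹) = ρ.R x * ρ.R (n * i * n⁻¹) * ρ.R x⁻¹ :=
      fun x => by rw [← cc]; congr 1; group
    have hne : ρ.R (n * i * n⁻¹) ≠ 1 ∧ ρ.R (n * i * n⁻¹) ≠ -1 := by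
      have hsq : ρ.R (n * i * n⁻¹) * ρ.R (n * i * n⁻¹) = -1 :=
        ρ.sq_eq_neg_one (by rw [← MulAut.conj_apply, MulEquiv.orderOf_eq, hf.hi])
      have h2 : (1 : ρ.E) ≠ -1 := fun e => ρ.one_ne_zero' (by
        have : (2 : ℝ) • (1 : ρ.E) = 0 := by linear_combination (norm := module) e
        exact (smul_eq_zero.1 this).resolve_left two_ne_zero)
      exact ⟨fun e => h2 (by rw [e, one_mul] at hsq; exact hsq),
        fun e => h2 (by rw [e, neg_one_mul, neg_neg] at hsq; exact hsq)⟩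
    simp only [eight, Set.mem_insert_iff, Set.mem_singleton_iff] at him
    rcases him with e | e | e | e | e | e | e | e
    · exact absurd e hne.1
    · exact absurd e hne.2
    · exact ⟨1, one_mem _, one_mem _, Or.inl (by rw [one_mul, e])⟩
    · exact ⟨1, one_mem _, one_mem _, Or.inr (by rw [one_mul, e])⟩
    · refine ⟨a * a, mul_mem haH haH, mul_mem haN haN, Or.inl ?_⟩
      rw [key, e, ← hJ, map_mul, _root_.mul_inv_rev, map_mul]
      calc ρ.R a * ρ.R a * J * (ρ.R a⁻¹ * ρ.R a⁻¹) = ρ.R a * (ρ.R a * J * ρ.R a⁻¹) * ρ.R a⁻¹ := by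
            simp only [mul_assoc]
        _ = I := by rw [eA', eA'']
    · refine ⟨a * a, mul_mem haH haH, mul_mem haN haN, Or.inr ?_⟩
      rw [key, e, ← hJ, map_mul, _root_.mul_inv_rev, map_mul]
      calc ρ.R a * ρ.R a * -J * (ρ.R a⁻¹ * ρ.R a⁻¹) = -(ρ.R a * (ρ.R a * J * ρ.R a⁻¹) * ρ.R a⁻¹) := by
            simp only [mul_assoc, mul_neg, neg_mul]
        _ = -I := by rw [eA', eA'']
    · exact ⟨a, haH, haN, Or.inl (by rw [key, e, ← hI, ← hJ, eA''])⟩
    · exact ⟨a, haH, haN, Or.inr (by rw [key, e, ← hI, ← hJ, mul_neg, neg_mul, eA''])⟩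
  obtain ⟨x₂, hx₂, hN₂, h₂⟩ : ∃ x ∈ H, x ∈ Subgroup.normalizer (quat hf : Set G) ∧
      (x * n) * i * (x * n)⁻¹ = i := by
    rcases h₁ with h₁ | h₁
    · exact ⟨x₁, hx₁, hN₁, ρ.R_injective h₁⟩
    · refine ⟨fj i a * x₁, mul_mem hjH hx₁,
        mul_mem (Subgroup.le_normalizer (j_mem_quat hf)) hN₁, ρ.R_injective ?_⟩
      rw [show fj i a * x₁ * n * i * (fj i a * x₁ * n)⁻¹ =
        fj i a * ((x₁ * n) * i * (x₁ * n)⁻¹) * (fj i a)⁻¹ by group, cc, h₁, mul_neg, neg_mul,
        eJ, neg_neg]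
  have hy : ρ.R (x₂ * n * fj i a * (x₂ * n)⁻¹) ∈ eight hf :=
    ((Subgroup.mem_normalizer_iff.1 (mul_mem hN₂ hn')) _).1 (j_mem_quat hf)
  have hncomm : ¬ Commute i (x₂ * n * fj i a * (x₂ * n)⁻¹) := by
    intro h
    refine hf.not_commute ((Commute.conj_iff (x₂ * n)).1 ?_)
    rwa [h₂]
  have hIc : ∀ y : G, ρ.R y * I = I * ρ.R y → Commute i y := fun y e =>
    ρ.R_injective (by rw [map_mul, map_mul, ← hI, e])
  have eI : ρ.R i * -J * ρ.R i⁻¹ = J := by
    rw [hf.R_inv_i, ← hI]
    simp only [q.JI, q.II', neg_mul, mul_neg, mul_assoc, neg_neg]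
  have eI' : ρ.R i * -(I * J) * ρ.R i⁻¹ = I * J := by
    rw [hf.R_inv_i, ← hI]
    simp only [q.JI, q.JI', q.II', neg_mul, mul_neg, mul_assoc, neg_neg]
  have hfix : ∀ x : G, x * i * x⁻¹ = i → (x * x₂ * n) * i * (x * x₂ * n)⁻¹ = i := fun x hx => by
    rw [show x * x₂ * n * i * (x * x₂ * n)⁻¹ = x * (x₂ * n * i * (x₂ * n)⁻¹) * x⁻¹ by group, h₂,
      hx]
  have hsplit : ∀ x : G, x * x₂ * n * fj i a * (x * x₂ * n)⁻¹ =
      x * (x₂ * n * fj i a * (x₂ * n)⁻¹) * x⁻¹ := fun x => by group
  simp only [eight, Set.mem_insert_iff, Set.mem_singleton_iff] at hy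
  rcases hy with e | e | e | e | e | e | e | e
  · exact absurd (hIc _ (by rw [e, one_mul, mul_one])) hncomm
  · exact absurd (hIc _ (by rw [e, neg_one_mul, mul_neg, mul_one])) hncomm
  · exact absurd (hIc _ (by rw [e])) hncomm
  · exact absurd (hIc _ (by rw [e, neg_mul, mul_neg])) hncomm
  · exact ⟨x₂, hx₂, h₂, Or.inl (ρ.R_injective e)⟩
  · refine ⟨i * x₂, mul_mem hiH hx₂, hfix i (mul_inv_cancel_right i i),
      Or.inl (ρ.R_injective ?_)⟩
    rw [hsplit, cc, e, eI]
  · exact ⟨x₂, hx₂, h₂, Or.inr (ρ.R_injective (by rw [e, map_mul]))⟩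
  · refine ⟨i * x₂, mul_mem hiH hx₂, hfix i (mul_inv_cancel_right i i),
      Or.inr (ρ.R_injective ?_)⟩
    rw [hsplit, cc, e, eI', map_mul]

/-- The product with the centraliser has index at most two. -/
theorem mul_centralizer_index (hn : Normal hf c₀ D) :
    (Subgroup.closure ({i, a, c₀} : Set G) ⊔
      Subgroup.centralizer (Subgroup.closure ({i, a, c₀} : Set G) : Set G)).index ≤ 2 := by
  classical
  have := core_normal hn
  set H := Subgroup.closure ({i, a, c₀} : Set G) with hH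
  set C := Subgroup.centralizer (H : Set G) with hC
  have hclass := exists_class hn
  rw [← hH] at hclass
  -- two classes
  have hmem : ∀ x g : G, x ∈ H → x * g ∈ H ⊔ C → g ∈ H ⊔ C := fun x g hx hxg => by
    have := mul_mem (inv_mem (Subgroup.mem_sup_left (T := C) hx)) hxg
    rwa [inv_mul_cancel_left] at this
  have hK : ∀ g h : G, g ∉ H ⊔ C → h ∉ H ⊔ C → g⁻¹ * h ∈ H ⊔ C := by
    intro g h hg hh
    obtain ⟨x, hx, hxi, hxj⟩ := hclass g
    obtain ⟨y, hy, hyi, hyj⟩ := hclass h
    have gj : (x * g) * fj i a * (x * g)⁻¹ = i * fj i a := hxj.resolve_left fun e =>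
      hg (hmem x g hx (Subgroup.mem_sup_right (mem_centralizer_core hn
        (mul_inv_eq_iff_eq_mul.1 hxi) (mul_inv_eq_iff_eq_mul.1 e))))
    have hj' : (y * h) * fj i a * (y * h)⁻¹ = i * fj i a := hyj.resolve_left fun e =>
      hh (hmem y h hy (Subgroup.mem_sup_right (mem_centralizer_core hn
        (mul_inv_eq_iff_eq_mul.1 hyi) (mul_inv_eq_iff_eq_mul.1 e))))
    have hCm : (x * g)⁻¹ * (y * h) ∈ C := by
      refine mem_centralizer_core hn (mul_inv_eq_iff_eq_mul.1 ?_) (mul_inv_eq_iff_eq_mul.1 ?_)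
      · calc (x * g)⁻¹ * (y * h) * i * ((x * g)⁻¹ * (y * h))⁻¹ =
              (x * g)⁻¹ * ((y * h) * i * (y * h)⁻¹) * (x * g) := by group
          _ = (x * g)⁻¹ * ((x * g) * i * (x * g)⁻¹) * (x * g) := by rw [hyi, hxi]
          _ = i := by group
      · calc (x * g)⁻¹ * (y * h) * fj i a * ((x * g)⁻¹ * (y * h))⁻¹ =
              (x * g)⁻¹ * ((y * h) * fj i a * (y * h)⁻¹) * (x * g) := by group
          _ = (x * g)⁻¹ * ((x * g) * fj i a * (x * g)⁻¹) * (x * g) := by rw [hj', gj]
          _ = fj i a := by group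
    have hm : g⁻¹ * x⁻¹ * g * (g⁻¹ * x * g) = 1 := by group
    have h1 : g⁻¹ * x⁻¹ * y * g ∈ H := by
      have := Subgroup.Normal.conj_mem (inferInstance : H.Normal) _ (mul_mem (inv_mem hx) hy) g⁻¹
      rwa [inv_inv, show g⁻¹ * (x⁻¹ * y) * g = g⁻¹ * x⁻¹ * y * g by group] at this
    have h2 := mul_mem (inv_mem (Subgroup.mem_sup_left (T := C) h1))
      (Subgroup.mem_sup_right (S := H) hCm)
    rwa [show (g⁻¹ * x⁻¹ * y * g)⁻¹ * ((x * g)⁻¹ * (y * h)) = g⁻¹ * h by group] at h2
  by_cases hall : H ⊔ C = ⊤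
  · rw [hall, Subgroup.index_top]; norm_num
  obtain ⟨g₀, hg₀⟩ : ∃ g₀, g₀ ∉ H ⊔ C := by
    by_contra hne
    push Not at hne
    exact hall (eq_top_iff.2 fun g _ => hne g)
  have hsurj : Function.Surjective (fun b : Bool => (if b then (g₀ : G ⧸ (H ⊔ C)) else ((1 : G) : G ⧸ (H ⊔ C)))) := by
    intro z
    induction z using QuotientGroup.induction_on with
    | H g =>
      by_cases hg : g ∈ H ⊔ C
      · exact ⟨false, QuotientGroup.eq.2 (by simpa using hg)⟩
      · exact ⟨true, QuotientGroup.eq.2 (hK g₀ g hg₀ hg)⟩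
  have := Nat.card_le_card_of_surjective _ hsurj
  rw [Subgroup.index_eq_card]
  exact this.trans (by simp)

end Cfsg.Agent.Frobenius.FPFRep
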