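import Mathlib.Algebra.QuadraticAlgebra.Basic
import Mathlib.LinearAlgebra.Matrix.SpecialLinearGroup
import Cfsg.Agent.Lib.Frobenius.QuatPair

/-!
Quaternions over `ℤ[φ]` evaluated in two rings (for Zassenhaus' theorem).

Main results (namespace `Cfsg.Agent.Frobenius`):
* `IsQPair.qsum_mul`, `qev`, `qev_qmul`
* `Pairs` : the relation between a real algebra and `2 × 2` matrices modulo five given by common
  quaternion coordinates; it is single valued
-/

namespace Cfsg.Agent.Frobenius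

section General

variable {E : Type*} [Ring E] {I J : E}

theorem IsQPair.qsum_mul (h : IsQPair I J) {a₀ a₁ a₂ a₃ b₀ b₁ b₂ b₃ : E} (h₀ : h.Comm a₀)
    (h₁ : h.Comm a₁) (h₂ : h.Comm a₂) (h₃ : h.Comm a₃) :
    qsum I J a₀ a₁ a₂ a₃ * qsum I J b₀ b₁ b₂ b₃ =
      qsum I J (a₀ * b₀ - a₁ * b₁ - a₂ * b₂ - a₃ * b₃) (a₀ * b₁ + a₁ * b₀ + a₂ * b₃ - a₃ * b₂)
        (a₀ * b₂ - a₁ * b₃ + a₂ * b₀ + a₃ * b₁) (a₀ * b₃ + a₁ * b₂ - a₂ * b₁ + a₃ * b₀) := by
  simp only [qsum, mul_add, add_mul, mul_sub, mul_assoc, h.II', h.JJ', h.JI', mul_neg,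
    h₀.mul_I' h, h₁.mul_I' h, h₂.mul_I' h, h₃.mul_I' h, h₀.mul_J' h, h₁.mul_J' h, h₂.mul_J' h,
    h₃.mul_J' h, neg_neg]
  abel

theorem IsQPair.Comm.zsmul {x : E} (h : IsQPair I J) (hx : h.Comm x) (m : ℤ) : h.Comm (m • x) :=
  ⟨by rw [smul_mul_assoc, mul_smul_comm, hx.1], by rw [smul_mul_assoc, mul_smul_comm, hx.2]⟩

variable {S : Type*} [Ring S]

/-- Quadruples. -/
abbrev Quad (S : Type*) := S × S × S × S

/-- Quaternion product of quadruples. -/
def qmul (p q : Quad S) : Quad S :=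
  (p.1 * q.1 - p.2.1 * q.2.1 - p.2.2.1 * q.2.2.1 - p.2.2.2 * q.2.2.2,
    p.1 * q.2.1 + p.2.1 * q.1 + p.2.2.1 * q.2.2.2 - p.2.2.2 * q.2.2.1,
    p.1 * q.2.2.1 - p.2.1 * q.2.2.2 + p.2.2.1 * q.1 + p.2.2.2 * q.2.1,
    p.1 * q.2.2.2 + p.2.1 * q.2.2.1 - p.2.2.1 * q.2.1 + p.2.2.2 * q.1)

/-- Evaluation of a quadruple. -/
def qev (I J : E) (φ : S →+* E) (q : Quad S) : E :=
  qsum I J (φ q.1) (φ q.2.1) (φ q.2.2.1) (φ q.2.2.2)

theorem qev_qmul (h : IsQPair I J) (φ : S →+* E) (hφ : ∀ s, h.Comm (φ s)) (p q : Quad S) :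
    qev I J φ (qmul p q) = qev I J φ p * qev I J φ q := by
  rw [qev, qev, qev, h.qsum_mul (hφ _) (hφ _) (hφ _) (hφ _)]
  simp only [qmul, map_add, map_sub, map_mul]

theorem qev_add (φ : S →+* E) (p q : Quad S) :
    qev I J φ (p + q) = qev I J φ p + qev I J φ q := by
  simp only [qev, qsum, Prod.fst_add, Prod.snd_add, map_add, mul_add]
  abel

theorem qev_zsmul (φ : S →+* E) (m : ℤ) (q : Quad S) : qev I J φ (m • q) = m • qev I J φ q := by
  simp only [qev, qsum, Prod.smul_fst, Prod.smul_snd, map_zsmul, smul_add, mul_smul_comm]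

end General

/-- The ring `ℤ[φ]`, `φ * φ = φ + 1`. -/
abbrev Golden := QuadraticAlgebra ℤ 1 1

section Golden

variable {E : Type*} [Ring E] {I J D : E}

/-- The map sending `φ` to `D`. -/
def goldenHom (hD : D * D = D + 1) : Golden →+* E :=
  (QuadraticAlgebra.lift ⟨D, by rw [one_smul, one_smul, hD, add_comm]⟩).toRingHom

theorem goldenHom_apply (hD : D * D = D + 1) (z : Golden) :
    goldenHom hD z = z.re • (1 : E) + z.im • D := rfl

theorem goldenHom_comm (h : IsQPair I J) (hD : D * D = D + 1) (hc : h.Comm D) (z : Golden) :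
    h.Comm (goldenHom hD z) := by
  rw [goldenHom_apply]
  exact IsQPair.Comm.add h (IsQPair.Comm.zsmul h (IsQPair.Comm.one h) _)
    (IsQPair.Comm.zsmul h hc _)

theorem goldenHom_eq_zero [Algebra ℝ E] [Nontrivial E] (hD : D * D = D + 1) {z : Golden}
    (hz : goldenHom hD z = 0) : z = 0 := by
  rw [goldenHom_apply, ← Int.cast_smul_eq_zsmul ℝ, ← Int.cast_smul_eq_zsmul ℝ] at hz
  have key : ((z.re : ℝ) * z.re + z.re * z.im - z.im * z.im) • (1 : E) = 0 := by
    have h1 : (z.im : ℝ) • D = -((z.re : ℝ) • (1 : E)) := eq_neg_of_add_eq_zero_right hz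
    have h2 := congrArg (fun x : E => x * ((z.im : ℝ) • D)) h1
    simp only [smul_mul_assoc, mul_smul_comm, neg_mul, one_mul, hD, smul_add, smul_smul] at h2
    linear_combination (norm := module) -h2 + ((z.re : ℝ) + z.im) • h1
  rw [smul_eq_zero, or_iff_left one_ne_zero] at key
  have him : z.im = 0 := by
    by_contra hne
    have h5 : IsSquare (5 : ℚ) := by
      refine ⟨(2 * z.re + z.im : ℚ) / z.im, ?_⟩
      have hq : (z.re : ℚ) * z.re + z.re * z.im - z.im * z.im = 0 := by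
        have hZ : z.re * z.re + z.re * z.im - z.im * z.im = 0 := by exact_mod_cast key
        exact_mod_cast hZ
      have hne' : (z.im : ℚ) ≠ 0 := by exact_mod_cast hne
      field_simp
      linear_combination -4 * hq
    norm_num at h5
  rw [him, Int.cast_zero, zero_smul, add_zero, smul_eq_zero, or_iff_left one_ne_zero] at hz
  exact QuadraticAlgebra.ext (by exact_mod_cast hz) him

end Golden

/-- Matrices modulo five. -/
abbrev M5 := Matrix (Fin 2) (Fin 2) (ZMod 5)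

/-- The image of `i`. -/
def I5 : M5 := !![2, 0; 0, 3]

/-- The image of `j`. -/
def J5 : M5 := !![0, 1; 4, 0]

theorem pair5 : IsQPair I5 J5 := ⟨by decide, by decide, by decide⟩

theorem three_golden5 : (3 : M5) * 3 = 3 + 1 := by decide

theorem comm5 (z : Golden) : pair5.Comm (goldenHom three_golden5 z) :=
  goldenHom_comm pair5 _ ⟨by decide, by decide⟩ z

/-- The image of a quadruple modulo five. -/
def ev5 (q : Quad Golden) : M5 := qev I5 J5 (goldenHom three_golden5) q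

theorem zsmul5 (a b : ℤ) (h : (a : ZMod 5) = b) (Y : M5) : a • Y = b • Y := by
  rw [← Int.cast_smul_eq_zsmul (ZMod 5), h, Int.cast_smul_eq_zsmul]

theorem three_two_pow (k m : ℕ) : (((3 : ℤ) ^ (k + m) * 2 ^ m : ℤ) : ZMod 5) = ((3 : ℤ) ^ k : ℤ) := by
  push_cast
  rw [pow_add, mul_assoc, ← mul_pow, show (3 : ZMod 5) * 2 = 1 by decide, one_pow, mul_one]

section Pairs

variable {E : Type*} [Ring E] [Algebra ℝ E] {I J D : E}

/-- `X` and `Y` have, up to powers of two, the same quaternion coordinates in `ℤ[φ]`. -/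
def Pairs (I J : E) (hD : D * D = D + 1) (X : E) (Y : M5) : Prop :=
  ∃ (k : ℕ) (q : Quad Golden), qev I J (goldenHom hD) q = ((2 : ℤ) ^ k) • X ∧
    Y = ((3 : ℤ) ^ k) • ev5 q

variable (hD : D * D = D + 1)

omit [Algebra ℝ E] in
theorem Pairs.one : Pairs I J hD 1 1 :=
  ⟨0, (1, 0, 0, 0), by simp [qev, qsum], by simp [ev5, qev, qsum]⟩

theorem Pairs.mul (h : IsQPair I J) (hc : h.Comm D) {X X' : E} {Y Y' : M5}
    (p : Pairs I J hD X Y) (p' : Pairs I J hD X' Y') : Pairs I J hD (X * X') (Y * Y') := by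
  obtain ⟨k, q, hq, rfl⟩ := p
  obtain ⟨m, q', hq', rfl⟩ := p'
  refine ⟨k + m, qmul q q', ?_, ?_⟩
  · rw [qev_qmul h _ (goldenHom_comm h hD hc), hq, hq', smul_mul_smul_comm, ← pow_add]
  · simp only [ev5]
    rw [qev_qmul pair5 _ comm5, smul_mul_smul_comm, ← pow_add]

theorem Pairs.add {X X' : E} {Y Y' : M5} (p : Pairs I J hD X Y) (p' : Pairs I J hD X' Y') :
    Pairs I J hD (X + X') (Y + Y') := by
  obtain ⟨k, q, hq, rfl⟩ := p
  obtain ⟨m, q', hq', rfl⟩ := p'
  refine ⟨k + m, ((2 : ℤ) ^ m) • q + ((2 : ℤ) ^ k) • q', ?_, ?_⟩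
  · rw [qev_add, qev_zsmul, qev_zsmul, hq, hq', smul_smul, smul_smul, ← pow_add, ← pow_add,
      smul_add, add_comm m k]
  · simp only [ev5]
    rw [qev_add, qev_zsmul, qev_zsmul, smul_add, smul_smul, smul_smul,
      zsmul5 _ _ (three_two_pow k m), add_comm k m, zsmul5 _ _ (three_two_pow m k)]

theorem Pairs.neg {X : E} {Y : M5} (p : Pairs I J hD X Y) : Pairs I J hD (-X) (-Y) := by
  obtain ⟨k, q, hq, rfl⟩ := p
  refine ⟨k, (-1 : ℤ) • q, ?_, ?_⟩
  · rw [qev_zsmul, hq, neg_one_zsmul, smul_neg]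
  · simp only [ev5]
    rw [qev_zsmul, neg_one_zsmul, smul_neg]

theorem Pairs.sum {ι : Type*} (s : Finset ι) {X : ι → E} {Y : ι → M5}
    (p : ∀ x ∈ s, Pairs I J hD (X x) (Y x)) :
    Pairs I J hD (∑ x ∈ s, X x) (∑ x ∈ s, Y x) := by
  classical
  induction s using Finset.induction_on with
  | empty => exact ⟨0, 0, by simp [qev, qsum], by simp [ev5, qev, qsum]⟩
  | insert x s hx ih =>
    rw [Finset.sum_insert hx, Finset.sum_insert hx]
    exact Pairs.add hD (p x (Finset.mem_insert_self x s))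
      (ih fun y hy => p y (Finset.mem_insert_of_mem hy))

variable [Nontrivial E]

theorem Pairs.eq_zero (h : IsQPair I J) (hc : h.Comm D) {Y : M5} (p : Pairs I J hD 0 Y) :
    Y = 0 := by
  obtain ⟨k, q, hq, rfl⟩ := p
  rw [smul_zero] at hq
  obtain ⟨e₀, e₁, e₂, e₃⟩ := h.qsum_eq_zero (goldenHom_comm h hD hc _) (goldenHom_comm h hD hc _)
    (goldenHom_comm h hD hc _) (goldenHom_comm h hD hc _) hq
  simp [ev5, qev, qsum, goldenHom_eq_zero hD e₀, goldenHom_eq_zero hD e₁,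
    goldenHom_eq_zero hD e₂, goldenHom_eq_zero hD e₃]

theorem Pairs.unique (h : IsQPair I J) (hc : h.Comm D) {X : E} {Y Y' : M5}
    (p : Pairs I J hD X Y) (p' : Pairs I J hD X Y') : Y = Y' := by
  have := Pairs.add hD p (Pairs.neg hD p')
  rw [add_neg_cancel] at this
  rw [← sub_eq_zero, sub_eq_add_neg]
  exact Pairs.eq_zero hD h hc this

end Pairs

end Cfsg.Agent.Frobenius
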