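import Cfsg.Agent.Lib.Frobenius.ZassRep

/-!
Pairs of elements in a fixed-point-free representation (for Zassenhaus' theorem).

Main results (namespace `Cfsg.Agent.Frobenius.FPFRep`):
* `pair_trichotomy` : two elements of order three generating different subgroups have axes whose
  anticommutator is `2`, `-2`, or squares to `20` (with eigenvalue `2 * √5`)
* `axis_dichotomy`, `five_or_ten` : facts about `g + g⁻¹`
-/

namespace Cfsg.Agent.Frobenius.FPFRep

open Matrix

variable {G : Type*} [Group G] [Fintype G] (ρ : FPFRep G)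

/-- `g + g⁻¹` as a real matrix. -/
noncomputable def tr (g : G) : ρ.E := ρ.R g + ρ.R g⁻¹

theorem smul_one_mulVec (r : ℝ) (w : Fin ρ.n → ℝ) : (r • (1 : ρ.E)) *ᵥ w = r • w := by
  rw [smul_mulVec, one_mulVec]

theorem tr_one : ρ.tr 1 = 2 := by
  rw [tr, inv_one, map_one, one_add_one_eq_two]

theorem tr_of_order_two {g : G} (h : orderOf g = 2) : ρ.tr g = -2 := by
  have h2 : g * g = 1 := by rw [← sq, ← h, pow_orderOf_eq_one]
  rw [tr, inv_eq_of_mul_eq_one_right h2, ρ.eq_neg_one (fun e => by simp [e] at h) h2,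
    ← neg_add, one_add_one_eq_two]

theorem tr_of_order_three {g : G} (h : orderOf g = 3) : ρ.tr g = -1 := by
  rw [tr, ρ.R_inv_order_three h]
  abel

theorem tr_of_order_four {g : G} (h : orderOf g = 4) : ρ.tr g = 0 := by
  have hi : ρ.R g⁻¹ = -ρ.R g := by
    calc ρ.R g⁻¹ = ρ.R g⁻¹ * -(ρ.R g * ρ.R g) := by rw [ρ.sq_eq_neg_one h, neg_neg, mul_one]
      _ = _ := by rw [mul_neg, ← mul_assoc, R_inv_mul, one_mul]
  rw [tr, hi, add_neg_cancel]

theorem R_pow_half {g : G} {d : ℕ} (hd : 0 < d) (h : orderOf g = d + d) : ρ.R g ^ d = -1 := by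
  rw [← map_pow]
  refine ρ.eq_neg_one (pow_ne_one_of_lt_orderOf hd.ne' (by omega)) ?_
  rw [← pow_add, ← h, pow_orderOf_eq_one]

theorem tr_of_order_six {g : G} (h : orderOf g = 6) : ρ.tr g = 1 := by
  have h3 : ρ.R g ^ 3 = -1 := ρ.R_pow_half (by norm_num) h
  have hne : g * g ≠ 1 := by
    rw [← sq]; exact pow_ne_one_of_lt_orderOf (by norm_num) (by omega)
  have hne1 : g ≠ 1 := fun e => by simp [e] at h
  -- `g + 1` is cancellable
  have h0 : (ρ.R g + 1) * (ρ.R g * ρ.R g - ρ.R g + 1) = 0 := by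
    simp only [mul_add, mul_sub, add_mul, one_mul, mul_one]
    rw [show ρ.R g * (ρ.R g * ρ.R g) = ρ.R g ^ 3 by simp [pow_succ, mul_assoc], h3]
    abel
  have hq : ρ.R g * ρ.R g - ρ.R g + 1 = 0 := by
    refine ρ.mul_eq_zero_of_ne_one hne ?_
    calc (ρ.R (g * g) - 1) * (ρ.R g * ρ.R g - ρ.R g + 1)
        = (ρ.R g - 1) * ((ρ.R g + 1) * (ρ.R g * ρ.R g - ρ.R g + 1)) := by
          rw [map_mul]; noncomm_ring
      _ = 0 := by rw [h0, mul_zero]
  calc ρ.tr g = ρ.R g⁻¹ * (ρ.R g * ρ.R g - ρ.R g + 1) + 1 := by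
        simp only [mul_add, mul_sub, mul_one, ← mul_assoc, R_inv_mul, one_mul]
        rw [tr]; abel
    _ = 1 := by rw [hq, mul_zero, zero_add]

theorem tr_of_order_ten {g : G} (h : orderOf g = 10) : ρ.tr g * ρ.tr g - ρ.tr g = 1 := by
  have h5 : ρ.R g ^ 5 = -1 := ρ.R_pow_half (by norm_num) h
  have hne : g * g ≠ 1 := by
    rw [← sq]; exact pow_ne_one_of_lt_orderOf (by norm_num) (by omega)
  set A := ρ.R g with hA
  set Y := A * A * A * A - A * A * A + A * A - A + 1
  have h0 : (A + 1) * Y = 0 := by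
    calc (A + 1) * Y = A * A * A * A * A + 1 := by simp only [Y]; noncomm_ring
      _ = 0 := by
          rw [show A * A * A * A * A = A ^ 5 by simp [pow_succ, mul_assoc], h5, neg_add_cancel]
  have hq : Y = 0 := by
    refine ρ.mul_eq_zero_of_ne_one hne ?_
    calc (ρ.R (g * g) - 1) * Y = (A - 1) * ((A + 1) * Y) := by
          rw [map_mul]; noncomm_ring
      _ = 0 := by rw [h0, mul_zero]
  set B' := ρ.R g⁻¹
  have hBA : B' * A = 1 := ρ.R_inv_mul g
  have hAB : A * B' = 1 := ρ.R_mul_inv g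
  have h1 : ∀ x : ρ.E, B' * (A * x) = x := fun x => by rw [← mul_assoc, hBA, one_mul]
  have e : B' * (B' * Y) = (A + B') * (A + B') - (A + B') - 1 := by
    simp only [Y, mul_add, mul_sub, add_mul, mul_one, mul_assoc, h1, hBA, hAB]
    abel
  rw [hq, mul_zero, mul_zero, eq_comm, sub_eq_zero] at e
  exact e

/-- The arguments excluded by the bound on pairs of elements of order three. -/
theorem exists_bad_root {m : ℕ} (hm : 0 < m)
    (hm' : m ∉ ({1, 3, 4, 6, 10} : Finset ℕ)) :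
    ∃ j : ℕ, j.Coprime m ∧ Real.cos (2 * Real.pi * j / m) < -(1 / 2) := by
  simp only [Finset.mem_insert, Finset.mem_singleton, not_or] at hm'
  have key : ∀ j : ℕ, 2 * j ≤ m → m < 3 * j →
      Real.cos (2 * Real.pi * j / m) < -(1 / 2) := by
    intro j h1 h2
    have hmR : (0 : ℝ) < m := by exact_mod_cast hm
    have h1' : (2 : ℝ) * j ≤ m := by exact_mod_cast h1
    have h2' : (m : ℝ) < 3 * j := by exact_mod_cast h2
    have hπ := Real.pi_pos
    have hcos : Real.cos (Real.pi - Real.pi / 3) = -(1 / 2) := by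
      rw [Real.cos_pi_sub, Real.cos_pi_div_three]
    rw [← hcos]
    refine Real.cos_lt_cos_of_nonneg_of_le_pi (by linarith) ?_ ?_
    · rw [div_le_iff₀ hmR]; nlinarith
    · rw [lt_div_iff₀ hmR]; nlinarith
  rcases Nat.even_or_odd m with he | ho
  · obtain ⟨k, rfl⟩ := he
    rcases Nat.even_or_odd k with hk | hk
    · -- `m = 4 * l`
      obtain ⟨l, rfl⟩ := hk
      refine ⟨l + l - 1, ?_, key _ (by omega) (by omega)⟩
      refine Nat.coprime_of_dvd' fun p hp h1 h2 => ?_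
      have h1' : p ∣ 2 * (l + l - 1) := Dvd.dvd.mul_left h1 2
      have hd : p ∣ (l + l + (l + l)) - 2 * (l + l - 1) := Nat.dvd_sub h2 h1'
      rw [show (l + l + (l + l)) - 2 * (l + l - 1) = 2 by omega] at hd
      rcases (Nat.dvd_prime Nat.prime_two).1 hd with rfl | rfl
      · exact dvd_rfl
      · omega
    · obtain ⟨l, rfl⟩ := hk
      rcases eq_or_ne l 0 with rfl | hl
      · exact ⟨1, Nat.coprime_one_left _, key 1 (by omega) (by omega)⟩
      refine ⟨2 * l + 1 - 2, ?_, key _ (by omega) (by omega)⟩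
      refine Nat.coprime_of_dvd' fun p hp h1 h2 => ?_
      have h1' : p ∣ 2 * (2 * l + 1 - 2) := Dvd.dvd.mul_left h1 2
      have hd : p ∣ (2 * l + 1 + (2 * l + 1)) - 2 * (2 * l + 1 - 2) := Nat.dvd_sub h2 h1'
      rw [show (2 * l + 1 + (2 * l + 1)) - 2 * (2 * l + 1 - 2) = 2 ^ 2 by omega] at hd
      have hp2 := (Nat.prime_dvd_prime_iff_eq hp Nat.prime_two).1 (hp.dvd_of_dvd_pow hd)
      subst hp2
      omega
  · obtain ⟨l, rfl⟩ := ho
    refine ⟨l, ?_, key _ (by omega) (by omega)⟩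
    refine Nat.coprime_of_dvd' fun p hp h1 h2 => ?_
    exact (Nat.dvd_add_right (Dvd.dvd.mul_left h1 2)).1 h2

/-- The trichotomy for two elements of order three generating different subgroups. -/
theorem pair_trichotomy {a c : G} (ha : orderOf a = 3) (hc : orderOf c = 3) (h1 : c ≠ a)
    (h2 : c ≠ a⁻¹) :
    let P := ρ.axis a * ρ.axis c + ρ.axis c * ρ.axis a
    P = 2 ∨ P = -2 ∨ (P * P = 20 ∧ ∃ w ≠ 0, P *ᵥ w = (2 * Real.sqrt 5) • w) := by
  intro P
  set g := a * c with hg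
  have hP : P = 4 * ρ.tr g - 2 := by
    simp only [P, axis, tr, hg, map_mul, _root_.mul_inv_rev, ρ.R_inv_order_three ha,
      ρ.R_inv_order_three hc]
    rw [show (4 : ρ.E) = 1 + 1 + 1 + 1 by norm_num, show (2 : ρ.E) = 1 + 1 by norm_num]
    noncomm_ring
  have hA := ρ.axis_skew ha
  have hC := ρ.axis_skew hc
  have hPw : ∀ (r : ℝ) w, ρ.tr g *ᵥ w = r • w → P *ᵥ w = (4 * r - 2) • w := by
    intro r w hw
    rw [hP, sub_mulVec, show (4 : ρ.E) * ρ.tr g = (4 : ℝ) • ρ.tr g by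
      rw [Algebra.smul_def, map_ofNat], show (2 : ρ.E) = (2 : ℝ) • 1 by
      rw [Algebra.smul_def, mul_one, map_ofNat], smul_mulVec, hw, smul_one_mulVec, sub_smul,
      smul_smul]
  have hlow : ∀ j : ℕ, j.Coprime (orderOf g) →
      -(1 / 2) ≤ Real.cos (2 * Real.pi * j / orderOf g) := by
    intro j hj
    obtain ⟨w, hw, hw'⟩ := ρ.exists_eigenvector g hj
    have hb := ρ.skew_bound hA hC (ρ.axis_sq ha) (ρ.axis_sq hc) w
    rw [show ρ.axis a * ρ.axis c + ρ.axis c * ρ.axis a = P from rfl, hPw _ w hw', B_smul_left,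
      abs_mul, abs_of_nonneg (ρ.B_self_nonneg w)] at hb
    have := abs_le.1 (le_of_mul_le_mul_right hb (ρ.B_self_pos hw))
    linarith
  have hm : orderOf g ∈ ({1, 3, 4, 6, 10} : Finset ℕ) := by
    by_contra hm
    obtain ⟨j, hj, hlt⟩ := exists_bad_root (orderOf_pos g) hm
    exact absurd (hlow j hj) (not_le.2 hlt)
  simp only [Finset.mem_insert, Finset.mem_singleton] at hm
  rcases hm with hm | hm | hm | hm | hm
  · exact absurd (eq_inv_of_mul_eq_one_right (orderOf_eq_one_iff.1 hm)) h2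
  · exfalso
    -- the axes coincide
    have hP6 : P = -6 := by rw [hP, ρ.tr_of_order_three hm]; norm_num
    set X := ρ.axis a - ρ.axis c with hX
    have hX2 : X * X = 0 := by
      calc X * X = ρ.axis a * ρ.axis a + ρ.axis c * ρ.axis c - P := by
            simp only [X, P]; noncomm_ring
        _ = 0 := by rw [ρ.axis_sq ha, ρ.axis_sq hc, hP6]; norm_num
    have hXskew : ρ.IsSkew X := fun u v => by
      simp only [X, sub_mulVec, B_sub_left, B_sub_right, hA u v, hC u v]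
      ring
    have hX0 : X = 0 := by
      by_contra hne
      obtain ⟨w, hw⟩ := ρ.exists_vec_ne_zero hne
      refine hw (ρ.B_self_eq_zero ?_)
      rw [hXskew, mulVec_mulVec, hX2, zero_mulVec, ρ.B_comm, B_zero_left, neg_zero]
    exact h1 (ρ.axis_injective (sub_eq_zero.1 hX0)).symm
  · exact Or.inr (Or.inl (by rw [hP, ρ.tr_of_order_four hm]; norm_num))
  · exact Or.inl (by rw [hP, ρ.tr_of_order_six hm]; norm_num)
  · refine Or.inr (Or.inr ⟨?_, ?_⟩)
    · calc P * P = 16 * (ρ.tr g * ρ.tr g - ρ.tr g) + 4 := by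
            rw [hP]; noncomm_ring; norm_num [two_smul]
        _ = 20 := by rw [ρ.tr_of_order_ten hm]; norm_num
    · obtain ⟨w, hw, hw'⟩ := ρ.exists_eigenvector g (j := 1) (Nat.coprime_one_left _)
      refine ⟨w, hw, ?_⟩
      rw [hPw _ w hw', hm]
      congr 1
      rw [show 2 * Real.pi * ((1 : ℕ) : ℝ) / ((10 : ℕ) : ℝ) = Real.pi / 5 by push_cast; ring,
        Real.cos_pi_div_five]
      ring

theorem pow_six_mulVec {g : G} {e : ℝ} (he : e = 1 ∨ e = -1) {w : Fin ρ.n → ℝ}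
    (h : ρ.tr g *ᵥ w = e • w) : ρ.R g ^ 6 *ᵥ w = w := by
  have h2 : ρ.R g *ᵥ (ρ.R g *ᵥ w) = e • (ρ.R g *ᵥ w) - w := by
    have := congrArg (ρ.R g *ᵥ ·) h
    simp only [tr, add_mulVec, mulVec_add, mulVec_mulVec, R_mul_inv, one_mulVec, mulVec_smul] at this
    rw [mulVec_mulVec]
    exact eq_sub_of_add_eq this
  have hee : e * e = 1 := by rcases he with rfl | rfl <;> norm_num
  have h3 : ρ.R g *ᵥ (ρ.R g *ᵥ (ρ.R g *ᵥ w)) = -(e • w) := by
    rw [h2, mulVec_sub, mulVec_smul, h2, smul_sub, smul_smul, hee, one_smul]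
    abel
  calc ρ.R g ^ 6 *ᵥ w =
        ρ.R g *ᵥ (ρ.R g *ᵥ (ρ.R g *ᵥ (ρ.R g *ᵥ (ρ.R g *ᵥ (ρ.R g *ᵥ w))))) := by
        simp [pow_succ, mulVec_mulVec, mul_assoc]
    _ = w := by
        rw [h3]
        simp only [mulVec_neg, mulVec_smul, h3, smul_neg, smul_smul, hee, one_smul, neg_neg]

theorem axis_dichotomy {g : G} {w : Fin ρ.n → ℝ} (hw : w ≠ 0)
    (h : (ρ.tr g * ρ.tr g - 1) *ᵥ w = 0) : ρ.tr g = 1 ∨ ρ.tr g = -1 := by
  have hS2 : ρ.tr g *ᵥ (ρ.tr g *ᵥ w) = w := by
    rwa [sub_mulVec, one_mulVec, sub_eq_zero, ← mulVec_mulVec] at h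
  have h6 : g ^ 6 = 1 := by
    by_contra hne
    obtain ⟨w', hw', h'⟩ : ∃ w', w' ≠ 0 ∧ ρ.R g ^ 6 *ᵥ w' = w' := by
      by_cases hz : ρ.tr g *ᵥ w + w = 0
      · exact ⟨w, hw, ρ.pow_six_mulVec (Or.inr rfl)
          (by rw [neg_one_smul]; exact eq_neg_of_add_eq_zero_left hz)⟩
      · exact ⟨_, hz, ρ.pow_six_mulVec (Or.inl rfl)
          (by rw [one_smul, mulVec_add, hS2, add_comm])⟩
    exact hw' (ρ.fpfR hne (by rw [map_pow]; exact h'))
  have hd := orderOf_dvd_of_pow_eq_one h6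
  have hle : orderOf g ≤ 6 := Nat.le_of_dvd (by norm_num) hd
  have h4 : ∀ r : ℝ, ρ.tr g = r • (1 : ρ.E) → r * r = 1 := by
    intro r hr
    rw [hr, smul_one_mulVec, smul_one_mulVec, smul_smul] at hS2
    obtain ⟨i, hi⟩ : ∃ i, w i ≠ 0 := Function.ne_iff.1 hw
    have := congrFun hS2 i
    simpa [hi] using this
  obtain h | h | h | h : orderOf g = 1 ∨ orderOf g = 2 ∨ orderOf g = 3 ∨ orderOf g = 6 := by
    have h0 := orderOf_pos g
    interval_cases orderOf g <;> simp_all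
  · have := h4 2 (by rw [orderOf_eq_one_iff.1 h, tr_one, Algebra.smul_def, mul_one, map_ofNat])
    norm_num at this
  · have := h4 (-2) (by
      rw [ρ.tr_of_order_two h, neg_smul, Algebra.smul_def, mul_one, map_ofNat])
    norm_num at this
  · exact Or.inr (ρ.tr_of_order_three h)
  · exact Or.inl (ρ.tr_of_order_six h)

theorem five_or_ten {g : G} (h : (ρ.tr g * ρ.tr g - ρ.tr g - 1) *
      (ρ.tr g * ρ.tr g + ρ.tr g - 1) = 0) :
    ρ.tr g * ρ.tr g - ρ.tr g - 1 = 0 ∨ ρ.tr g * ρ.tr g + ρ.tr g - 1 = 0 := by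
  by_cases hY : ρ.tr g * ρ.tr g + ρ.tr g - 1 = 0
  · exact Or.inr hY
  refine Or.inl ?_
  obtain ⟨w, hw⟩ := ρ.exists_vec_ne_zero hY
  set v := (ρ.tr g * ρ.tr g + ρ.tr g - 1) *ᵥ w with hv
  set A := ρ.R g
  set B' := ρ.R g⁻¹
  set S := ρ.tr g with hSdef
  have hS : S = A + B' := rfl
  have hBA : B' * A = 1 := ρ.R_inv_mul g
  have hAB : A * B' = 1 := ρ.R_mul_inv g
  have h1 : ∀ x : ρ.E, B' * (A * x) = x := fun x => by rw [← mul_assoc, hBA, one_mul]
  have h2 : ∀ x : ρ.E, A * (B' * x) = x := fun x => by rw [← mul_assoc, hAB, one_mul]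
  have h10 : A ^ 10 - 1 = (A ^ 5 - 1) * (A + 1) * (A ^ 2) * (S * S - S - 1) := by
    simp only [hS, pow_succ, pow_zero, one_mul, mul_one, add_mul, sub_mul, mul_add, mul_sub,
      mul_assoc, h1, h2, hAB, hBA]
    abel
  have hg10 : g ^ 10 = 1 := by
    by_contra hne
    refine hw (ρ.fpfR hne ?_)
    rw [map_pow, ← sub_eq_zero]
    calc A ^ 10 *ᵥ v - v = (A ^ 10 - 1) *ᵥ v := by rw [sub_mulVec, one_mulVec]
      _ = 0 := by
          rw [h10, hv, mulVec_mulVec, mul_assoc _ (S * S - S - 1), h, mul_zero, zero_mulVec]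
  have hd := orderOf_dvd_of_pow_eq_one hg10
  have hle : orderOf g ≤ 10 := Nat.le_of_dvd (by norm_num) hd
  obtain hm | hm | hm | hm : orderOf g = 1 ∨ orderOf g = 2 ∨ orderOf g = 5 ∨ orderOf g = 10 := by
    have h0 := orderOf_pos g
    interval_cases orderOf g <;> simp_all
  · exfalso
    have hS1 : S = 2 := by rw [hSdef, orderOf_eq_one_iff.1 hm, tr_one]
    rw [hS1] at h
    norm_num at h
    have := ρ.charZero
    norm_num at h
  · exfalso
    rw [hSdef, ρ.tr_of_order_two hm] at h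
    norm_num at h
    have := ρ.charZero
    norm_num at h
  · -- fifth roots give the other equation
    exfalso
    have h5 : g ^ 5 = 1 := by rw [← hm, pow_orderOf_eq_one]
    have hne : g ≠ 1 := fun e => by simp [e] at hm
    have hq : A * A * A * A + A * A * A + A * A + A + 1 = 0 := by
      refine ρ.mul_eq_zero_of_ne_one hne ?_
      have : (ρ.R g) ^ 5 = 1 := by rw [← map_pow, h5, map_one]
      calc (ρ.R g - 1) * (A * A * A * A + A * A * A + A * A + A + 1) = A ^ 5 - 1 := by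
            simp only [A, pow_succ, pow_zero, one_mul]; noncomm_ring
        _ = 0 := by rw [this, sub_self]
    apply hY
    calc S * S + S - 1 = B' * (B' * (A * A * A * A + A * A * A + A * A + A + 1)) := by
          simp only [hS, add_mul, mul_add, mul_one, mul_assoc, h1, h2, hAB, hBA]
          abel
      _ = 0 := by rw [hq, mul_zero, mul_zero]
  · rw [hSdef, ρ.tr_of_order_ten hm, sub_self]

end Cfsg.Agent.Frobenius.FPFRep
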