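import Cfsg.Agent.Lib.Frobenius.ZassCore
import Cfsg.Agent.Lib.Frobenius.ZassBasics
import Cfsg.Agent.Lib.Frobenius.ZassIcosian
import Cfsg.Agent.Lib.Frobenius.Structure
import Cfsg.Agent.S3374

/-!
The group generated by a frame and an element in normal form is `SL(2,5)`.

Main results (namespace `Cfsg.Agent.Frobenius.FPFRep`):
* `core_mulEquiv` : `closure {i, a, c₀} ≃* SL(2, ZMod 5)`
-/

namespace Cfsg.Agent.Frobenius.FPFRep

open Matrix

variable {G : Type*} [Group G] [Fintype G] {ρ : FPFRep G} {i a c₀ : G} {hf : ρ.Frame i a} {D : ρ.E}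

/-- The relation between elements and matrices modulo five. -/
def Img (hn : Normal hf c₀ D) (x : G) (Y : M5) : Prop :=
  Pairs (ρ.R i) (ρ.R (fj i a)) hn.golden (ρ.R x) Y

theorem Img.unique {hn : Normal hf c₀ D} {x : G} {Y Y' : M5} (h : Img hn x Y) (h' : Img hn x Y') :
    Y = Y' := by
  have := ρ.nonempty
  exact Pairs.unique hn.golden hf.pair hn.comm h h'

theorem Img.mul {hn : Normal hf c₀ D} {x y : G} {Y Z : M5} (h : Img hn x Y) (h' : Img hn y Z) :
    Img hn (x * y) (Y * Z) := by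
  rw [Img, map_mul]
  exact Pairs.mul hn.golden hf.pair hn.comm h h'

theorem Img.one (hn : Normal hf c₀ D) : Img hn 1 1 := by
  rw [Img, map_one]
  exact Pairs.one hn.golden

/-- The image of `a`. -/
def A5m : M5 := !![1, 1; 2, 3]

/-- The image of `c₀`. -/
def C5m : M5 := !![2, 1; 3, 2]

theorem ev5_apply (q : Quad Golden) : ev5 q =
    (q.1.re • 1 + q.1.im • 3) + I5 * (q.2.1.re • 1 + q.2.1.im • 3) +
      J5 * (q.2.2.1.re • 1 + q.2.2.1.im • 3) +
      I5 * J5 * (q.2.2.2.re • 1 + q.2.2.2.im • 3) := rfl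

theorem img_i (hn : Normal hf c₀ D) : Img hn i I5 := by
  refine ⟨0, (0, 1, 0, 0), ?_, ?_⟩
  · simp [qev, qsum]
  · simp [ev5, qev, qsum]

theorem img_a (hn : Normal hf c₀ D) : Img hn a A5m := by
  refine ⟨1, (-1, -1, -1, -1), ?_, ?_⟩
  · have h : ρ.R a + ρ.R a + 1 = -(ρ.R i + ρ.R (fj i a) + ρ.R i * ρ.R (fj i a)) := hf.axis_a
    simp only [qev, qsum, map_neg, map_one, mul_neg, mul_one, pow_one, two_zsmul]
    linear_combination (norm := module) -h
  · simp only [ev5, qev, qsum, map_neg, map_one, mul_neg, mul_one, pow_one]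
    decide

theorem img_c (hn : Normal hf c₀ D) : Img hn c₀ C5m := by
  refine ⟨1, (-1, 0, ⟨0, 1⟩, ⟨0, 1⟩ - 1), ?_, ?_⟩
  · have h : ρ.R c₀ + ρ.R c₀ + 1 = qsum (ρ.R i) (ρ.R (fj i a)) 0 0 D (D - 1) := hn.axis_eq
    have hω : ∀ {F : ρ.E} (hF : F * F = F + 1), goldenHom hF ⟨0, 1⟩ = F := fun hF => by
      rw [goldenHom_apply, zero_smul, one_smul, zero_add]
    simp only [qev, qsum, map_neg, map_one, map_zero, map_sub, hω, mul_zero, add_zero, zero_add,
      mul_one, mul_sub, pow_one, two_zsmul] at h ⊢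
    linear_combination (norm := module) -h
  · have hω : goldenHom three_golden5 ⟨0, 1⟩ = (3 : M5) := by
      rw [goldenHom_apply, zero_smul, one_smul, zero_add]
    simp only [ev5, qev, qsum, map_neg, map_one, map_zero, map_sub, hω, pow_one]
    decide

theorem exists_img (hn : Normal hf c₀ D) {x : G}
    (hx : x ∈ Subgroup.closure ({i, a, c₀} : Set G)) : ∃ Y, Img hn x Y ∧ Y.det = 1 := by
  rw [← Subgroup.mem_toSubmonoid, Subgroup.closure_toSubmonoid_of_finite] at hx
  induction hx using Submonoid.closure_induction with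
  | mem x hx =>
    rcases hx with rfl | rfl | rfl
    · exact ⟨_, img_i hn, by simp [I5, Matrix.det_fin_two]; decide⟩
    · exact ⟨_, img_a hn, by simp [A5m, Matrix.det_fin_two]; decide⟩
    · exact ⟨_, img_c hn, by simp [C5m, Matrix.det_fin_two]; decide⟩
  | one => exact ⟨1, Img.one hn, Matrix.det_one⟩
  | mul x y hx hy ihx ihy =>
    obtain ⟨Y, h, hd⟩ := ihx
    obtain ⟨Z, h', hd'⟩ := ihy
    exact ⟨Y * Z, h.mul h', by rw [det_mul, hd, hd', mul_one]⟩

/-- The map to `SL(2, ZMod 5)`. -/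
noncomputable def toSL (hn : Normal hf c₀ D) :
    Subgroup.closure ({i, a, c₀} : Set G) →* SpecialLinearGroup (Fin 2) (ZMod 5) where
  toFun x := ⟨(exists_img hn x.2).choose, (exists_img hn x.2).choose_spec.2⟩
  map_one' := Subtype.ext (Img.unique (exists_img hn (Subgroup.one_mem _)).choose_spec.1 (Img.one hn))
  map_mul' x y := Subtype.ext (Img.unique (exists_img hn (x * y).2).choose_spec.1
    ((exists_img hn x.2).choose_spec.1.mul (exists_img hn y.2).choose_spec.1))

theorem toSL_spec (hn : Normal hf c₀ D) (x : Subgroup.closure ({i, a, c₀} : Set G)) :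
    Img hn x (toSL hn x).1 :=
  (exists_img hn x.2).choose_spec.1

theorem adjoint_eq_self {X X' : ρ.E} (h : ρ.Adj X X') (hs : ρ.IsSym X) : X = X' := by
  by_contra hne
  obtain ⟨w, hw⟩ := ρ.exists_vec_ne_zero (sub_ne_zero.2 hne)
  refine hw (ρ.B_self_eq_zero ?_)
  rw [sub_mulVec, B_sub_right, ← h, hs, sub_self]

/-- An element of the group commuting with the frame squares to one. -/
theorem sq_eq_one_of_commute (hn : Normal hf c₀ D) {x : G}
    (hx : x ∈ Subgroup.closure ({i, a, c₀} : Set G)) (h1 : x * i = i * x)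
    (h2 : x * fj i a = fj i a * x) : x * x = 1 := by
  obtain ⟨Y, ⟨k, q, hq, -⟩, -⟩ := exists_img hn hx
  have hc : hf.pair.Comm (ρ.R x) := ⟨R_commute h1, R_commute h2⟩
  have hcomm := goldenHom_comm hf.pair hn.golden hn.comm
  have hz : qsum (ρ.R i) (ρ.R (fj i a)) (((2 : ℤ) ^ k) • ρ.R x) 0 0 0 = ((2 : ℤ) ^ k) • ρ.R x := by
    simp [qsum]
  rw [← hz] at hq
  obtain ⟨e0, -⟩ := hf.pair.qsum_inj (hcomm _) (hcomm _) (hcomm _) (hcomm _)
    (IsQPair.Comm.zsmul hf.pair hc _) (IsQPair.Comm.zero _) (IsQPair.Comm.zero _)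
    (IsQPair.Comm.zero _) hq
  have hone : ρ.Adj (1 : ρ.E) 1 := fun u v => by rw [one_mulVec, one_mulVec]
  have hsym : ρ.IsSym (ρ.R x) := by
    have hR : ρ.R x = (((2 : ℤ) ^ k : ℤ) : ℝ)⁻¹ •
        (((q.1.re : ℤ) : ℝ) • (1 : ρ.E) + ((q.1.im : ℤ) : ℝ) • D) := by
      rw [eq_inv_smul_iff₀ (by norm_num), Int.cast_smul_eq_zsmul, Int.cast_smul_eq_zsmul,
        Int.cast_smul_eq_zsmul, ← e0, goldenHom_apply]
    rw [hR]
    exact ((hone.smul _).add (hn.sym.adj.smul _)).smul _
  refine eq_inv_iff_mul_eq_one.1 (ρ.R_injective ?_)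
  exact adjoint_eq_self (ρ.B_R_left x) hsym

theorem toSL_eq {hn : Normal hf c₀ D} {x : G} (hx : x ∈ Subgroup.closure ({i, a, c₀} : Set G))
    {Y : M5} (h : Img hn x Y) : (toSL hn ⟨x, hx⟩).1 = Y :=
  Img.unique (toSL_spec hn ⟨x, hx⟩) h

theorem toSL_injective (hn : Normal hf c₀ D) : Function.Injective (toSL hn) := by
  classical
  rw [← MonoidHom.ker_eq_bot_iff]
  by_contra hne
  set K := (toSL hn).ker with hK
  have hsc : SmallCyclic (Subgroup.closure ({i, a, c₀} : Set G)) :=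
    ρ.smallCyclic.of_injective (f := Subgroup.subtype _) Subtype.val_injective
  -- only the prime five occurs
  have h5 : ∀ {p : ℕ}, p.Prime → p ∣ Nat.card K → p = 5 := by
    intro p hp hdvd
    have := Fact.mk hp
    obtain ⟨g, hg⟩ := exists_prime_orderOf_dvd_card' (G := K) p hdvd
    have hg' : orderOf ((g : Subgroup.closure ({i, a, c₀} : Set G)) : G) = p := by
      rw [Subgroup.orderOf_coe, Subgroup.orderOf_coe, hg]
    set y : G := ((g : Subgroup.closure ({i, a, c₀} : Set G)) : G)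
    have hy : ρ.R y ≠ 1 := fun e => by
      rw [← map_one ρ.R] at e
      rw [ρ.R_injective e, orderOf_one] at hg'
      exact hp.ne_one hg'.symm
    have hy1 : y ≠ 1 := fun e => hy (by rw [e, map_one])
    have hsum : ∑ l ∈ Finset.range p, ρ.R y ^ l = 0 := by
      refine ρ.mul_eq_zero_of_ne_one hy1 ?_
      rw [mul_geom_sum, ← map_pow, ← hg', pow_orderOf_eq_one, map_one, sub_self]
    have himg : ∀ l : ℕ, Pairs (ρ.R i) (ρ.R (fj i a)) hn.golden (ρ.R y ^ l) (1 : M5) := by
      intro l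
      have h := toSL_spec hn (((g : Subgroup.closure ({i, a, c₀} : Set G))) ^ l)
      rw [map_pow, MonoidHom.mem_ker.1 g.2, one_pow] at h
      rw [← map_pow]
      exact h
    have hs := Pairs.sum hn.golden (Finset.range p) fun l _ => himg l
    rw [hsum, Finset.sum_const, Finset.card_range] at hs
    have := ρ.nonempty
    have h0 := congrFun (congrFun (Pairs.eq_zero hn.golden hf.pair hn.comm hs) 0) 0
    simp only [Matrix.smul_apply, one_apply_eq, Matrix.zero_apply, nsmul_one] at h0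
    rw [ZMod.natCast_eq_zero_iff] at h0
    exact ((Nat.prime_dvd_prime_iff_eq (by norm_num) hp).1 h0).symm
  have hpg : IsPGroup 5 K :=
    IsPGroup.of_card (Nat.eq_prime_pow_of_unique_prime_dvd Nat.card_pos.ne' h5)
  have := Fact.mk (show Nat.Prime 5 by norm_num)
  have hKnt : Nontrivial K := (Subgroup.nontrivial_iff_ne_bot K).2 hne
  have hZ := hpg.center_nontrivial
  have hZ5 : 5 ∣ Nat.card (Subgroup.center K) := by
    have h1 : 1 < Nat.card (Subgroup.center K) := Finite.one_lt_card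
    obtain ⟨p, hp, hd⟩ := Nat.exists_prime_and_dvd h1.ne'
    rwa [← h5 hp (hd.trans (Subgroup.card_subgroup_dvd_card _))]
  obtain ⟨z, hz⟩ := exists_prime_orderOf_dvd_card' (G := Subgroup.center K) 5 hZ5
  set g : Subgroup.closure ({i, a, c₀} : Set G) := ((z : K) : Subgroup.closure ({i, a, c₀} : Set G))
  have hg : orderOf g = 5 := by rw [Subgroup.orderOf_coe, Subgroup.orderOf_coe, hz]
  -- conjugation gives powers of `g`
  have hconj : ∀ h : Subgroup.closure ({i, a, c₀} : Set G), ∃ m : ℤ, h * g * h⁻¹ = g ^ m := by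
    intro h
    have hmem : h * g * h⁻¹ ∈ K := (MonoidHom.normal_ker (toSL hn)).conj_mem g (z : K).2 h
    have hc : Commute (h * g * h⁻¹) g := by
      have := Subgroup.mem_center_iff.1 z.2 ⟨_, hmem⟩
      exact congrArg Subtype.val this
    obtain ⟨m, hm⟩ := Subgroup.mem_zpowers_iff.1 (hsc.mem_zpowers_of_commute
      (show Nat.Prime 5 by norm_num) (by rw [← MulAut.conj_apply, MulEquiv.orderOf_eq, hg]) hg hc)
    exact ⟨m, hm.symm⟩
  have hcomm : ∀ x y : Subgroup.closure ({i, a, c₀} : Set G),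
      Commute ((y * x)⁻¹ * (x * y)) g := by
    intro x y
    obtain ⟨m, hm⟩ := hconj x
    obtain ⟨l, hl⟩ := hconj y
    have e1 : (x * y) * g * (x * y)⁻¹ = (y * x) * g * (y * x)⁻¹ := by
      calc (x * y) * g * (x * y)⁻¹ = x * (y * g * y⁻¹) * x⁻¹ := by group
        _ = (x * g * x⁻¹) ^ l := by rw [hl, conj_zpow]
        _ = (y * g * y⁻¹) ^ m := by rw [hm, hl, ← _root_.zpow_mul, ← _root_.zpow_mul, mul_comm]
        _ = y * (x * g * x⁻¹) * y⁻¹ := by rw [conj_zpow, hm]
        _ = _ := by group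
    calc (y * x)⁻¹ * (x * y) * g = (y * x)⁻¹ * ((x * y) * g * (x * y)⁻¹) * (x * y) := by group
      _ = g * ((y * x)⁻¹ * (x * y)) := by rw [e1]; group
  set ii : Subgroup.closure ({i, a, c₀} : Set G) := ⟨i, Subgroup.subset_closure (by simp)⟩
  set aa : Subgroup.closure ({i, a, c₀} : Set G) := ⟨a, Subgroup.subset_closure (by simp)⟩
  set jj := aa * ii * aa⁻¹ with hjj
  have hj : Commute jj g := by
    have h := (hcomm aa ii⁻¹).inv_left
    have e : ((ii⁻¹ * aa)⁻¹ * (aa * ii⁻¹))⁻¹ = jj := by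
      refine Subtype.ext ?_
      show ((i⁻¹ * a)⁻¹ * (a * i⁻¹))⁻¹ = fj i a
      rw [show (i⁻¹ * a)⁻¹ * (a * i⁻¹) = a⁻¹ * (i * a * i⁻¹) by group, hf.inv_mul_conj, inv_inv]
    rwa [e] at h
  obtain ⟨m, hm⟩ := hconj aa
  have hi : Commute ii g := by
    have h : Commute (aa⁻¹ * jj * (aa⁻¹)⁻¹) (aa⁻¹ * g ^ m * (aa⁻¹)⁻¹) :=
      SemiconjBy.map (hj.zpow_right m) (MulAut.conj aa⁻¹).toMonoidHom
    rw [← hm, show aa⁻¹ * jj * (aa⁻¹)⁻¹ = ii by rw [hjj]; group,
      show aa⁻¹ * (aa * g * aa⁻¹) * (aa⁻¹)⁻¹ = g by group] at h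
    exact h
  have h1 : (g : G) * i = i * g := congrArg Subtype.val hi.symm.eq
  have h2 : (g : G) * fj i a = fj i a * g := congrArg Subtype.val hj.symm.eq
  have hsq := sq_eq_one_of_commute hn g.2 h1 h2
  have hdvd : orderOf g ∣ 2 := orderOf_dvd_of_pow_eq_one (by
    rw [sq]; exact Subtype.ext hsq)
  rw [hg] at hdvd
  norm_num at hdvd

theorem toSL_surjective (hn : Normal hf c₀ D) : Function.Surjective (toSL hn) := by
  set ii : Subgroup.closure ({i, a, c₀} : Set G) := ⟨i, Subgroup.subset_closure (by simp)⟩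
  set aa : Subgroup.closure ({i, a, c₀} : Set G) := ⟨a, Subgroup.subset_closure (by simp)⟩
  set cc : Subgroup.closure ({i, a, c₀} : Set G) := ⟨c₀, Subgroup.subset_closure (by simp)⟩
  have ei : (toSL hn ii).1 = I5 := toSL_eq _ (img_i hn)
  have ea : (toSL hn aa).1 = A5m := toSL_eq _ (img_a hn)
  have ec : (toSL hn cc).1 = C5m := toSL_eq _ (img_c hn)
  have hu : toSL hn (ii * aa * ii * cc) = ⟨!![1, 1; 0, 1], by simp [Matrix.det_fin_two]⟩ := by
    refine Subtype.ext ?_
    rw [map_mul, map_mul, map_mul]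
    show (toSL hn ii).1 * (toSL hn aa).1 * (toSL hn ii).1 * (toSL hn cc).1 = !![1, 1; 0, 1]
    rw [ei, ea, ec]
    decide
  have hw : toSL hn (ii * aa * aa * ii * aa) =
      ⟨!![0, 4; 1, 0], by simp [Matrix.det_fin_two]; decide⟩ := by
    refine Subtype.ext ?_
    rw [map_mul, map_mul, map_mul, map_mul]
    show (toSL hn ii).1 * (toSL hn aa).1 * (toSL hn aa).1 * (toSL hn ii).1 * (toSL hn aa).1 =
      !![0, 4; 1, 0]
    rw [ei, ea]
    decide
  intro y
  let w : List Bool := S3374.word (S3374.quad y)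
  refine ⟨(w.map fun b => if b then ii * aa * aa * ii * aa else ii * aa * ii * cc).prod, ?_⟩
  have key : ∀ l : List Bool, S3374.quad
      (toSL hn (l.map fun b => if b then ii * aa * aa * ii * aa else ii * aa * ii * cc).prod) =
        S3374.ev (n := 5) (1, 1, 0, 1) (0, 4, 1, 0) l := by
    intro l
    induction l with
    | nil => simp [S3374.ev, S3374.quad_one]
    | cons b l ih =>
      rw [List.map_cons, List.prod_cons, map_mul, S3374.quad_mul, ih]
      cases b
      · rw [if_neg Bool.false_ne_true, hu]; rfl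
      · rw [if_pos rfl, hw]; rfl
  have h := key w
  rw [(S3374.emb_checks _ _ _ _ (S3374.quad_det y)).1] at h
  simp only [S3374.quad, Prod.mk.injEq] at h
  obtain ⟨e00, e01, e10, e11⟩ := h
  refine Subtype.ext (Matrix.ext fun r s => ?_)
  fin_cases r <;> fin_cases s <;> assumption

/-- The group of the normal form is `SL(2,5)`. -/
theorem core_mulEquiv (hn : Normal hf c₀ D) :
    Nonempty (Subgroup.closure ({i, a, c₀} : Set G) ≃* SpecialLinearGroup (Fin 2) (ZMod 5)) :=
  ⟨MulEquiv.ofBijective (toSL hn) ⟨toSL_injective hn, toSL_surjective hn⟩⟩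

end Cfsg.Agent.Frobenius.FPFRep
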